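import Cfsg.Agent.Lib.DegreeThreeP.Sums
import Cfsg.Agent.Lib.Perm.TraceAlgebra

/-!
# Degree `3 p`: the constituents of the permutation character
-/

set_option autoImplicit false
set_option linter.unusedSectionVars false
set_option linter.style.haveILetI false

namespace CfsgLib.DegreeThreeP

open Cfsg CfsgLib MulAction
open scoped CfsgLib.Char
open scoped _root_.Classical

variable {G : Type*} [Group G] [Fintype G] [IsSimpleGroup G] {Ω : Type*} [Fintype Ω]
  [MulAction G Ω] [FaithfulSMul G Ω] [IsPretransitive G Ω] {p : ℕ} [Fact p.Prime]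

/-- No two conjugates, one of `t` and one of another class of involutions, multiply to an element
of order `p`. -/
theorem mixed (D : PMinusTwo.Data G p) (hcen : Subgroup.center G = ⊥) {g : G} (hg : g * g = 1)
    (hne : ¬ IsConj D.t g) {j : ℕ} (hj : j ∈ D.J) :
    ∑ χ : IrrCharacter G, (D.u χ j : ℂ) * ((χ : G → ℂ) D.t * (χ : G → ℂ) g / (χ : G → ℂ) 1) = 0 := by
  obtain ⟨hj0, hjp⟩ := D.mem_J.mp hj
  have hp : (p : ℂ) ≠ 0 := Nat.cast_ne_zero.mpr (Fact.out : p.Prime).ne_zero
  refine mul_left_cancel₀ hp ?_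
  rw [mul_zero, Finset.mul_sum, Finset.sum_congr rfl (g := fun χ : IrrCharacter G =>
    ∑ i ∈ Finset.range p, ((D.root ^ j) ^ i - 1) *
      ((χ : G → ℂ) D.t * (χ : G → ℂ) g * (χ : G → ℂ) (D.v ^ i) / (χ : G → ℂ) 1)) fun χ _ => by
    rw [← mul_assoc, D.u_spec, Finset.sum_mul]
    exact Finset.sum_congr rfl fun i _ => by ring, Finset.sum_comm]
  refine Finset.sum_eq_zero fun i hi => ?_
  rw [← Finset.mul_sum]
  rcases Nat.eq_zero_or_pos i with rfl | h0
  · simp
  have hip := Finset.mem_range.mp hi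
  have hki : D.v ^ (p - i) ≠ 1 := D.v_pow_ne_one (by omega) (by omega)
  have hinv : ∀ a b : G, IsConj a b → a * a = 1 → b * b = 1 := by
    intro a b hab ha
    obtain ⟨c, rfl⟩ := isConj_iff.mp hab
    calc c * a * c⁻¹ * (c * a * c⁻¹) = c * (a * a) * c⁻¹ := by group
      _ = 1 := by rw [ha, mul_one, mul_inv_cancel]
  have hempty : IsEmpty {q : G × G // IsConj D.t q.1 ∧ IsConj g q.2 ∧ q.1 * q.2 = D.v ^ (p - i)} := by
    refine ⟨fun ⟨⟨a, b⟩, ha, hb, hab⟩ => hne ?_⟩
    simp only at ha hb hab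
    have ha' := hinv _ _ ha D.tt
    have hb' := hinv _ _ hb hg
    have hai : a⁻¹ = a := inv_eq_of_mul_eq_one_right ha'
    have hbi : b⁻¹ = b := inv_eq_of_mul_eq_one_right hb'
    have h1 : a * D.v ^ (p - i) * a⁻¹ = (D.v ^ (p - i))⁻¹ := by
      rw [← hab, hai, mul_inv_rev, hai, hbi, ← mul_assoc a a b, ha', one_mul]
    obtain ⟨n, hn⟩ := D.exists_root (Subgroup.npow_mem_zpowers D.v (p - i)) hki
    have h2 : a * D.v * a⁻¹ = D.v⁻¹ := by rw [← hn, ← conj_pow, h1, inv_pow]
    obtain ⟨k, w, hw, hkw⟩ := D.cent (D.t * a) (by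
      have h3 : a * D.v = D.v⁻¹ * a := by rw [← h2]; group
      have h4 : D.t * D.v⁻¹ = D.v * D.t := by rw [← D.tv]; simp [← mul_assoc, D.tt]
      rw [mul_assoc, h3, ← mul_assoc, h4, mul_assoc])
    rw [hcen, Subgroup.mem_bot] at hw
    subst hw
    rw [mul_one] at hkw
    have hat : a = D.t * D.v ^ k := by rw [← hkw, ← mul_assoc, D.tt, one_mul]
    have hbt : b = D.t * D.v ^ (k + (p - i)) := by
      rw [pow_add, ← mul_assoc, ← hat, ← hab, ← mul_assoc, ha', one_mul]
    exact ((hbt ▸ D.isConj_t _ : IsConj D.t b)).trans hb.symm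
  have hcm := Char.class_mult D.t g (D.v ^ (p - i))
  rw [Nat.card_of_isEmpty, Nat.cast_zero] at hcm
  have e : (D.v ^ (p - i))⁻¹ = D.v ^ i := by
    rw [inv_eq_iff_mul_eq_one, ← pow_add, Nat.sub_add_cancel hip.le, D.v_pow_p]
  simp only [← Blocks.irr_value_inv (Subtype.prop _), e] at hcm
  have h0' : ((Subgroup.centralizer ({D.t} : Set G)).index : ℂ) *
      ((Subgroup.centralizer ({g} : Set G)).index : ℂ) / (Nat.card G : ℂ) ≠ 0 :=
    div_ne_zero (mul_ne_zero (Nat.cast_ne_zero.mpr Subgroup.index_ne_zero_of_finite)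
      (Nat.cast_ne_zero.mpr Subgroup.index_ne_zero_of_finite)) (Nat.cast_ne_zero.mpr Nat.card_pos.ne')
  rw [(mul_eq_zero.mp hcm.symm).resolve_left h0', mul_zero]

/-- The principal block. -/
structure Block (D : PMinusTwo.Data G p) where
  A : IrrCharacter G
  C : ℕ → IrrCharacter G
  s : ℤ
  s_pm : s = -1 ∨ s = 1
  A_ne : Blocks.trivIrr G ≠ A
  A_u : ∀ j ∈ D.J, D.u A j = s
  C_ne : ∀ j ∈ D.J, C j ≠ Blocks.trivIrr G ∧ C j ≠ A
  C_inj : Set.InjOn C D.J
  C_u : ∀ j ∈ D.J, D.u (C j) j = -1 ∨ D.u (C j) j = 1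
  supp_eq : ∀ j ∈ D.J, D.supp 1 j = {Blocks.trivIrr G, A, C j}
  rel : ∀ j ∈ D.J, ∀ g : G, ¬ p ∣ orderOf g →
    -1 + (s : ℂ) * (A : G → ℂ) g + (D.u (C j) j : ℂ) * (C j : G → ℂ) g = 0
  out : ∀ χ : IrrCharacter G, χ ≠ Blocks.trivIrr G → χ ≠ A → (∀ j ∈ D.J, χ ≠ C j) →
    ∀ j ∈ D.J, D.u χ j = 0

theorem exists_block (D : PMinusTwo.Data G p) (hcen : Subgroup.center G = ⊥) : Nonempty (Block D) := by
  set e := Blocks.trivIrr G with he
  have hval1 : ∀ g : G, ((e : IrrCharacter G) : G → ℂ) g = 1 := fun g => rfl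
  obtain ⟨A, B, j₁, hj₁, hsupp, hAe, hBe, hAB, hAu, hBu⟩ := D.triv_rows
  have hfam := D.fam_eq hcen 1
  replace hAe : e ≠ A := hAe
  have hm1 : A ∈ D.supp 1 j₁ := by rw [hsupp]; simp
  have hs : D.u A j₁ = -1 ∨ D.u A j₁ = 1 := by
    rcases D.u_sq_le (D.mem_supp.mp hm1).1 hj₁ with a | a | a
    · exact Or.inl a
    · exact absurd a (D.mem_supp.mp hm1).2
    · exact Or.inr a
  have hem : ∀ j ∈ D.J, e ∈ D.supp 1 j := fun j hj =>
    D.mem_supp.mpr ⟨by rw [hfam]; simp, by rw [D.u_triv j hj]; norm_num⟩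
  have hAm : ∀ j ∈ D.J, A ∈ D.supp 1 j := fun j hj =>
    D.mem_supp.mpr ⟨by rw [hfam]; simp, by rw [hAu j hj]; rcases hs with h | h <;> omega⟩
  have hex : ∀ j ∈ D.J, ∃ C : IrrCharacter G, C ≠ e ∧ C ≠ A ∧ D.supp 1 j = {e, A, C} := by
    intro j hj
    have hA' : A ∈ (D.supp 1 j).erase e := Finset.mem_erase.mpr ⟨hAe.symm, hAm j hj⟩
    obtain ⟨C, hC⟩ := Finset.card_eq_one.mp (show (((D.supp 1 j).erase e).erase A).card = 1 by
      rw [Finset.card_erase_of_mem hA', Finset.card_erase_of_mem (hem j hj), D.card_supp 1 hj])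
    have hCm : C ∈ ((D.supp 1 j).erase e).erase A := by rw [hC]; simp
    simp only [Finset.mem_erase] at hCm
    exact ⟨C, hCm.2.1, hCm.1, by rw [← Finset.insert_erase (hem j hj), ← Finset.insert_erase hA', hC]⟩
  haveI : Nonempty (IrrCharacter G) := ⟨e⟩
  choose! C hCe hCA hCs using hex
  have hCmem : ∀ j ∈ D.J, C j ∈ D.supp 1 j := fun j hj => by rw [hCs j hj]; simp
  refine ⟨{
    A := A, C := C, s := D.u A j₁, s_pm := hs, A_ne := hAe, A_u := hAu
    C_ne := fun j hj => ⟨hCe j hj, hCA j hj⟩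
    C_inj := fun i hi j hj hij => ?_
    C_u := fun j hj => ?_
    supp_eq := hCs
    rel := fun j hj g hg => ?_
    out := fun χ h1 h2 h3 j hj => ?_ }⟩
  · by_contra hne
    have h : ({e, A, C i} : Finset (IrrCharacter G)) ⊆ D.supp 1 i ∩ D.supp 1 j := by
      intro x hx
      simp only [Finset.mem_insert, Finset.mem_singleton] at hx
      rcases hx with rfl | rfl | rfl
      exacts [Finset.mem_inter.mpr ⟨hem i hi, hem j hj⟩, Finset.mem_inter.mpr ⟨hAm i hi, hAm j hj⟩,
        Finset.mem_inter.mpr ⟨hCmem i hi, hij ▸ hCmem j hj⟩]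
    have := Finset.card_le_card h
    rw [D.card_inter 1 hi hj hne, Finset.card_insert_of_notMem (by simp [hAe, (hCe i hi).symm]),
      Finset.card_pair (hCA i hi).symm] at this
    omega
  · rcases D.u_sq_le (D.mem_supp.mp (hCmem j hj)).1 hj with a | a | a
    · exact Or.inl a
    · exact absurd a (D.mem_supp.mp (hCmem j hj)).2
    · exact Or.inr a
  · have h := D.orth 1 j hg
    rw [D.sum_supp 1 (hCs j hj), Finset.sum_insert (by simp [hAe, (hCe j hj).symm]),
      Finset.sum_insert (by simp [(hCA j hj).symm]), Finset.sum_singleton, hval1, he,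
      D.u_triv j hj, hAu j hj] at h
    push_cast at h
    linear_combination h
  · by_contra h
    have : χ ∈ D.supp 1 j := D.mem_supp.mpr ⟨by rw [hfam]; simp, h⟩
    rw [hCs j hj] at this
    simp only [Finset.mem_insert, Finset.mem_singleton] at this
    rcases this with h | h | h
    exacts [h1 h, h2 h, h3 j hj h]

/-- What is known in the case of the parameter `b`. -/
def HasEq (D : PMinusTwo.Data G p) (B a : ℤ) : Prop :=
  (Nat.card (Subgroup.centralizer ({D.t} : Set G)) : ℤ) ^ 2 * ((B - 1) * (B - 2)) =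
    2 * (Nat.card (Sylow p G) : ℤ) * (B - 1 - a) ^ 2

/-- One class of involutions. -/
def OneClass (D : PMinusTwo.Data G p) : Prop :=
  ∀ u : G, orderOf u = 2 → IsConj D.t u

/-- The arithmetic of an orbital. -/
def Orbital (D : PMinusTwo.Data G p) (Ω : Type*) [Fintype Ω] [MulAction G Ω] : Prop :=
  ∀ a b : Ω, b ≠ a → ∃ j : ℕ,
    (Finset.univ.filter fun x : Ω => ∃ g : G, g • a = x ∧ g • b = D.v • x).card = j * p ∧
    3 * (p : ℤ) * Nat.card (orbit (stabilizer G a) b) =
      (Nat.card (orbit (stabilizer G a) b) : ℤ) ^ 2 +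
        (2 * (p : ℤ) - 1) * ((Nat.card (orbit (stabilizer G a) b) : ℤ) - j * p) ^ 2 +
        p * (j + 2 * ((Nat.card (orbit (stabilizer G a) b) : ℤ) - j * p)) ^ 2

theorem orbital_of_constituents (K : Ctx G Ω p) (D : PMinusTwo.Data G p) {m : IrrCharacter G → ℕ}
    (hm : (fun g : G => (Nat.card (fixedBy Ω g) : ℂ)) =
      ∑ χ : IrrCharacter G, (m χ : ℂ) • (χ : G → ℂ)) (hm1 : ∀ χ, m χ ≤ 1) {A E : IrrCharacter G}
    (hsupp : ∀ χ, χ ≠ Blocks.trivIrr G → χ ≠ A → χ ≠ E → m χ = 0)
    (hAe : Blocks.trivIrr G ≠ A) (hEe : Blocks.trivIrr G ≠ E) (hAE : A ≠ E)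
    (hA1 : (A : G → ℂ) 1 = 2 * (p : ℂ) - 1) (hAv : (A : G → ℂ) D.v = -1)
    (hE1 : (E : G → ℂ) 1 = (p : ℂ)) (hEv : (E : G → ℂ) D.v = 0) : Orbital D Ω := by
  intro a b hba
  set M := TraceAlgebra.orbMatrix G a b with hM
  have hMi : TraceAlgebra.Inv G M := TraceAlgebra.inv_orbMatrix a b
  set k := Nat.card (orbit (stabilizer G a) b) with hk
  set X := Finset.univ.filter fun x : Ω => ∃ g : G, g • a = x ∧ g • b = D.v • x with hX
  set e := Blocks.trivIrr G with he
  have hval1 : ∀ g : G, ((e : IrrCharacter G) : G → ℂ) g = 1 := fun g => rfl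
  have hsum3 : ∀ f : IrrCharacter G → ℂ, (∀ χ, m χ = 0 → f χ = 0) →
      ∑ χ : IrrCharacter G, f χ = f e + f A + f E := by
    intro f hf
    rw [← Finset.sum_subset (Finset.subset_univ {e, A, E}) fun χ _ hχ => by
      simp only [Finset.mem_insert, Finset.mem_singleton, not_or] at hχ
      exact hf χ (hsupp χ hχ.1 hχ.2.1 hχ.2.2), Finset.sum_insert (by simp [hAe, hEe]),
      Finset.sum_pair hAE]
    ring
  have hevk : TraceAlgebra.ev M e = (k : ℂ) := by
    rw [he, TraceAlgebra.ev_triv hMi a, hk, Nat.card_eq_fintype_card]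
    simp only [hM, TraceAlgebra.orbMatrix_row, Finset.sum_boole]
    rw [Fintype.card_subtype]
  have htr : ∀ g : G, TraceAlgebra.tr M g = (k : ℂ) + TraceAlgebra.ev M A * (A : G → ℂ) g +
      TraceAlgebra.ev M E * (E : G → ℂ) g := by
    intro g
    rw [TraceAlgebra.tr_eq hm hm1 hMi g, hsum3 _ fun χ h => by
      rw [TraceAlgebra.ev_outside hm hm1 hMi h, zero_mul], hevk, hval1, mul_one]
  have h0 : TraceAlgebra.tr M (1 : G) = 0 := by
    refine Finset.sum_eq_zero fun x _ => ?_
    rw [one_smul, hM, TraceAlgebra.orbMatrix, if_neg]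
    rintro ⟨g, h1, h2⟩
    exact hba (smul_left_cancel g (h2.trans h1.symm))
  have hv : TraceAlgebra.tr M D.v = (X.card : ℂ) := by
    simp only [TraceAlgebra.tr, hM, TraceAlgebra.orbMatrix, hX]
    convert (Finset.natCast_card_filter (R := ℂ)
      (fun x : Ω => ∃ g : G, g • a = x ∧ g • b = D.v • x) Finset.univ).symm using 1
    exact Finset.sum_congr rfl fun x _ => by split_ifs <;> rfl
  have hpX : p ∣ X.card := by
    haveI : Fact p.Prime := ⟨K.prime⟩
    let S : SubMulAction (Subgroup.zpowers D.v) Ω :=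
      { carrier := {x | ∃ g : G, g • a = x ∧ g • b = D.v • x}
        smul_mem' := by
          rintro ⟨w, hw⟩ x ⟨g, h1, h2⟩
          refine ⟨w * g, by rw [mul_smul, h1]; rfl, ?_⟩
          obtain ⟨i, rfl⟩ := Subgroup.mem_zpowers_iff.mp hw
          show (D.v ^ i * g) • b = D.v • (D.v ^ i • x)
          rw [mul_smul, h2, smul_smul, smul_smul, (Commute.zpow_self D.v i).eq] }
    have hmod := (IsPGroup.of_card (n := 1) (G := Subgroup.zpowers D.v)
      (by rw [Nat.card_zpowers, D.ordv, pow_one])).card_modEq_card_fixedPoints S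
    haveI : IsEmpty (fixedPoints (Subgroup.zpowers D.v) S) := ⟨fun ⟨x, hx⟩ =>
      K.free D.ordv (x : Ω) (congrArg Subtype.val (hx ⟨D.v, Subgroup.mem_zpowers _⟩))⟩
    rw [Nat.card_of_isEmpty (α := fixedPoints (Subgroup.zpowers D.v) S)] at hmod
    have : Nat.card S = X.card := by
      rw [← Fintype.card_coe, ← Nat.card_eq_fintype_card]
      refine Nat.card_congr (Equiv.subtypeEquivRight fun x => ?_)
      simp only [hX, Finset.mem_filter, Finset.mem_univ, true_and]
      exact Iff.rfl
    rw [← this]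
    exact Nat.modEq_zero_iff_dvd.mp hmod
  obtain ⟨j, hj⟩ := hpX
  rw [mul_comm] at hj
  have hev_A : TraceAlgebra.ev M A = (k : ℂ) - (j : ℂ) * p := by
    have h := htr D.v
    rw [hv, hAv, hEv, hj] at h
    push_cast at h
    linear_combination h
  have hev_E : TraceAlgebra.ev M E = -((j : ℂ) + 2 * ((k : ℂ) - (j : ℂ) * p)) := by
    have h := htr 1
    rw [h0, hA1, hE1, hev_A] at h
    refine mul_left_cancel₀ (Nat.cast_ne_zero.mpr K.prime.ne_zero : (p : ℂ) ≠ 0) ?_
    linear_combination -h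
  have h2 := TraceAlgebra.tr_mul hm hm1 hMi hMi.conjTranspose (1 : G)
  rw [hsum3 _ fun χ h => by rw [TraceAlgebra.ev_outside hm hm1 hMi h, zero_mul, zero_mul],
    TraceAlgebra.ev_conjTranspose hMi, TraceAlgebra.ev_conjTranspose hMi,
    TraceAlgebra.ev_conjTranspose hMi, hevk, hev_A, hev_E, hA1, hE1, hval1] at h2
  have hL : TraceAlgebra.tr (M * M.conjTranspose) (1 : G) = 3 * (p : ℂ) * k := by
    have hrow : ∀ x, (M * M.conjTranspose) x ((1 : G) • x) = (k : ℂ) := by
      intro x
      rw [← hevk, he, TraceAlgebra.ev_triv hMi a, ← TraceAlgebra.row_sum hMi a x, one_smul,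
        Matrix.mul_apply]
      refine Finset.sum_congr rfl fun y _ => ?_
      rw [Matrix.conjTranspose_apply, hM, TraceAlgebra.orbMatrix]
      split_ifs <;> simp
    rw [TraceAlgebra.tr, Finset.sum_congr rfl fun x _ => hrow x, Finset.sum_const, Finset.card_univ,
      K.card_omega, nsmul_eq_mul]
    push_cast; ring
  rw [hL] at h2
  simp only [map_neg, map_add, map_sub, map_mul, map_natCast, map_ofNat] at h2
  refine ⟨j, hj, ?_⟩
  apply Int.cast_injective (α := ℂ)
  push_cast
  linear_combination h2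

theorem cases (K : Ctx G Ω p) (D : PMinusTwo.Data G p) :
    (p = 5 ∧ rank G Ω = 3 ∧ 7 ∣ Nat.card G) ∨
    (∃ B : IrrCharacter G, charDegree (B : G → ℂ) = p - 2 ∧ B ≠ Blocks.trivIrr G ∧ OneClass D ∧
      HasEq D p 0) ∨
    (rank G Ω = 3 ∧ OneClass D ∧ HasEq D (2 * p) 1 ∧ Orbital D Ω) ∨
    (rank G Ω = 2 ∧ OneClass D ∧ HasEq D (3 * p) ((fx Ω D.t : ℤ) - 1)) := by
  have hpp := K.prime
  have h5 := K.five_le
  have hcen := K.center_bot
  haveI := K.nonempty
  have x₀ : Ω := Classical.arbitrary Ω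
  obtain ⟨M⟩ := exists_block D hcen
  obtain ⟨A, C, s, hs, hAe, hAu, hCne, hCinj, hCu, hsupp, hrel, hout⟩ := M
  set e := Blocks.trivIrr G with he
  have hval1 : ∀ g : G, ((e : IrrCharacter G) : G → ℂ) g = 1 := fun g => rfl
  have hfam := D.fam_eq hcen 1
  obtain ⟨m, hin, hsq, htriv, hdeg⟩ := Cfsg.Agent.Lib.Perm.exists_mult (G := G) x₀
  have hm : (fun g : G => (Nat.card (fixedBy Ω g) : ℂ)) =
      ∑ χ : IrrCharacter G, (m χ : ℂ) • (χ : G → ℂ) := by
    obtain ⟨m', hm'⟩ := Char.exists_multiplicities (Char.isCharacter_character (Cfsg.permRep ℂ G Ω))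
    rw [Cfsg.Agent.Lib.Perm.permRep_character] at hm'
    have : m' = m := funext fun χ => Nat.cast_injective (R := ℂ) (by
      rw [← hin χ, hm', Char.classInner_sum_smul_irr])
    rw [hm', this]
  have hrank : ∑ χ : IrrCharacter G, m χ * m χ = rank G Ω := by
    rw [hsq, rank, Cfsg.Agent.Lib.Perm.natCard_orbits_pairs x₀]
  have hme : m e = 1 := htriv e (funext hval1)
  set d : IrrCharacter G → ℤ := fun χ => (charDegree (χ : G → ℂ) : ℤ) with hd
  have hd1 : ∀ χ : IrrCharacter G, (χ : G → ℂ) 1 = (d χ : ℂ) := fun χ => by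
    rw [(Blocks.irr_degree_eq χ).1, hd]; push_cast; rfl
  have hdpos : ∀ χ : IrrCharacter G, 1 ≤ d χ := fun χ => by
    have := (Blocks.irr_degree_eq χ).2
    simp only [hd]; omega
  have hde : d e = 1 := by
    have := hd1 e
    rw [hval1] at this
    exact_mod_cast this.symm
  have hsum : ∑ χ : IrrCharacter G, (m χ : ℤ) * d χ = 3 * p := by
    rw [K.card_omega] at hdeg
    simp only [hd1] at hdeg
    have h : ((∑ χ : IrrCharacter G, (m χ : ℤ) * d χ : ℤ) : ℂ) = ((3 * (p : ℤ) : ℤ) : ℂ) := by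
      push_cast at hdeg ⊢; rw [← hdeg]
    exact_mod_cast h
  obtain ⟨T, hT⟩ := D.odd_p
  have hJ : D.J.card = T := by rw [PMinusTwo.Data.J, Nat.card_Icc]; omega
  obtain ⟨j₁, hj₁⟩ : ∃ j, j ∈ D.J := ⟨1, D.mem_J.mpr ⟨le_rfl, by omega⟩⟩
  -- the multiplicities in the block
  have hmu : ∀ j ∈ D.J, ∑ χ : IrrCharacter G, (m χ : ℤ) * D.u χ j = 0 := by
    intro j hj
    apply Int.cast_injective (α := ℂ)
    refine mul_left_cancel₀ (Nat.cast_ne_zero.mpr hpp.ne_zero : (p : ℂ) ≠ 0) ?_
    push_cast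
    rw [mul_zero, Finset.mul_sum, Finset.sum_congr rfl (g := fun χ : IrrCharacter G =>
      ∑ i ∈ Finset.range p, ((D.root ^ j) ^ i - 1) * ((m χ : ℂ) * (χ : G → ℂ) (D.v ^ i)))
      fun χ _ => by
        rw [mul_left_comm, D.u_spec, Finset.mul_sum]
        exact Finset.sum_congr rfl fun i _ => by ring, Finset.sum_comm]
    refine Finset.sum_eq_zero fun i hi => ?_
    rw [← Finset.mul_sum]
    rcases Nat.eq_zero_or_pos i with rfl | h0
    · simp
    have := congrFun hm (D.v ^ i)
    simp only [Finset.sum_apply, Pi.smul_apply, smul_eq_mul] at this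
    have hsing : p ∣ orderOf (D.v ^ i) := by
      have h1 : (D.v ^ i) ^ p = 1 := by rw [← pow_mul, mul_comm, pow_mul, D.v_pow_p, one_pow]
      rcases (Nat.dvd_prime hpp).mp (orderOf_dvd_of_pow_eq_one h1) with h | h
      · exact absurd (orderOf_eq_one_iff.mp h) (D.v_pow_ne_one h0 (Finset.mem_range.mp hi))
      · exact h.symm ▸ dvd_rfl
    have hz : (Nat.card (fixedBy Ω (D.v ^ i)) : ℂ) = 0 := by
      rw [show Nat.card (fixedBy Ω (D.v ^ i)) = fx Ω (D.v ^ i) from rfl, K.fx_singular hsing,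
        Nat.cast_zero]
    rw [← this, hz, mul_zero]
  have hdA : d A = (p : ℤ) * D.n A 0 + ((p : ℤ) - 1) * s := D.n_zero_degree hAu
  have hrel1 : ∀ j ∈ D.J, -1 + s * d A + D.u (C j) j * d (C j) = 0 := by
    intro j hj
    have h := hrel j hj 1 PMinusTwo.Data.one_regular
    rw [hd1, hd1] at h
    exact_mod_cast h
  have hmrel : ∀ j ∈ D.J, s * m A + D.u (C j) j * m (C j) = 1 := by
    intro j hj
    have h := hmu j hj
    rw [← Finset.sum_subset (Finset.subset_univ (D.supp 1 j)) fun χ _ hχ => by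
      rw [show D.u χ j = 0 from not_not.mp fun h => hχ (D.mem_supp.mpr ⟨by rw [hfam]; simp, h⟩),
        mul_zero], hsupp j hj, Finset.sum_insert (by simp [hAe, (hCne j hj).1.symm]),
      Finset.sum_insert (by simp [(hCne j hj).2.symm]), Finset.sum_singleton, hme, he,
      D.u_triv j hj, hAu j hj] at h
    push_cast at h
    linarith [mul_comm s (m A : ℤ), mul_comm (D.u (C j) j) (m (C j) : ℤ)]
  set S : Finset (IrrCharacter G) := D.J.image C with hS
  have hScard : S.card = T := by rw [hS, Finset.card_image_of_injOn hCinj, hJ]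
  have hSe : e ∉ S := by
    rw [hS]; simp only [Finset.mem_image, not_exists, not_and]
    exact fun j hj h => (hCne j hj).1 h
  have hSA : A ∉ S := by
    rw [hS]; simp only [Finset.mem_image, not_exists, not_and]
    exact fun j hj h => (hCne j hj).2 h
  set R : Finset (IrrCharacter G) := Finset.univ \ (insert e (insert A S)) with hR
  have hsplit : ∀ f : IrrCharacter G → ℤ, ∑ χ : IrrCharacter G, f χ =
      f e + f A + ∑ χ ∈ S, f χ + ∑ χ ∈ R, f χ := by
    intro f
    rw [hR, ← Finset.sum_sdiff (Finset.subset_univ (insert e (insert A S))),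
      Finset.sum_insert (by simp [hAe, hSe]), Finset.sum_insert hSA]
    ring
  have hR0 : ∀ χ ∈ R, d χ = p * D.n χ 0 ∧ ∀ j ∈ D.J, D.u χ j = 0 := by
    intro χ hχ
    simp only [hR, Finset.mem_sdiff, Finset.mem_univ, true_and, Finset.mem_insert, not_or] at hχ
    have h0 := hout χ hχ.1 hχ.2.1 fun j hj h => hχ.2.2 (by rw [hS]; exact Finset.mem_image.mpr ⟨j, hj, h.symm⟩)
    refine ⟨?_, h0⟩
    show (charDegree (χ : G → ℂ) : ℤ) = _
    rw [D.n_zero_degree h0, mul_zero, add_zero]
  obtain ⟨Nsum, hNsum⟩ : ∃ Nsum : ℕ, ∑ χ ∈ R, (m χ : ℤ) * d χ = p * Nsum :=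
    ⟨∑ χ ∈ R, m χ * D.n χ 0, by
      push_cast
      rw [Finset.mul_sum]
      exact Finset.sum_congr rfl fun χ hχ => by rw [(hR0 χ hχ).1]; ring⟩
  have hmain := hsplit fun χ => (m χ : ℤ) * d χ
  rw [hsum, hme, hde, hNsum, Nat.cast_one, mul_one] at hmain
  have hTp : (p : ℤ) = 2 * T + 1 := by exact_mod_cast hT
  rcases hs with hs | hs
  · -- type I
    rw [hs] at hdA hrel1 hmrel
    have hC1 : ∀ j ∈ D.J, d (C j) = d A + 1 ∧ (m (C j) : ℤ) = m A + 1 := by
      intro j hj
      have h1 := hrel1 j hj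
      have h2 := hmrel j hj
      have := hdpos (C j)
      have := hdpos A
      rcases hCu j hj with u | u <;> rw [u] at h1 h2 <;> omega
    have hSsum : ∑ χ ∈ S, (m χ : ℤ) * d χ = T * (((m A : ℤ) + 1) * (d A + 1)) := by
      rw [hS, Finset.sum_image hCinj, Finset.sum_congr rfl fun j hj => by
        rw [(hC1 j hj).1, (hC1 j hj).2], Finset.sum_const, hJ, nsmul_eq_mul]
    rw [hSsum] at hmain
    have hA2 : 2 ≤ d A := by
      have h1 := hdpos A
      have : d A ≠ 1 := fun h => hAe (D.eq_triv_of_degree_one (χ := A) (by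
        have h' : (charDegree (A : G → ℂ) : ℤ) = 1 := h
        exact_mod_cast h')).symm
      omega
    have hn2 : 2 ≤ (D.n A 0 : ℤ) := by
      by_contra hlt
      push Not at hlt
      rcases Nat.lt_or_ge (D.n A 0) 1 with h | h
      · rw [show D.n A 0 = 0 by omega] at hdA; push_cast at hdA; omega
      · rw [show D.n A 0 = 1 by omega] at hdA; push_cast at hdA; omega
    have hAp : (p : ℤ) + 1 ≤ d A := by
      have : (p : ℤ) * 2 ≤ p * D.n A 0 := mul_le_mul_of_nonneg_left hn2 (by positivity)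
      linarith
    have hN0 : (0 : ℤ) ≤ (p : ℤ) * Nsum := by positivity
    have hT2 : (2 : ℤ) ≤ T := by omega
    have hmA : m A = 0 := by
      by_contra h
      have h2 : (2 : ℤ) * ((p : ℤ) + 2) ≤ ((m A : ℤ) + 1) * (d A + 1) :=
        mul_le_mul (by omega) (by omega) (by omega) (by omega)
      have h3 := mul_le_mul hT2 h2 (by omega) (by omega)
      have : (0 : ℤ) ≤ (m A : ℤ) * d A := by positivity
      linarith
    rw [hmA] at hmain
    simp only [Nat.cast_zero, zero_add, one_mul, zero_mul, add_zero] at hmain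
    have hT' : T = 2 := by
      by_contra h
      have h3 : (3 : ℤ) * (p + 2) ≤ T * (d A + 1) :=
        mul_le_mul (by omega) (by omega) (by omega) (by omega)
      omega
    have hp5 : p = 5 := by omega
    subst hp5
    rw [hT'] at hmain
    have hd6 : d A = 6 ∧ Nsum = 0 := by
      push_cast at hmain hdA hAp
      omega
    refine Or.inl ⟨rfl, ?_, ?_⟩
    · rw [← hrank]
      have h := hsplit fun χ => (m χ : ℤ) * m χ
      have hS2 : ∑ χ ∈ S, (m χ : ℤ) * m χ = 2 := by
        rw [hS, Finset.sum_image hCinj, Finset.sum_congr rfl fun j hj => by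
          rw [(hC1 j hj).2, hmA], Finset.sum_const, hJ, hT']
        norm_num
      have hR2 : ∑ χ ∈ R, (m χ : ℤ) * m χ = 0 := by
        refine Finset.sum_eq_zero fun χ hχ => ?_
        have h0 := (Finset.sum_eq_zero_iff_of_nonneg (s := R)
          (f := fun χ => (m χ : ℤ) * d χ) fun χ _ => mul_nonneg (by positivity)
            (by have := hdpos χ; omega)).mp (by rw [hNsum, hd6.2]; simp) χ hχ
        have := hdpos χ
        rw [(mul_eq_zero.mp h0).resolve_right (by omega), mul_zero]
      rw [hme, hmA, hS2, hR2] at h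
      have : ((∑ χ : IrrCharacter G, m χ * m χ : ℕ) : ℤ) = (3 : ℕ) := by push_cast; rw [h]; norm_num
      exact_mod_cast this
    · obtain ⟨n, hn, -, hdvd⟩ := Char.exists_degree_dvd_card (C j₁).2
      have h1 : (n : ℤ) = 7 := by
        have : ((n : ℤ) : ℂ) = ((d (C j₁) : ℤ) : ℂ) := by rw [← hd1, hn]; push_cast; rfl
        have := Int.cast_injective this
        rw [this, (hC1 j₁ hj₁).1, hd6.1]; norm_num
      rwa [show n = 7 by exact_mod_cast h1] at hdvd
  · -- type II
    rw [hs] at hdA hrel1 hmrel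
    have hn : ∀ χ, (0 : ℤ) ≤ (D.n χ 0 : ℤ) := fun χ => by positivity
    have hC1 : ∀ j ∈ D.J, D.u (C j) j = -1 ∧ d (C j) = d A - 1 ∧ (m A : ℤ) = m (C j) + 1 := by
      intro j hj
      have h1 := hrel1 j hj
      have h2 := hmrel j hj
      have := hdpos (C j)
      have hp1 : (p : ℤ) - 1 ≤ d A := by
        have : (0 : ℤ) ≤ (p : ℤ) * D.n A 0 := by positivity
        linarith
      rcases hCu j hj with u | u <;> rw [u] at h1 h2 ⊢ <;> omega
    obtain ⟨b, hb⟩ : ∃ b : ℕ, b = D.n A 0 + 1 := ⟨_, rfl⟩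
    have hdAb : d A = b * p - 1 := by rw [hdA, hb]; push_cast; ring
    have hdC : ∀ j ∈ D.J, d (C j) = b * p - 2 := fun j hj => by rw [(hC1 j hj).2.1, hdAb]; ring
    have hvalC : ∀ j ∈ D.J, ∀ g : G, ¬ p ∣ orderOf g →
        (C j : G → ℂ) g = (A : G → ℂ) g - 1 := by
      intro j hj g hg
      have h := hrel j hj g hg
      rw [(hC1 j hj).1, hs] at h
      push_cast at h
      linear_combination -h
    set k := m (C j₁) with hk
    have hmA : m A = k + 1 := by
      have := (hC1 j₁ hj₁).2.2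
      omega
    have hmC : ∀ j ∈ D.J, m (C j) = k := fun j hj => by
      have := (hC1 j hj).2.2
      omega
    have hSsum : ∑ χ ∈ S, (m χ : ℤ) * d χ = T * ((k : ℤ) * ((b : ℤ) * p - 2)) := by
      rw [hS, Finset.sum_image hCinj, Finset.sum_congr rfl fun j hj => by
        rw [hmC j hj, hdC j hj], Finset.sum_const, hJ, nsmul_eq_mul]
    rw [hSsum, hdAb, hmA] at hmain
    push_cast at hmain
    -- values at the involutions
    have hfamsum : ∀ f : IrrCharacter G → ℂ, ∑ χ : IrrCharacter G, (D.u χ j₁ : ℂ) * f χ =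
        -f e + f A - f (C j₁) := by
      intro f
      rw [← hfam, D.sum_supp 1 (hsupp j₁ hj₁), Finset.sum_insert (by simp [hAe, (hCne j₁ hj₁).1.symm]),
        Finset.sum_insert (by simp [(hCne j₁ hj₁).2.symm]), Finset.sum_singleton, he,
        D.u_triv j₁ hj₁, hAu j₁ hj₁, hs, (hC1 j₁ hj₁).1]
      push_cast; ring
    obtain ⟨a, ha, hab, hapar⟩ := D.value_t A
    set B : ℤ := (b : ℤ) * p with hBdef
    have hB5 : (p : ℤ) ≤ B := by
      rw [hBdef]
      exact le_mul_of_one_le_left (by positivity) (by omega)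
    have habB : |a| ≤ (b : ℤ) - 1 := by
      refine hab.trans (le_of_eq ?_)
      rw [hb]; push_cast; ring
    have haB : a ≠ B - 1 := by
      intro h
      rw [abs_le] at habB
      have : 5 * (b : ℤ) ≤ B := by
        rw [hBdef, mul_comm 5 (b : ℤ)]
        exact mul_le_mul_of_nonneg_left (by omega) (by positivity)
      omega
    have hC1' : ((C j₁ : IrrCharacter G) : G → ℂ) 1 = ((B - 2 : ℤ) : ℂ) := by
      rw [hd1, hdC j₁ hj₁]
    have hA1' : (A : G → ℂ) 1 = ((B - 1 : ℤ) : ℂ) := by rw [hd1, hdAb]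
    have hB1 : ((B - 1 : ℤ) : ℂ) ≠ 0 := Int.cast_ne_zero.mpr (by omega)
    have hB2 : ((B - 2 : ℤ) : ℂ) ≠ 0 := Int.cast_ne_zero.mpr (by omega)
    have hone : OneClass D := by
      intro u hu
      by_contra hne
      have huu : u * u = 1 := by rw [← pow_two, ← hu]; exact pow_orderOf_eq_one u
      have hureg : ¬ p ∣ orderOf u := by
        rw [hu]; exact fun h => by have := Nat.le_of_dvd two_pos h; omega
      have h := mixed D hcen huu hne hj₁
      rw [hfamsum fun χ => (χ : G → ℂ) D.t * (χ : G → ℂ) u / (χ : G → ℂ) 1, hval1, hval1, hval1,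
        hvalC j₁ hj₁ _ D.t_regular, hvalC j₁ hj₁ _ hureg, hA1', hC1', ha] at h
      have h2 : ((B - 1 - a : ℤ) : ℂ) * ((A : G → ℂ) u - ((B - 1 : ℤ) : ℂ)) = 0 := by
        field_simp at h
        push_cast at h ⊢
        linear_combination h
      have h3 := sub_eq_zero.mp ((mul_eq_zero.mp h2).resolve_left (Int.cast_ne_zero.mpr (by omega)))
      have := BrauerReynolds.faithful_of_simple hAe.symm (h3.trans hA1'.symm)
      rw [this, orderOf_one] at hu
      omega
    have heq : HasEq D B a := by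
      have hw := D.weighted 1 hj₁
      simp only [mul_div_assoc] at hw
      rw [hfam, hfamsum fun χ => (χ : G → ℂ) D.t ^ 2 / (χ : G → ℂ) 1, hval1, hval1,
        hvalC j₁ hj₁ _ D.t_regular, hA1', hC1', ha, PMinusTwo.Data.Q, hcen, Subgroup.card_bot,
        Nat.cast_one, one_mul] at hw
      set c := Nat.card (Subgroup.centralizer ({D.t} : Set G))
      set i := (Subgroup.centralizer ({D.t} : Set G)).index
      have hci : (c : ℂ) * i = Nat.card G := by exact_mod_cast Subgroup.card_mul_index _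
      have hi0 : (i : ℂ) ≠ 0 := Nat.cast_ne_zero.mpr Subgroup.index_ne_zero_of_finite
      have hGn : (Nat.card G : ℂ) = 2 * p * Nat.card (Sylow p G) := by exact_mod_cast K.card_G
      have hp0 : (p : ℂ) ≠ 0 := Nat.cast_ne_zero.mpr hpp.ne_zero
      have hi1 : (i : ℂ) ^ 2 ≠ 0 := pow_ne_zero 2 hi0
      field_simp at hw
      show (c : ℤ) ^ 2 * ((B - 1) * (B - 2)) = _
      apply Int.cast_injective (α := ℂ)
      push_cast at hw ⊢
      refine mul_left_cancel₀ hp0 (mul_left_cancel₀ hi1 ?_)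
      linear_combination (Nat.card G : ℂ) * hw +
        (p : ℂ) * (((B : ℂ) - 1) * ((B : ℂ) - 2)) * ((c : ℂ) * i + Nat.card G) * hci +
        (i : ℂ) ^ 2 * ((B : ℂ) - 1 - a) ^ 2 * hGn
    have hn1 : (1 : ℤ) ≤ b := by omega
    rcases Nat.eq_zero_or_pos k with hk0 | hk0
    · rw [hk0] at hmain
      push_cast at hmain
      have hb3 : b ≤ 3 := by
        by_contra h
        have : (4 : ℤ) * p ≤ B := mul_le_mul_of_nonneg_right (by omega) (by positivity)
        have : (0 : ℤ) ≤ p * Nsum := by positivity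
        linarith
      have hb1 : 1 ≤ b := by omega
      interval_cases b
      · -- b = 1
        refine Or.inr (Or.inl ⟨C j₁, ?_, (hCne j₁ hj₁).1, hone, ?_⟩)
        · have := hdC j₁ hj₁
          rw [hBdef, Nat.cast_one, one_mul] at this
          have h' : (charDegree ((C j₁ : IrrCharacter G) : G → ℂ) : ℤ) = (p : ℤ) - 2 := this
          omega
        · have ha0 : a = 0 := by rw [abs_le] at habB; omega
          rwa [ha0, hBdef, Nat.cast_one, one_mul] at heq
      · -- b = 2
        have hN1 : Nsum = 1 := by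
          have h1 : (p : ℤ) * Nsum = p * 1 := by rw [hBdef] at hmain; push_cast at hmain; linarith
          exact_mod_cast mul_left_cancel₀ (by omega : (p : ℤ) ≠ 0) h1
        have hw : ∑ χ ∈ R, m χ * D.n χ 0 = 1 := by
          have h1 : (p : ℤ) * ((∑ χ ∈ R, m χ * D.n χ 0 : ℕ) : ℤ) = p * (1 : ℕ) := by
            rw [← hN1, ← hNsum]
            push_cast
            rw [Finset.mul_sum]
            exact Finset.sum_congr rfl fun χ hχ => by rw [(hR0 χ hχ).1]; ring
          exact_mod_cast mul_left_cancel₀ (by omega : (p : ℤ) ≠ 0) h1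
        obtain ⟨E, hER, hEw⟩ : ∃ E ∈ R, m E * D.n E 0 ≠ 0 :=
          Finset.exists_ne_zero_of_sum_ne_zero (by omega)
        have hE1 : m E = 1 ∧ D.n E 0 = 1 := by
          have h1 : m E * D.n E 0 ≤ 1 :=
            hw ▸ Finset.single_le_sum (f := fun χ => m χ * D.n χ 0) (fun _ _ => Nat.zero_le _) hER
          have h2 : m E * D.n E 0 = 1 := by omega
          exact ⟨Nat.eq_one_of_mul_eq_one_right h2, Nat.eq_one_of_mul_eq_one_left h2⟩
        have hRother : ∀ χ ∈ R, χ ≠ E → m χ = 0 := by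
          intro χ hχ hne
          by_contra h
          have h1 : m χ * D.n χ 0 + m E * D.n E 0 ≤ 1 := by
            rw [← Finset.sum_pair (f := fun χ => m χ * D.n χ 0) hne, ← hw]
            exact Finset.sum_le_sum_of_subset (by simp [Finset.insert_subset_iff, hχ, hER])
          have h2 : D.n χ 0 ≠ 0 := fun h0 => by
            have := (hR0 χ hχ).1
            rw [h0, Nat.cast_zero, mul_zero] at this
            have := hdpos χ
            omega
          have := Nat.mul_pos (Nat.pos_of_ne_zero h) (Nat.pos_of_ne_zero h2)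
          rw [hE1.1, hE1.2] at h1
          omega
        have hER' := hER
        simp only [hR, Finset.mem_sdiff, Finset.mem_univ, true_and, Finset.mem_insert, not_or] at hER'
        have hm1A : m A = 1 := by omega
        have hzero : ∀ χ, χ ≠ e → χ ≠ A → χ ≠ E → m χ = 0 := by
          intro χ h1 h2 h3
          by_cases hχS : χ ∈ S
          · obtain ⟨j, hj, rfl⟩ := Finset.mem_image.mp (hS ▸ hχS)
            rw [hmC j hj, hk0]
          · exact hRother χ (by simp [hR, h1, h2, hχS]) h3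
        have hm1' : ∀ χ, m χ ≤ 1 := by
          intro χ
          rcases eq_or_ne χ e with rfl | h1
          · omega
          rcases eq_or_ne χ A with rfl | h2
          · omega
          rcases eq_or_ne χ E with rfl | h3
          · omega
          rw [hzero χ h1 h2 h3]; omega
        have hdE : d E = p := by rw [(hR0 E hER).1, hE1.2]; push_cast; ring
        have hA' : (A : G → ℂ) 1 = 2 * (p : ℂ) - 1 := by
          rw [hA1', hBdef]; push_cast; ring
        have hAv : (A : G → ℂ) D.v = -1 := by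
          have := D.value_of_u hAu (i := 1) one_pos hpp.one_lt
          rw [pow_one, hs] at this
          simpa using this
        have hEv : (E : G → ℂ) D.v = 0 := by
          have := D.value_of_u (hR0 E hER).2 (i := 1) one_pos hpp.one_lt
          rw [pow_one] at this
          simpa using this
        refine Or.inr (Or.inr (Or.inl ⟨?_, hone, ?_, orbital_of_constituents K D hm hm1' hzero hAe
          (Ne.symm hER'.1) (Ne.symm hER'.2.1) hA' hAv (by rw [hd1, hdE]; push_cast; rfl) hEv⟩))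
        · rw [← hrank, ← Finset.sum_subset (Finset.subset_univ {e, A, E}) fun χ _ hχ => by
            simp only [Finset.mem_insert, Finset.mem_singleton, not_or] at hχ
            rw [hzero χ hχ.1 hχ.2.1 hχ.2.2, zero_mul],
            Finset.sum_insert (by simp [hAe, Ne.symm hER'.1]), Finset.sum_pair (Ne.symm hER'.2.1),
            hme, hm1A, hE1.1]
          all_goals norm_num
        · have ha1 : a = 1 := by
            have hodd : a % 2 = 1 := by
              have h1 : (2 : ℤ) ∣ d A - a := hapar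
              rw [hdAb, hBdef] at h1
              omega
            rcases (show a = 1 ∨ a = -1 by rw [abs_le] at habB; omega) with h | h
            · exact h
            exfalso
            rw [h, hBdef] at heq
            unfold HasEq at heq
            have h1 : (p : ℤ) ∣ (Nat.card (Subgroup.centralizer ({D.t} : Set G)) : ℤ) ^ 2 *
                (((2 : ℕ) * (p : ℤ) - 1) * ((2 : ℕ) * (p : ℤ) - 2)) := by
              rw [heq]
              exact ⟨8 * (p : ℤ) * Nat.card (Sylow p G), by push_cast; ring⟩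
            have hpI : Prime (p : ℤ) := Nat.prime_iff_prime_int.mp hpp
            rcases hpI.dvd_or_dvd h1 with h2 | h2
            · have h3 : p ∣ Nat.card (Subgroup.centralizer ({D.t} : Set G)) :=
                Int.natCast_dvd_natCast.mp (hpI.dvd_of_dvd_pow h2)
              haveI : Fact p.Prime := ⟨hpp⟩
              obtain ⟨⟨g, hg⟩, hgo⟩ := exists_prime_orderOf_dvd_card' p h3
              rw [Subgroup.orderOf_mk] at hgo
              exact PMinusTwo.Data.regular_of_commute_t hcen D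
                (Subgroup.mem_centralizer_singleton_iff.mp hg) (hgo ▸ dvd_rfl)
            · have h4 : (p : ℤ) ∣ 2 := by
                obtain ⟨c, hc⟩ := h2
                exact ⟨c - 4 * p + 6, by push_cast at hc; linear_combination hc⟩
              have := Int.le_of_dvd two_pos h4
              omega
          rw [ha1, hBdef] at heq
          exact_mod_cast heq
      · -- b = 3
        have hN0 : Nsum = 0 := by
          have h1 : (p : ℤ) * Nsum = p * 0 := by rw [hBdef] at hmain; push_cast at hmain; linarith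
          exact_mod_cast mul_left_cancel₀ (by omega : (p : ℤ) ≠ 0) h1
        have hzero : ∀ χ, χ ≠ e → χ ≠ A → m χ = 0 := by
          intro χ h1 h2
          by_cases hχS : χ ∈ S
          · obtain ⟨j, hj, rfl⟩ := Finset.mem_image.mp (hS ▸ hχS)
            rw [hmC j hj, hk0]
          · have h0 := (Finset.sum_eq_zero_iff_of_nonneg (s := R)
              (f := fun χ => (m χ : ℤ) * d χ) fun χ _ => mul_nonneg (by positivity)
                (by have := hdpos χ; omega)).mp (by rw [hNsum, hN0]; simp) χ (by simp [hR, h1, h2, hχS])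
            have := hdpos χ
            exact_mod_cast (mul_eq_zero.mp h0).resolve_right (by omega)
        have hm1A : m A = 1 := by omega
        have hfx : (fx Ω D.t : ℤ) = 1 + a := by
          have h := congrFun hm D.t
          simp only [Finset.sum_apply, Pi.smul_apply, smul_eq_mul] at h
          rw [← Finset.sum_subset (Finset.subset_univ {e, A}) fun χ _ hχ => by
            simp only [Finset.mem_insert, Finset.mem_singleton, not_or] at hχ
            rw [hzero χ hχ.1 hχ.2, Nat.cast_zero, zero_mul], Finset.sum_pair hAe, hme, hm1A, hval1,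
            ha, Nat.cast_one, one_mul, one_mul] at h
          exact_mod_cast h
        refine Or.inr (Or.inr (Or.inr ⟨?_, hone, ?_⟩))
        · rw [← hrank, ← Finset.sum_subset (Finset.subset_univ {e, A}) fun χ _ hχ => by
            simp only [Finset.mem_insert, Finset.mem_singleton, not_or] at hχ
            rw [hzero χ hχ.1 hχ.2, zero_mul], Finset.sum_pair hAe, hme, hm1A]
        · rw [hBdef] at heq
          rw [hfx, show (1 : ℤ) + a - 1 = a by ring]
          exact_mod_cast heq
    · refine Or.inr (Or.inl ?_)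
      have hb1 : b = 1 := by
        by_contra h
        have h1 : (2 : ℤ) * p ≤ B := mul_le_mul_of_nonneg_right (by omega) (by positivity)
        have h2 : (2 : ℤ) * (2 * (p : ℤ) - 1) ≤ ((k : ℤ) + 1) * (B - 1) :=
          mul_le_mul (by omega) (by omega) (by omega) (by omega)
        have h3 : (2 : ℤ) * (1 * (2 * (p : ℤ) - 2)) ≤ T * ((k : ℤ) * (B - 2)) :=
          mul_le_mul (by omega) (mul_le_mul (by omega) (by omega) (by omega) (by omega)) (by omega) (by omega)
        have : (0 : ℤ) ≤ p * Nsum := by positivity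
        linarith
      have ha0 : a = 0 := by subst hb1; rw [abs_le] at habB; omega
      refine ⟨C j₁, ?_, (hCne j₁ hj₁).1, hone, ?_⟩
      · have := hdC j₁ hj₁
        rw [hBdef, hb1, Nat.cast_one, one_mul] at this
        have h' : (charDegree ((C j₁ : IrrCharacter G) : G → ℂ) : ℤ) = (p : ℤ) - 2 := this
        omega
      · rwa [ha0, hBdef, hb1, Nat.cast_one, one_mul] at heq

end CfsgLib.DegreeThreeP
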