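import Cfsg.Agent.Lib.DegreeThreeP.Pairs
import Cfsg.Agent.Lib.SL2.MaxList

/-!
# Degree `3 p`: the group over a field of characteristic two cannot act primitively
-/

set_option autoImplicit false
set_option linter.unusedSectionVars false
set_option linter.style.haveILetI false

namespace CfsgLib.DegreeThreeP

open Cfsg CfsgLib MulAction
open scoped _root_.Classical

universe u v

variable {G : Type u} [Group G] [Fintype G] [IsSimpleGroup G] {Ω : Type v} [Fintype Ω]
  [MulAction G Ω] [FaithfulSMul G Ω] [IsPretransitive G Ω] {p : ℕ} [Fact p.Prime]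

theorem field_false (K : Ctx G Ω p) (h7 : 7 ≤ p) (hprim : IsPreprimitive G Ω)
    (D : PMinusTwo.Data G p) {B : IrrCharacter G} (hB : charDegree (B : G → ℂ) = p - 2)
    (hne : B ≠ Blocks.trivIrr G) : False := by
  obtain ⟨-, k, F, instF, instFF, hpk, hF, ⟨e⟩⟩ :=
    PMinusTwo.exists_field D h7 hB fun g hg => BrauerReynolds.faithful_of_simple hne hg
  haveI : Nontrivial Ω := Fintype.one_lt_card_iff_nontrivial.mp (by rw [K.card_omega]; omega)
  have x : Ω := Classical.arbitrary Ω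
  have hcharF : Even (Nat.card F) := by
    rw [Nat.card_eq_fintype_card, hF, Nat.even_pow]
    exact ⟨even_two, fun h => by rw [h, pow_zero] at hpk; omega⟩
  haveI : Fact (Nat.Prime 2) := ⟨Nat.prime_two⟩
  haveI : CharP F 2 := charP_of_card_eq_prime_pow (f := k) hF
  set q := Nat.card F with hq
  have hpq : p = q + 1 := by rw [hpk, hq, Nat.card_eq_fintype_card, hF]
  let f : G ≃* Matrix.ProjectiveSpecialLinearGroup (Fin 2) F :=
    e.trans (MulEquiv.ofBijective (CfsgLib.SL2.proj (F := F))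
      ⟨(MonoidHom.ker_eq_bot_iff _).1 (by
        rw [QuotientGroup.ker_mk', CfsgLib.BrauerReynolds.center_SL_two_of_char_two]),
        CfsgLib.SL2.proj_surjective⟩)
  have hG : Nat.card G = q * ((q - 1) * (q + 1)) := by
    rw [Nat.card_congr f.toEquiv]
    have h := CfsgLib.SL2.card_PSL (F := F)
    obtain ⟨r, hr⟩ := hcharF
    rwa [show Nat.gcd 2 (Nat.card F - 1) = 1 from
      (Nat.coprime_two_left.mpr ⟨r - 1, by omega⟩ : Nat.Coprime 2 (Nat.card F - 1)), one_mul] at h
  set M := (stabilizer G x).map f.toMonoidHom with hMdef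
  have hM : IsCoatom M :=
    (OrderIso.isCoatom_iff f.mapSubgroup _).mpr ((isCoatom_stabilizer_iff_preprimitive G x).mpr hprim)
  have hMc : Nat.card M * (3 * p) = q * ((q - 1) * (q + 1)) := by
    rw [hMdef, Subgroup.card_map_of_injective f.injective, ← hG, ← K.card_omega,
      ← Nat.card_eq_fintype_card, ← index_stabilizer_of_transitive G x, Subgroup.card_mul_index]
  rw [hpq] at hMc
  have h4 : 4 ≤ q := by omega
  have hpos : 0 < q * ((q - 1) * (q + 1)) := by
    have : 0 < q - 1 := by omega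
    positivity
  rcases CfsgLib.SL2.coatom_even_cases hcharF h4 hM with h | ⟨⟨g⟩⟩ | ⟨⟨g⟩⟩ | ⟨F₀, i₁, i₂, r, hr, h2, hqr, ⟨g⟩⟩
  · rw [← hq] at h
    rw [h, show q * (q - 1) * (3 * (q + 1)) = 3 * (q * ((q - 1) * (q + 1))) by ring] at hMc
    omega
  · rw [Nat.card_congr g.toEquiv, DihedralGroup.nat_card, ← hq] at hMc
    have h : 6 * ((q - 1) * (q + 1)) = q * ((q - 1) * (q + 1)) := by rw [← hMc]; ring
    have := Nat.eq_of_mul_eq_mul_right (Nat.mul_pos (by omega) (by omega)) h
    have h6 : q = 2 ^ k := by rw [hq, Nat.card_eq_fintype_card, hF]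
    have h3 : 3 ∣ 2 ^ k := ⟨2, by omega⟩
    have := Nat.prime_three.dvd_of_dvd_pow h3
    omega
  · rw [Nat.card_congr g.toEquiv, DihedralGroup.nat_card, ← hq] at hMc
    have h : 6 * (q + 1) * (q + 1) = q * (q - 1) * (q + 1) := by linarith
    have := Nat.eq_of_mul_eq_mul_right (by omega : 0 < q + 1) h
    obtain ⟨s, hs⟩ : ∃ s, q = s + 1 := ⟨q - 1, by omega⟩
    rw [hs, Nat.add_sub_cancel] at this
    rcases Nat.lt_or_ge s 8 with h5 | h5
    · interval_cases s <;> omega
    · nlinarith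
  · set q₀ := Nat.card F₀ with hq0
    have hq₀ : q = q₀ ^ r := by rw [hq, hqr, hq0, Nat.card_eq_fintype_card]
    have hev : Even q₀ := (Nat.even_pow.mp (hq₀ ▸ hcharF)).1
    have h40 : 4 ≤ q₀ := by
      obtain ⟨s, hs⟩ := hev
      have h1 : 1 < q₀ := by rw [hq0]; exact Finite.one_lt_card
      have : q₀ ≠ 2 := by rw [hq0, Nat.card_eq_fintype_card]; exact h2
      omega
    have hc := CfsgLib.SL2.card_PSL (F := F₀)
    rw [← hq0] at hc
    obtain ⟨s, hs⟩ := hev
    rw [show Nat.gcd 2 (q₀ - 1) = 1 from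
      (Nat.coprime_two_left.mpr ⟨s - 1, by omega⟩ : Nat.Coprime 2 (q₀ - 1)), one_mul] at hc
    rw [Nat.card_congr g.toEquiv, hc] at hMc
    have h : q₀ * ((q₀ - 1) * (q₀ + 1)) * 3 * (q + 1) = q * (q - 1) * (q + 1) := by linarith
    have h' := Nat.eq_of_mul_eq_mul_right (by omega : 0 < q + 1) h
    have hge : q₀ * q₀ ≤ q := by
      rw [hq₀, ← pow_two]; exact Nat.pow_le_pow_right (by omega) hr.two_le
    have h1 : q₀ * q₀ * (q₀ * q₀ - 1) ≤ q * (q - 1) := Nat.mul_le_mul hge (Nat.sub_le_sub_right hge 1)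
    have h2' : (q₀ - 1) * (q₀ + 1) = q₀ * q₀ - 1 := by
      rw [mul_comm, ← Nat.sq_sub_sq, pow_two, one_pow]
    rw [← h', h2'] at h1
    have h3 : 0 < q₀ * (q₀ * q₀ - 1) := Nat.mul_pos (by omega) (by
      have : 4 * 4 ≤ q₀ * q₀ := Nat.mul_le_mul h40 h40
      omega)
    have : q₀ * (q₀ * (q₀ * q₀ - 1)) ≤ 3 * (q₀ * (q₀ * q₀ - 1)) := by linarith
    have := Nat.le_of_mul_le_mul_right this h3
    omega

end CfsgLib.DegreeThreeP
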