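import Cfsg.Agent.Lib.DegreeThreeP.Pairs
import Cfsg.Agent.Lib.Perm.JordanPrime
import Cfsg.Agent.S0497

/-!
# Degree fifteen
-/

set_option autoImplicit false
set_option linter.unusedSectionVars false
set_option linter.style.haveILetI false

namespace CfsgLib.DegreeThreeP

open Cfsg CfsgLib MulAction
open scoped _root_.Classical

variable {G : Type*} [Group G] [Fintype G] [IsSimpleGroup G] {Ω : Type*} [Fintype Ω]
  [MulAction G Ω] [FaithfulSMul G Ω] [IsPretransitive G Ω]

theorem toPermHom_injective : Function.Injective (MulAction.toPermHom G Ω) :=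
  MulAction.toPerm_injective

namespace Ctx

variable [Fact (Nat.Prime 5)] (K : Ctx G Ω 5)

include K

theorem range_le_alternating : (MulAction.toPermHom G Ω).range ≤ alternatingGroup Ω := by
  rintro _ ⟨g, rfl⟩
  exact Equiv.Perm.mem_alternatingGroup.mpr (K.sign_eq_one g)

theorem card_alternating : Nat.card (alternatingGroup Ω) = 653837184000 := by
  haveI : Nontrivial Ω := Fintype.one_lt_card_iff_nontrivial.mp (by rw [K.card_omega]; norm_num)
  rw [nat_card_alternatingGroup, Nat.card_eq_fintype_card, K.card_omega]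
  rfl

theorem card_dvd : Nat.card G ∣ 653837184000 := by
  rw [← K.card_alternating,
    Nat.card_congr (MonoidHom.ofInjective (toPermHom_injective (G := G) (Ω := Ω))).toEquiv]
  exact Subgroup.card_dvd_of_le K.range_le_alternating

/-- There is no cycle of prime length with three fixed points. -/
theorem no_cycle (hprim : IsPreprimitive G Ω) {g : G} {r : ℕ} (hr : r.Prime) (hr3 : r + 3 ≤ 15)
    (hc : (MulAction.toPermHom G Ω g).IsCycle)
    (hs : (MulAction.toPermHom G Ω g).support.card = r) : False := by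
  set φ := MulAction.toPermHom G Ω
  let f : Ω →ₑ[fun g : G => (⟨φ g, g, rfl⟩ : φ.range)] Ω :=
    { toFun := id, map_smul' := fun _ _ => rfl }
  have hp' : IsPreprimitive φ.range Ω :=
    haveI := hprim
    IsPreprimitive.of_surjective (f := f) Function.surjective_id
  have hle := Perm.alternatingGroup_le_of_isCycle_prime hp' hr
    (by rw [Nat.card_eq_fintype_card, K.card_omega]; omega) hc hs ⟨g, rfl⟩
  refine K.not_sq_dvd ?_
  rw [Nat.card_congr (MonoidHom.ofInjective (toPermHom_injective (G := G) (Ω := Ω))).toEquiv,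
    le_antisymm K.range_le_alternating hle, K.card_alternating]
  norm_num

/-- A full Sylow subgroup of the symmetric group gives a cycle. -/
theorem exists_cycle_of_full {r e : ℕ} [Fact r.Prime] (hr : r ≤ 15)
    (hfull : (Nat.factorial 15).factorization r = e) (hd : r ^ e ∣ Nat.card G) :
    ∃ g : G, (MulAction.toPermHom G Ω g).IsCycle ∧ (MulAction.toPermHom G Ω g).support.card = r := by
  have hrp := (Fact.out : r.Prime)
  set φ := MulAction.toPermHom G Ω
  obtain ⟨c, hc⟩ := (Equiv.Perm.exists_with_cycleType_iff Ω (m := {r})).mpr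
    ⟨by rw [Multiset.sum_singleton, K.card_omega]; omega, fun a ha => by
      rw [Multiset.mem_singleton.mp ha]; exact hrp.two_le⟩
  have hcyc : c.IsCycle := Equiv.Perm.card_cycleType_eq_one.mp (by rw [hc]; rfl)
  have hsupp : c.support.card = r := by rw [← Equiv.Perm.sum_cycleType, hc, Multiset.sum_singleton]
  obtain ⟨P⟩ : Nonempty (Sylow r G) := inferInstance
  set Q := (P : Subgroup G).map φ
  have hQ : Nat.card Q = r ^ (Nat.card (Equiv.Perm Ω)).factorization r := by
    rw [Subgroup.card_map_of_injective toPermHom_injective, P.card_eq_multiplicity, Nat.card_perm,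
      Nat.card_eq_fintype_card (α := Ω), K.card_omega, hfull]
    congr 1
    refine le_antisymm ?_ ((hrp.pow_dvd_iff_le_factorization Nat.card_pos.ne').mp hd)
    have h := Subgroup.card_subgroup_dvd_card φ.range
    rw [← Nat.card_congr (MonoidHom.ofInjective (toPermHom_injective (G := G) (Ω := Ω))).toEquiv,
      Nat.card_perm, Nat.card_eq_fintype_card (α := Ω), K.card_omega] at h
    rw [← hfull]
    exact (Nat.factorization_le_iff_dvd Nat.card_pos.ne' (Nat.factorial_ne_zero _)).mpr h r
  obtain ⟨R, hR⟩ := (IsPGroup.of_card (n := 1) (p := r) (G := Subgroup.zpowers c)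
    (by rw [Nat.card_zpowers, hcyc.orderOf, hsupp, pow_one])).exists_le_sylow
  obtain ⟨d, hd'⟩ := MulAction.exists_smul_eq (Equiv.Perm Ω) R (Sylow.ofCard Q hQ)
  have hmem : d * c * d⁻¹ ∈ Q := by
    have : d * c * d⁻¹ ∈ ((Sylow.ofCard Q hQ : Sylow r (Equiv.Perm Ω)) : Subgroup (Equiv.Perm Ω)) := by
      rw [← hd', Sylow.coe_subgroup_smul]
      exact ⟨c, hR (Subgroup.mem_zpowers c), by simp [MulAut.smul_def]⟩
    rwa [Sylow.coe_ofCard] at this
  obtain ⟨g, -, hg⟩ := hmem
  exact ⟨g, hg ▸ hcyc.conj, hg ▸ (Equiv.Perm.card_support_conj.trans hsupp)⟩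

theorem no_full (hprim : IsPreprimitive G Ω) {r e : ℕ} [Fact r.Prime] (hr : r + 3 ≤ 15)
    (hfull : (Nat.factorial 15).factorization r = e) (hd : r ^ e ∣ Nat.card G) : False := by
  obtain ⟨g, h1, h2⟩ := K.exists_cycle_of_full (by omega) hfull hd
  exact K.no_cycle hprim Fact.out hr h1 h2

end Ctx

theorem fact_three : (Nat.factorial 15).factorization 3 = 6 := by
  rw [show Nat.factorial 15 = 3 ^ 6 * 1793792000 by rfl,
    Nat.factorization_mul (by norm_num) (by norm_num), Finsupp.add_apply,
    Nat.prime_three.factorization_pow, Finsupp.single_eq_same,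
    Nat.factorization_eq_zero_of_not_dvd (by norm_num)]

theorem fact_seven : (Nat.factorial 15).factorization 7 = 2 := by
  rw [show Nat.factorial 15 = 7 ^ 2 * 26687232000 by rfl,
    Nat.factorization_mul (by norm_num) (by norm_num), Finsupp.add_apply,
    (by norm_num : Nat.Prime 7).factorization_pow, Finsupp.single_eq_same,
    Nat.factorization_eq_zero_of_not_dvd (by norm_num)]

/-- The candidates. -/
def fiveOK : Bool :=
  (List.range 1305).all fun o => decide (o % 2 = 0) || decide (1702701 % (o * o) ≠ 0) ||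
    decide ((o * o) % 5 ≠ 1) || decide (o = 1 ∨ o = 9 ∨ o = 21)

theorem fiveOK_true : fiveOK = true := by decide +kernel

theorem five_cases {o : ℕ} (hodd : Odd o) (h5 : (o * o) % 5 = 1)
    (hd : 60 * (o * o) ∣ 653837184000) : o = 1 ∨ o = 9 ∨ o = 21 := by
  have hco : Nat.Coprime (o * o) 6400 := by
    have h2 : Nat.Coprime o 2 := Nat.coprime_two_right.mpr hodd
    have h5' : Nat.Coprime o 5 := Nat.Coprime.symm ((Nat.Prime.coprime_iff_not_dvd (by norm_num)).mpr
      fun h => by
        have h0 : o * o % 5 = 0 := Nat.mod_eq_zero_of_dvd (dvd_mul_of_dvd_left h o)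
        omega)
    have h3 : Nat.Coprime o 6400 := by
      rw [show (6400 : ℕ) = 2 ^ 8 * 5 ^ 2 by norm_num]
      exact (h2.pow_right 8).mul_right (h5'.pow_right 2)
    exact h3.mul_left h3
  have h : o * o ∣ 1702701 := by
    refine hco.dvd_of_dvd_mul_right (?_ : o * o ∣ 1702701 * 6400)
    exact Nat.dvd_of_mul_dvd_mul_left (by norm_num : 0 < 60) (hd.trans (dvd_of_eq (by norm_num)))
  have hle : o < 1305 := by
    by_contra hge
    push Not at hge
    have := Nat.le_of_dvd (by norm_num) h
    have : 1305 * 1305 ≤ o * o := Nat.mul_le_mul hge hge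
    omega
  have hb := List.all_eq_true.mp fiveOK_true o (List.mem_range.mpr hle)
  simp only [Bool.or_eq_true, decide_eq_true_eq] at hb
  rcases hb with ((hb | hb) | hb) | hb
  · obtain ⟨k, rfl⟩ := hodd; omega
  · exact absurd (Nat.mod_eq_zero_of_dvd h) hb
  · exact absurd h5 hb
  · exact hb

end CfsgLib.DegreeThreeP

namespace CfsgLib.DegreeThreeP

open Cfsg CfsgLib MulAction
open scoped _root_.Classical

namespace Ctx

variable {G : Type*} [Group G] [Fintype G] [IsSimpleGroup G] {Ω : Type*} [Fintype Ω]
  [MulAction G Ω] [FaithfulSMul G Ω] [IsPretransitive G Ω] [Fact (Nat.Prime 5)] (K : Ctx G Ω 5)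

include K

theorem card_sylow_mod : Nat.card (Sylow 5 G) % 5 = 1 := card_sylow_modEq_one 5 G

/-- A central involution of a Sylow subgroup: the centraliser has the full power of two. -/
theorem cent_full (D : PMinusTwo.Data G 5) (hone : OneClass D) :
    2 ^ (Nat.card G).factorization 2 ∣ Nat.card (Subgroup.centralizer ({D.t} : Set G)) := by
  haveI : Fact (Nat.Prime 2) := ⟨Nat.prime_two⟩
  obtain ⟨P⟩ : Nonempty (Sylow 2 G) := inferInstance
  have h2 : 2 ∣ Nat.card G := D.orderOf_t ▸ orderOf_dvd_natCard D.t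
  haveI : Nontrivial P := Finite.one_lt_card_iff_nontrivial.mp
    (lt_of_lt_of_le one_lt_two (Nat.le_of_dvd Nat.card_pos (P.dvd_card_of_dvd_card h2)))
  haveI := P.2.center_nontrivial
  obtain ⟨⟨z, hz⟩, hz2⟩ := exists_prime_orderOf_dvd_card' (G := Subgroup.center P) 2 (by
    obtain ⟨n, hn0, hn⟩ := ((P.2.to_subgroup _).nontrivial_iff_card).mp
      (inferInstance : Nontrivial (Subgroup.center P))
    rw [hn]; exact dvd_pow_self 2 hn0.ne')
  rw [Subgroup.orderOf_mk] at hz2
  have hzo : orderOf (z : G) = 2 := by rw [Subgroup.orderOf_coe]; exact hz2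
  obtain ⟨c, hc⟩ := isConj_iff.mp (hone _ hzo).symm
  refine (dvd_of_eq ?_).trans (Subgroup.card_dvd_of_le
    (H := (P : Subgroup G).map (MulAut.conj c).toMonoidHom) ?_)
  · rw [Subgroup.card_map_of_injective (MulAut.conj c).injective, P.card_eq_multiplicity]
  · rintro _ ⟨s, hs, rfl⟩
    refine Subgroup.mem_centralizer_singleton_iff.mpr ?_
    rw [← hc]
    have e : (z : G) * s = s * (z : G) :=
      congrArg Subtype.val (Subgroup.mem_center_iff.mp hz ⟨s, hs⟩).symm
    simp only [MulEquiv.coe_toMonoidHom, MulAut.conj_apply]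
    calc c * s * c⁻¹ * (c * (z : G) * c⁻¹) = c * (s * (z : G)) * c⁻¹ := by group
      _ = c * (z : G) * c⁻¹ * (c * s * c⁻¹) := by rw [← e]; group

theorem not_five_one (D : PMinusTwo.Data G 5) (hprim : IsPreprimitive G Ω) (hone : OneClass D)
    (heq : HasEq D (5 : ℕ) 0) : False := by
  haveI : Fact (Nat.Prime 2) := ⟨Nat.prime_two⟩
  set c := Nat.card (Subgroup.centralizer ({D.t} : Set G))
  set n := Nat.card (Sylow 5 G)
  have he : (3 * (c * c) : ℕ) = 8 * n := by
    unfold HasEq at heq
    push_cast at heq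
    have : (3 * (c * c) : ℤ) = 8 * n := by linarith
    exact_mod_cast this
  obtain ⟨o, ho⟩ : 4 ∣ c := by
    obtain ⟨d, hd⟩ : 2 ∣ c := Nat.prime_two.dvd_of_dvd_pow (n := 2) (by rw [pow_two]; omega)
    rw [hd] at he
    have : 3 * (d * d) = 2 * n := by linarith
    obtain ⟨e, he'⟩ : 2 ∣ d := Nat.prime_two.dvd_of_dvd_pow (n := 2) (by rw [pow_two]; omega)
    exact ⟨e, by rw [hd, he']; ring⟩
  have hn : n = 6 * (o * o) := by rw [ho] at he; linarith
  have hG : Nat.card G = 60 * (o * o) := by rw [K.card_G]; show 2 * 5 * n = _; rw [hn]; ring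
  have ho0 : o ≠ 0 := fun h => Nat.card_pos.ne' (show Nat.card G = 0 by rw [hG, h])
  have hodd : Odd o := by
    have h := (Nat.prime_two.pow_dvd_iff_le_factorization Nat.card_pos.ne').mp (K.cent_full D hone)
    rw [show Nat.card (Subgroup.centralizer ({D.t} : Set G)) = 2 ^ 2 * o from ho, hG,
      show 60 * (o * o) = 2 ^ 2 * 15 * (o * o) by norm_num] at h
    rw [Nat.factorization_mul (by norm_num) (mul_ne_zero ho0 ho0), Nat.factorization_mul (by norm_num) (by norm_num),
      Nat.factorization_mul ho0 ho0, Nat.factorization_mul (by norm_num) ho0] at h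
    simp only [Finsupp.add_apply, Nat.prime_two.factorization_pow, Finsupp.single_eq_same,
      Nat.factorization_eq_zero_of_not_dvd (show ¬ 2 ∣ 15 by norm_num)] at h
    rw [← Nat.not_even_iff_odd, even_iff_two_dvd]
    intro h2
    have := Nat.prime_two.factorization_pos_of_dvd ho0 h2
    omega
  have hmod : (o * o) % 5 = 1 := by
    have h := K.card_sylow_mod
    change n % 5 = 1 at h
    rw [hn] at h
    omega
  rcases five_cases hodd hmod (hG ▸ K.card_dvd) with rfl | rfl | rfl
  · -- order sixty: the stabiliser is not maximal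
    haveI := K.nonempty
    haveI : Nontrivial Ω := Fintype.one_lt_card_iff_nontrivial.mp (by rw [K.card_omega]; norm_num)
    obtain ⟨x⟩ := K.nonempty
    set H := stabilizer G x
    have hH : Nat.card H = 4 := by
      have h := Subgroup.card_mul_index H
      rw [index_stabilizer_of_transitive G x, Nat.card_eq_fintype_card (α := Ω), K.card_omega, hG] at h
      omega
    have hfac : (Nat.card G).factorization 2 = 2 := by
      rw [hG, show 60 * (1 * 1) = 2 ^ 2 * 15 by norm_num,
        Nat.factorization_mul (by norm_num) (by norm_num), Finsupp.add_apply,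
        Nat.prime_two.factorization_pow, Finsupp.single_eq_same,
        Nat.factorization_eq_zero_of_not_dvd (by norm_num)]
    let P : Sylow 2 G := Sylow.ofCard H (by rw [hH, hfac]; rfl)
    have hP : (P : Subgroup G) = H := Sylow.coe_ofCard _ _
    have hmax : IsCoatom H := (isCoatom_stabilizer_iff_preprimitive G x).mpr hprim
    by_cases hN : Subgroup.normalizer (H : Set G) ≤ H
    · haveI : IsMulCommutative H := IsPGroup.isMulCommutative_of_card_eq_prime_sq (p := 2) (by rw [hH]; rfl)
      obtain ⟨Q, N, hNn, hc⟩ := Transfer.hasNormalPComplement_of_normalizer_le_centralizer P (by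
        rw [show ((P : Set G)) = (H : Set G) from congrArg SetLike.coe hP]
        exact hN.trans fun a ha => Subgroup.mem_centralizer_iff.mpr fun b hb =>
          congrArg Subtype.val (IsMulCommutative.is_comm.comm (⟨b, hb⟩ : H) ⟨a, ha⟩))
      have h1 := hc.card_mul_card
      rw [Q.card_eq_multiplicity, hfac, hG] at h1
      rcases hNn.eq_bot_or_eq_top with e | e
      · rw [e, Subgroup.card_bot] at h1; norm_num at h1
      · rw [e, Subgroup.card_top, hG] at h1; norm_num at h1
    · have htop : Subgroup.normalizer (H : Set G) = ⊤ :=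
        hmax.2 _ (lt_of_le_of_ne Subgroup.le_normalizer fun e => hN e.ge)
      have hn' : H.Normal := Subgroup.normalizer_eq_top_iff.mp htop
      rcases hn'.eq_bot_or_eq_top with e | e
      · rw [e, Subgroup.card_bot] at hH; omega
      · exact hmax.1 e
  · -- order 4860
    haveI : Fact (Nat.Prime 3) := ⟨Nat.prime_three⟩
    set N3 := Nat.card (Sylow 3 G)
    have hmod3 : N3 % 3 = 1 := card_sylow_modEq_one 3 G
    have h20 : N3 ∣ 20 := by
      obtain ⟨P⟩ : Nonempty (Sylow 3 G) := inferInstance
      have h := P.card_dvd_index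
      have hi := Subgroup.card_mul_index (P : Subgroup G)
      rw [P.card_eq_multiplicity, hG, show 60 * (9 * 9) = 3 ^ 5 * 20 by norm_num,
        Nat.factorization_mul (by norm_num) (by norm_num), Finsupp.add_apply,
        Nat.prime_three.factorization_pow, Finsupp.single_eq_same,
        Nat.factorization_eq_zero_of_not_dvd (by norm_num)] at hi
      have : (P : Subgroup G).index = 20 := by omega
      rwa [this] at h
    have h10 : N3 ≤ 10 := by
      have := Nat.le_of_dvd (by norm_num) h20
      interval_cases N3 <;> omega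
    set ψ := MulAction.toPermHom G (Sylow 3 G)
    rcases (inferInstance : ψ.ker.Normal).eq_bot_or_eq_top with e | e
    · have h := Subgroup.card_dvd_of_injective ψ ((MonoidHom.ker_eq_bot_iff ψ).mp e)
      rw [hG, Nat.card_perm] at h
      have h' : 60 * (9 * 9) ∣ Nat.factorial 10 := h.trans (Nat.factorial_dvd_factorial h10)
      revert h'
      decide
    · obtain ⟨P⟩ : Nonempty (Sylow 3 G) := inferInstance
      have hN : (P : Subgroup G).Normal := by
        rw [← Subgroup.normalizer_eq_top_iff]
        show Subgroup.normalizer (P : Set G) = ⊤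
        rw [← Sylow.stabilizer_eq_normalizer, eq_top_iff]
        intro g _
        exact mem_stabilizer_iff.mpr (DFunLike.congr_fun
          (show MulAction.toPermHom G (Sylow 3 G) g = 1 from MonoidHom.mem_ker.mp (e ▸ Subgroup.mem_top g)) P)
      have hP : Nat.card P = 243 := by
        rw [P.card_eq_multiplicity, hG, show 60 * (9 * 9) = 3 ^ 5 * 20 by norm_num,
          Nat.factorization_mul (by norm_num) (by norm_num), Finsupp.add_apply,
          Nat.prime_three.factorization_pow, Finsupp.single_eq_same,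
          Nat.factorization_eq_zero_of_not_dvd (by norm_num)]
        norm_num
      rcases hN.eq_bot_or_eq_top with e' | e'
      · rw [e', Subgroup.card_bot] at hP; norm_num at hP
      · rw [e', Subgroup.card_top, hG] at hP; norm_num at hP
  · haveI : Fact (Nat.Prime 7) := ⟨by norm_num⟩
    exact K.no_full hprim (r := 7) (by norm_num) fact_seven (by rw [hG]; norm_num)

theorem five_two (D : PMinusTwo.Data G 5) (hprim : IsPreprimitive G Ω) (hone : OneClass D)
    (heq : HasEq D (2 * (5 : ℕ)) 1) : Nonempty (G ≃* alternatingGroup (Fin 6)) := by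
  set c := Nat.card (Subgroup.centralizer ({D.t} : Set G))
  set n := Nat.card (Sylow 5 G)
  have he : (9 * (c * c) : ℕ) = 16 * n := by
    unfold HasEq at heq
    push_cast at heq
    have : (9 * (c * c) : ℤ) = 16 * n := by linarith
    exact_mod_cast this
  obtain ⟨d, hd⟩ : 4 ∣ c := by
    obtain ⟨d, hd⟩ : 2 ∣ c := Nat.prime_two.dvd_of_dvd_pow (n := 2) (by rw [pow_two]; omega)
    rw [hd] at he
    have : 9 * (d * d) = 4 * n := by linarith
    obtain ⟨e, he'⟩ : 2 ∣ d := Nat.prime_two.dvd_of_dvd_pow (n := 2) (by rw [pow_two]; omega)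
    exact ⟨e, by rw [hd, he']; ring⟩
  have hn : n = 9 * (d * d) := by rw [hd] at he; linarith
  have hG : Nat.card G = 90 * (d * d) := by rw [K.card_G]; show 2 * 5 * n = _; rw [hn]; ring
  have hd0 : d ≠ 0 := fun h => Nat.card_pos.ne' (show Nat.card G = 0 by rw [hG, h])
  have hv : d.factorization 2 = 1 := by
    have h := (Nat.prime_two.pow_dvd_iff_le_factorization Nat.card_pos.ne').mp (K.cent_full D hone)
    have h' := (Nat.factorization_le_iff_dvd Nat.card_pos.ne' Nat.card_pos.ne').mpr
      (Subgroup.card_subgroup_dvd_card (Subgroup.centralizer ({D.t} : Set G))) 2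
    rw [show Nat.card (Subgroup.centralizer ({D.t} : Set G)) = 2 ^ 2 * d from hd, hG,
      show 90 * (d * d) = 2 ^ 1 * 45 * (d * d) by norm_num] at h h'
    rw [Nat.factorization_mul (a := 2 ^ 1 * 45) (b := d * d) (by norm_num) (mul_ne_zero hd0 hd0),
      Nat.factorization_mul (a := 2 ^ 1) (b := 45) (by norm_num) (by norm_num),
      Nat.factorization_mul (a := 2 ^ 2) (b := d) (by norm_num) hd0,
      Nat.factorization_mul hd0 hd0] at h h'
    simp only [Finsupp.add_apply, Nat.prime_two.factorization_pow, Finsupp.single_eq_same,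
      Nat.factorization_eq_zero_of_not_dvd (show ¬ 2 ∣ 45 by norm_num)] at h h'
    omega
  obtain ⟨o, ho⟩ := (Nat.prime_two.pow_dvd_iff_le_factorization (k := 1) hd0).mpr hv.ge
  rw [pow_one] at ho
  subst ho
  have ho0 : o ≠ 0 := fun h => hd0 (by rw [h])
  have hodd : Odd o := by
    rw [← Nat.not_even_iff_odd, even_iff_two_dvd]
    intro h2
    have := Nat.prime_two.factorization_pos_of_dvd ho0 h2
    rw [Nat.factorization_mul (by norm_num) ho0, Finsupp.add_apply, Nat.prime_two.factorization_self] at hv
    omega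
  have hG' : Nat.card G = 360 * (o * o) := by rw [hG]; ring
  have hmod : (o * o) % 5 = 1 := by
    have h := K.card_sylow_mod
    change n % 5 = 1 at h
    rw [hn, show 9 * (2 * o * (2 * o)) = 36 * (o * o) by ring] at h
    omega
  rcases five_cases hodd hmod ((Nat.mul_dvd_mul_right (by norm_num : 60 ∣ 360) _).trans (hG' ▸ K.card_dvd))
    with rfl | rfl | rfl
  · exact Cfsg.Agent.S0497.result hG'
  · haveI : Fact (Nat.Prime 3) := ⟨Nat.prime_three⟩
    exact (K.no_full hprim (r := 3) (by norm_num) fact_three (by rw [hG']; norm_num)).elim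
  · haveI : Fact (Nat.Prime 7) := ⟨by norm_num⟩
    exact (K.no_full hprim (r := 7) (by norm_num) fact_seven (by rw [hG']; norm_num)).elim

theorem seven_false (hprim : IsPreprimitive G Ω) (hR : rank G Ω = 3) (h7 : 7 ∣ Nat.card G) : False := by
  haveI : Fact (Nat.Prime 7) := ⟨by norm_num⟩
  obtain ⟨g, hg⟩ := exists_prime_orderOf_dvd_card' (G := G) 7 h7
  set σ := MulAction.toPermHom G Ω g
  have hσ : orderOf σ = 7 := by rw [orderOf_injective _ (toPermHom_injective (G := G) (Ω := Ω)), hg]
  have hmem : ∀ i ∈ σ.cycleType, i = 7 := fun i hi => by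
    have h1 := Equiv.Perm.dvd_of_mem_cycleType hi
    rw [hσ] at h1
    have := Equiv.Perm.two_le_of_mem_cycleType hi
    rcases (Nat.dvd_prime (by norm_num : Nat.Prime 7)).mp h1 with e | e <;> omega
  have hrep := Multiset.eq_replicate_card.mpr hmem
  have hsum : σ.cycleType.sum = 7 * Multiset.card σ.cycleType := by
    conv_lhs => rw [hrep, Multiset.sum_replicate, smul_eq_mul, mul_comm]
  have hle : σ.cycleType.sum ≤ 15 := by
    have h1 := Equiv.Perm.sum_cycleType_le σ
    have h2 := K.card_omega
    omega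
  have hmoved := K.card_moved g
  have hcard0 : Multiset.card σ.cycleType ≠ 0 := fun h => by
    rw [Multiset.card_eq_zero, Equiv.Perm.cycleType_eq_zero] at h
    rw [h, orderOf_one] at hσ
    norm_num at hσ
  by_cases h1 : Multiset.card σ.cycleType = 1
  · refine K.no_cycle hprim (g := g) (r := 7) (by norm_num) (by norm_num)
      (Equiv.Perm.card_cycleType_eq_one.mp h1) ?_
    rw [← Equiv.Perm.sum_cycleType, hsum, h1]
  have hfx : fx Ω g = 1 := by
    have hcard : Multiset.card σ.cycleType = 2 := by omega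
    have h3 : σ.cycleType.sum = 3 * 5 - fx Ω g := by convert hmoved using 3
    omega
  obtain ⟨x, hx⟩ : ∃ x, fixedBy Ω g = {x} :=
    Set.ncard_eq_one.mp (by rw [← Nat.card_coe_set_eq]; exact hfx)
  have hgx : g • x = x := (hx.symm ▸ Set.mem_singleton x : x ∈ fixedBy Ω g)
  obtain ⟨b, c, hb, hc, hbc, hcov⟩ := exists_two_suborbits hR x
  have hk : ∀ b : Ω, b ≠ x → 7 ∣ Nat.card (orbit (stabilizer G x) b) := by
    intro b hb
    let A : SubMulAction (Subgroup.zpowers g) Ω :=
      { carrier := orbit (stabilizer G x) b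
        smul_mem' := by
          rintro ⟨w, hw⟩ _ ⟨s, rfl⟩
          exact ⟨⟨w, (Subgroup.zpowers_le.mpr (show g ∈ stabilizer G x from hgx)) hw⟩ * s, mul_smul _ _ _⟩ }
    have hmod := (IsPGroup.of_card (n := 1) (p := 7) (G := Subgroup.zpowers g)
      (by rw [Nat.card_zpowers, hg, pow_one])).card_modEq_card_fixedPoints A
    haveI : IsEmpty (fixedPoints (Subgroup.zpowers g) A) := ⟨by
      rintro ⟨⟨z, ⟨s, rfl⟩⟩, hz⟩
      have hgz : g • (s • b) = s • b := congrArg Subtype.val (hz ⟨g, Subgroup.mem_zpowers g⟩)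
      have hzx : s • b = x := by
        have : (s • b) ∈ fixedBy Ω g := hgz
        rwa [hx, Set.mem_singleton_iff] at this
      exact hb (smul_left_cancel (s : G) (hzx.trans (mem_stabilizer_iff.mp s.2).symm))⟩
    rw [Nat.card_of_isEmpty (α := fixedPoints (Subgroup.zpowers g) A)] at hmod
    exact Nat.modEq_zero_iff_dvd.mp hmod
  have hkl : Nat.card (orbit (stabilizer G x) b) + Nat.card (orbit (stabilizer G x) c) ≤ 14 := by
    have hd : Disjoint (orbit (stabilizer G x) b) (orbit (stabilizer G x) c) := by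
      rw [Set.disjoint_left]
      intro y h1 h2
      rw [orbit_stabilizer_eq] at h1 h2
      exact hbc ((rel_iff_mk (G := G)).mpr (((rel_iff_mk (G := G)).mp h2).symm.trans
        ((rel_iff_mk (G := G)).mp h1)))
    rw [Nat.card_coe_set_eq, Nat.card_coe_set_eq, ← Set.ncard_union_eq hd (Set.toFinite _) (Set.toFinite _)]
    refine (Set.ncard_le_ncard (t := {x}ᶜ) ?_ (Set.toFinite _)).trans ?_
    · rintro y (⟨s, rfl⟩ | ⟨s, rfl⟩) e
      exacts [hb (smul_left_cancel (s : G) (Eq.trans e (mem_stabilizer_iff.mp s.2).symm)),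
        hc (smul_left_cancel (s : G) (Eq.trans e (mem_stabilizer_iff.mp s.2).symm))]
    · rw [Set.ncard_compl, Set.ncard_singleton, Nat.card_eq_fintype_card, K.card_omega]
  have hpos : ∀ b : Ω, 0 < Nat.card (orbit (stabilizer G x) b) := fun b =>
    Nat.card_pos_iff.mpr ⟨⟨⟨b, mem_orbit_self b⟩⟩, inferInstance⟩
  obtain ⟨⟨i, hi⟩, ⟨j, hj⟩⟩ := And.intro (hk b hb) (hk c hc)
  have := hpos b
  have := hpos c
  have hk7 : Nat.card (orbit (stabilizer G x) b) = 7 ∧ Nat.card (orbit (stabilizer G x) c) = 7 := by omega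
  obtain ⟨D⟩ := K.exists_data
  obtain ⟨a, ha⟩ : ∃ a : Ω, D.t • a ≠ a := by
    by_contra h
    push Not at h
    exact Invol.ne_one_of_orderOf_two D.orderOf_t
      (eq_of_smul_eq_smul (α := Ω) fun z => by rw [h z, one_smul])
  have hfalse : ∀ w : Ω, Nat.card (orbit (stabilizer G x) w) = 7 → w ≠ x →
      Rel G x w a (D.t • a) → False := by
    rintro w hw hwx ⟨h, h1, h2⟩
    have hY : Nat.card (orbit G (x, w)) = 105 := by
      have h := Nat.card_congr (orbitProdStabilizerEquivGroup G (x, w))
      rw [Nat.card_prod] at h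
      have h' : Nat.card G = 15 * (Nat.card (orbit (stabilizer G x) w) * Nat.card (stabilizer G (x, w))) := by
        have e := Subgroup.card_mul_index (stabilizer G x)
        rw [index_stabilizer_of_transitive G x, Nat.card_eq_fintype_card (α := Ω), K.card_omega] at e
        have e2 := Nat.card_congr (orbitProdStabilizerEquivGroup (stabilizer G x) w)
        rw [Nat.card_prod] at e2
        have e3 : Nat.card (stabilizer (stabilizer G x) w) = Nat.card (stabilizer G (x, w)) :=
          Nat.card_congr
            { toFun := fun g => ⟨(g : stabilizer G x), Prod.ext (g : stabilizer G x).2 g.2⟩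
              invFun := fun g => ⟨⟨(g : G), congrArg Prod.fst g.2⟩, congrArg Prod.snd g.2⟩
              left_inv := fun _ => rfl
              right_inv := fun _ => rfl }
        rw [← e, ← e2, e3]; ring
      rw [hw, ← mul_assoc] at h'
      rw [h'] at h
      exact Nat.eq_of_mul_eq_mul_right Nat.card_pos h
    have hswap : ∀ q ∈ orbit G (x, w), Prod.swap q ∈ orbit G (x, w) := by
      rintro _ ⟨k, rfl⟩
      refine ⟨k * h⁻¹ * D.t * h, ?_⟩
      show (k * h⁻¹ * D.t * h) • (x, w) = Prod.swap (k • (x, w))
      rw [mul_smul, mul_smul, mul_smul, show h • (x, w) = (a, D.t • a) from Prod.ext h1 h2]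
      have e1 : h⁻¹ • a = x := inv_smul_eq_iff.mpr h1.symm
      have e2 : h⁻¹ • (D.t • a) = w := inv_smul_eq_iff.mpr h2.symm
      have htt : D.t • D.t • a = a := by rw [← mul_smul, D.tt, one_smul]
      simp only [Prod.smul_mk, Prod.swap_prod_mk, htt, e1, e2]
    haveI : Fact (Nat.Prime 2) := ⟨Nat.prime_two⟩
    let f : Function.End (orbit G (x, w)) := fun q => ⟨Prod.swap q.1, hswap q.1 q.2⟩
    have hf : f ^ 2 ^ 1 = 1 := by
      rw [pow_one, pow_two]
      funext q
      exact Subtype.ext (Prod.swap_swap _)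
    have hmod := Equiv.Perm.card_fixedPoints_modEq hf
    haveI : IsEmpty (Function.fixedPoints f) := ⟨by
      rintro ⟨⟨_, k, rfl⟩, hq⟩
      have e := congrArg Prod.fst (congrArg Subtype.val hq)
      simp only [f, Prod.smul_mk, Prod.swap_prod_mk] at e
      exact hwx (smul_left_cancel k e)⟩
    rw [← Nat.card_eq_fintype_card, hY, Fintype.card_eq_zero] at hmod
    exact absurd hmod (by decide)
  rcases hcov a (D.t • a) ha with h | h
  exacts [hfalse b hk7.1 hb h, hfalse c hk7.2 hc h]

end Ctx

end CfsgLib.DegreeThreeP
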