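import Cfsg.Agent.Lib.DegreeThreeP.Setup
import Cfsg.Agent.Lib.SL2.MaxList
import Cfsg.Agent.S4706

/-!
# Degree `3 p`: the imprimitive action
-/

set_option autoImplicit false
set_option linter.unusedSectionVars false
set_option linter.style.haveILetI false

namespace CfsgLib.DegreeThreeP

open Cfsg CfsgLib MulAction
open scoped _root_.Classical

universe u v

variable {G : Type u} [Group G] [Fintype G] [IsSimpleGroup G] {Ω : Type v} [Fintype Ω]
  [MulAction G Ω] [FaithfulSMul G Ω] [IsPretransitive G Ω] {p : ℕ} [Fact p.Prime]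

/-- An imprimitive group is `PSL₂(2 ^ m)` with `p = 2 ^ m + 1`. -/
theorem imprimitive (K : Ctx G Ω p) (hprim : ¬ IsPreprimitive G Ω) :
    ∃ (F : Type) (_ : Field F) (_ : Fintype F) (m : ℕ), Fintype.card F = 2 ^ m ∧ p = 2 ^ m + 1 ∧
      Nonempty (G ≃* Matrix.ProjectiveSpecialLinearGroup (Fin 2) F) := by
  have hpp := K.prime
  have h5 := K.five_le
  haveI : Nontrivial Ω := Fintype.one_lt_card_iff_nontrivial.mp (by rw [K.card_omega]; omega)
  have x : Ω := Classical.arbitrary Ω
  have hidx : (stabilizer G x).index = 3 * p := by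
    rw [index_stabilizer_of_transitive G x, Nat.card_eq_fintype_card, K.card_omega]
  have hA : stabilizer G x ≠ ⊤ := fun h => by
    rw [h, Subgroup.index_top] at hidx
    omega
  obtain ⟨M, hM, hlt⟩ : ∃ M : Subgroup G, M ≠ ⊤ ∧ stabilizer G x < M := by
    by_contra h
    push Not at h
    exact hprim ((isCoatom_stabilizer_iff_preprimitive G x).mp
      ⟨hA, fun M hM => by_contra fun h' => h M h' hM⟩)
  have hdvd : M.index ∣ 3 * p := hidx ▸ Subgroup.index_dvd_of_le hlt.le
  have hne : M.index ≠ 3 * p := by
    intro h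
    refine hlt.ne (Subgroup.eq_of_le_of_card_ge hlt.le (Nat.le_of_mul_le_mul_right ?_ (by omega : 0 < 3 * p)))
    conv_lhs => rw [← h, Subgroup.card_mul_index]
    conv_rhs => rw [← hidx, Subgroup.card_mul_index]
  set f := MulAction.toPermHom G (G ⧸ M) with hf
  have hinj : Function.Injective f := by
    refine (MonoidHom.ker_eq_bot_iff f).mp ((inferInstance : f.ker.Normal).eq_bot_or_eq_top.resolve_right ?_)
    intro h
    refine hM (top_le_iff.mp ?_)
    have := Subgroup.normalCore_le M
    rw [Subgroup.normalCore_eq_ker, ← hf, h] at this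
    exact this
  have hcM : Fintype.card (G ⧸ M) = M.index := by
    rw [Subgroup.index, Nat.card_eq_fintype_card]
  have hidxp : M.index = p := by
    obtain ⟨a, b, ha, hb, hab⟩ := Nat.dvd_mul.mp hdvd
    rcases (Nat.dvd_prime Nat.prime_three).mp ha with rfl | rfl <;>
      rcases (Nat.dvd_prime hpp).mp hb with rfl | rfl
    · exact absurd (Subgroup.index_eq_one.mp (by omega)) hM
    · omega
    · exfalso
      have h := Subgroup.card_dvd_of_injective f hinj
      rw [Nat.card_perm, Nat.card_eq_fintype_card (α := G ⧸ M), hcM,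
        show M.index = 3 by omega] at h
      exact absurd (hpp.dvd_factorial.mp (K.p_dvd_card.trans h)) (by omega)
    · exact absurd hab.symm hne
  let φ : G ≃* f.range := MonoidHom.ofInjective hinj
  set P' : Sylow p f.range := K.P.mapSurjective (f := φ.toMonoidHom) φ.surjective
  have hP' : (P' : Subgroup f.range) = (K.P : Subgroup G).map φ.toMonoidHom :=
    Sylow.coe_mapSurjective φ.surjective K.P
  have hN : Nat.card (Subgroup.normalizer ((P' : Subgroup f.range) : Set f.range)) = 2 * p := by
    rw [hP', ← Subgroup.map_equiv_normalizer_eq,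
      Subgroup.card_map_of_injective (show Function.Injective φ.toMonoidHom from φ.injective)]
    exact K.card_N
  rcases Cfsg.Agent.S4706.result (by omega) (hcM.trans hidxp) f.range P' hN with
    h | ⟨a, F, iF, iFF, hpa, hF, ⟨e⟩⟩
  · exfalso
    have hn : (K.P : Subgroup G).Normal := by
      have := h.comap φ.toMonoidHom
      rwa [hP', Subgroup.comap_map_eq_self_of_injective (show Function.Injective φ.toMonoidHom from φ.injective)] at this
    rcases hn.eq_bot_or_eq_top with h' | h'
    · have := K.card_P
      rw [h', Subgroup.card_bot] at this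
      omega
    · have hG : Nat.card G = p := by
        rw [← K.card_P, h', Subgroup.card_top]
      haveI : IsCyclic G := isCyclic_of_prime_card hG
      exact K.noncomm ⟨⟨fun a b => (IsCyclic.commGroup (α := G)).mul_comm a b⟩⟩
  · have ha : a ≠ 0 := fun h => by rw [h, pow_zero] at hpa; omega
    haveI : Fact (Nat.Prime 2) := ⟨Nat.prime_two⟩
    haveI : CharP F 2 := charP_of_card_eq_prime_pow (f := a) hF
    refine ⟨F, iF, iFF, a, hF, hpa, ⟨(φ.trans e).trans (MulEquiv.ofBijective (CfsgLib.SL2.proj (F := F))
      ⟨(MonoidHom.ker_eq_bot_iff _).1 ?_, CfsgLib.SL2.proj_surjective⟩)⟩⟩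
    rw [QuotientGroup.ker_mk', CfsgLib.BrauerReynolds.center_SL_two_of_char_two]

end CfsgLib.DegreeThreeP
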