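import Cfsg.Agent.Lib.DegreeThreeP.TransTwo
import Cfsg.Agent.Lib.DegreeThreeP.Five

/-!
# Degree `3 p`, two orbits on pairs, `p ≡ 1 (mod 4)`
-/

set_option autoImplicit false
set_option linter.unusedSectionVars false
set_option linter.style.haveILetI false

namespace CfsgLib.DegreeThreeP

open Cfsg CfsgLib MulAction
open scoped _root_.Classical

universe u v

variable {G : Type u} [Group G] [Fintype G] [IsSimpleGroup G] {Ω : Type v} [Fintype Ω]
  [MulAction G Ω] [FaithfulSMul G Ω] [IsPretransitive G Ω] {p : ℕ} [Fact p.Prime]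

/-- An element commuting with an involution fixing three points, and fixing two of them, fixes all. -/
theorem fixes_three {u g : G} (h3 : fx Ω u = 3) (hc : Commute g u) {a a' : Ω} (hne : a' ≠ a)
    (ha : u • a = a) (ha' : u • a' = a') (hga : g • a = a) (hga' : g • a' = a') {z : Ω}
    (hz : u • z = z) : g • z = z := by
  by_contra hzn
  have hgz : g • z ∈ fixedBy Ω u :=
    centralizer_smul_mem (Subgroup.mem_centralizer_singleton_iff.mpr hc.eq) hz
  have h1 : z ≠ a := fun e => hzn (e ▸ hga)
  have h2 : z ≠ a' := fun e => hzn (e ▸ hga')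
  have h4 : g • z ≠ a := fun e => h1 (smul_left_cancel g (e.trans hga.symm))
  have h5 : g • z ≠ a' := fun e => h2 (smul_left_cancel g (e.trans hga'.symm))
  have hsub : ({a, a', z, g • z} : Set Ω) ⊆ fixedBy Ω u := by
    simp only [Set.insert_subset_iff, Set.singleton_subset_iff]
    exact ⟨ha, ha', hz, hgz⟩
  have := Set.ncard_le_ncard hsub (Set.toFinite _)
  rw [show (fixedBy Ω u).ncard = 3 by rw [← Nat.card_coe_set_eq]; exact h3,
    Set.ncard_insert_of_notMem, Set.ncard_insert_of_notMem, Set.ncard_pair (Ne.symm hzn)] at this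
  · omega
  · simp only [Set.mem_insert_iff, Set.mem_singleton_iff, not_or]; exact ⟨h2.symm, h5.symm⟩
  · simp only [Set.mem_insert_iff, Set.mem_singleton_iff, not_or]
    exact ⟨Ne.symm hne, h1.symm, h4.symm⟩

namespace Ctx

variable (K : Ctx G Ω p)

include K

theorem three_of_rank_two (D : PMinusTwo.Data G p) (hR : rank G Ω = 2) (hone : OneClass D)
    (h3 : fx Ω D.t = 3) (heq : HasEq D (3 * p) ((fx Ω D.t : ℤ) - 1)) :
    p % 8 = 5 ∧ ∃ x b : Ω, Three G Ω p x b := by
  haveI : Fact (Nat.Prime 2) := ⟨Nat.prime_two⟩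
  haveI : Nontrivial Ω := Fintype.one_lt_card_iff_nontrivial.mp (by
    rw [K.card_omega]; have := K.five_le; omega)
  obtain ⟨b, x, hbx⟩ := exists_pair_ne Ω
  have h5 := K.five_le
  have hone' : ∀ u w : G, orderOf u = 2 → orderOf w = 2 → IsConj u w := fun u w hu hw =>
    (hone u hu).symm.trans (hone w hw)
  have hall3 : ∀ u : G, orderOf u = 2 → fx Ω u = 3 := fun u hu => (fx_of_isConj (hone u hu)).trans h3
  have hp14 : p % 4 = 1 := by
    have := K.fx_involution D.orderOf_t
    rw [h3] at this
    omega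
  set c := Nat.card (Subgroup.centralizer ({D.t} : Set G))
  set n := Nat.card (Sylow p G)
  have he : c * c * ((3 * p - 1) * (3 * p - 2)) = 18 * n * ((p - 1) * (p - 1)) := by
    unfold HasEq at heq
    rw [h3] at heq
    push_cast at heq
    have : ((c * c * ((3 * p - 1) * (3 * p - 2)) : ℕ) : ℤ) = ((18 * n * ((p - 1) * (p - 1)) : ℕ) : ℤ) := by
      push_cast [Nat.cast_sub (show 1 ≤ 3 * p by omega), Nat.cast_sub (show 2 ≤ 3 * p by omega),
        Nat.cast_sub (show 1 ≤ p by omega)]
      linear_combination heq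
    exact_mod_cast this
  set e := (Nat.card G).factorization 2
  set f := (p - 1).factorization 2
  have hc0 : c ≠ 0 := Nat.card_pos.ne'
  have hn0 : n ≠ 0 := Nat.card_pos.ne'
  have hp1 : p - 1 ≠ 0 := by omega
  have hodd3 : ¬ 2 ∣ 3 * p - 2 := by omega
  have hodd9 : ¬ (2 ∣ p) := by omega
  have hv31 : (3 * p - 1).factorization 2 = 1 := by
    obtain ⟨i, hi⟩ : ∃ i, 3 * p - 1 = 2 * (2 * i + 1) := ⟨(3 * p - 3) / 4, by omega⟩
    rw [hi, Nat.factorization_mul (by norm_num) (by omega), Finsupp.add_apply,
      Nat.prime_two.factorization_self, Nat.factorization_eq_zero_of_not_dvd (by omega)]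
  have hvc : c.factorization 2 = e := le_antisymm
    ((Nat.factorization_le_iff_dvd hc0 Nat.card_pos.ne').mpr (Subgroup.card_subgroup_dvd_card _) 2)
    ((Nat.prime_two.pow_dvd_iff_le_factorization hc0).mp (K.two_part D hone))
  have hvG : e = 1 + n.factorization 2 := by
    show (Nat.card G).factorization 2 = _
    rw [K.card_G, Nat.factorization_mul (a := 2 * p) (b := n) (by omega) hn0,
      Nat.factorization_mul (a := 2) (b := p) (by norm_num) (by omega)]
    simp [Nat.prime_two.factorization_self, Nat.factorization_eq_zero_of_not_dvd hodd9]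
  have hkey : 2 * e + 1 = 1 + n.factorization 2 + 2 * f := by
    have h := congrArg (fun a => a.factorization 2) he
    beta_reduce at h
    rw [Nat.factorization_mul (a := c * c) (b := (3 * p - 1) * (3 * p - 2)) (mul_ne_zero hc0 hc0)
        (mul_ne_zero (by omega) (by omega)), Nat.factorization_mul hc0 hc0,
      Nat.factorization_mul (a := 3 * p - 1) (b := 3 * p - 2) (by omega) (by omega),
      Nat.factorization_mul (a := 18 * n) (b := (p - 1) * (p - 1)) (mul_ne_zero (by norm_num) hn0)
        (mul_ne_zero hp1 hp1), Nat.factorization_mul (a := 18) (b := n) (by norm_num) hn0,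
      Nat.factorization_mul hp1 hp1] at h
    simp only [Finsupp.add_apply, hvc, hv31, Nat.factorization_eq_zero_of_not_dvd hodd3] at h
    have h18 : Nat.factorization 18 2 = 1 := by
      rw [show (18 : ℕ) = 2 * 9 by rfl, Nat.factorization_mul (by norm_num) (by norm_num),
        Finsupp.add_apply, Nat.prime_two.factorization_self,
        Nat.factorization_eq_zero_of_not_dvd (by norm_num)]
    rw [h18] at h
    omega
  set B := Nat.card (stabilizer G (x, b))
  have hGB : Nat.card G = 3 * p * ((3 * p - 1) * B) := by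
    rw [card_group_eq K x b, K.card_orbit_two hR hbx]
  have hvB : e = 1 + B.factorization 2 := by
    show (Nat.card G).factorization 2 = _
    rw [hGB, Nat.factorization_mul (a := 3 * p) (b := (3 * p - 1) * B) (by omega)
      (mul_ne_zero (by omega) Nat.card_pos.ne'),
      Nat.factorization_mul (a := 3 * p - 1) (b := B) (by omega) Nat.card_pos.ne', Finsupp.add_apply,
      Finsupp.add_apply, hv31, Nat.factorization_eq_zero_of_not_dvd (by omega : ¬ 2 ∣ 3 * p)]
    omega
  -- the fixed points of a Sylow subgroup of the stabiliser of two points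
  obtain ⟨Q⟩ : Nonempty (Sylow 2 (stabilizer G (x, b))) := inferInstance
  set R : Subgroup G := (Q : Subgroup (stabilizer G (x, b))).map (stabilizer G (x, b)).subtype
  have hR2 : Nat.card R = 2 ^ B.factorization 2 := by
    rw [Subgroup.card_map_of_injective Subtype.val_injective, Q.card_eq_multiplicity]
  have hfix : ∀ g : R, g ≠ 1 → fx Ω g = 3 := by
    rintro ⟨g, hg⟩ hg1
    obtain ⟨⟨g', hg'⟩, -, rfl⟩ := id hg
    have hgx : g' • x = x := congrArg Prod.fst hg'
    have hgb : g' • b = b := congrArg Prod.snd hg'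
    obtain ⟨i, -, hi⟩ := (Nat.dvd_prime_pow Nat.prime_two).mp
      (hR2 ▸ orderOf_dvd_natCard (⟨g', hg⟩ : R) : orderOf (⟨g', hg⟩ : R) ∣ _)
    replace hi : orderOf g' = 2 ^ i := by rw [← hi, ← Subgroup.orderOf_coe]
    rcases i with _ | i
    · exact absurd (Subtype.ext (orderOf_eq_one_iff.mp hi)) hg1
    set u := g' ^ 2 ^ i
    have hu : orderOf u = 2 := by
      show orderOf (g' ^ 2 ^ i) = 2
      rw [orderOf_pow_of_dvd (by positivity) (by rw [hi]; exact pow_dvd_pow 2 (Nat.le_succ i)), hi,
        pow_succ, Nat.mul_div_cancel_left _ (by positivity)]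
    have hux : u • x = x := mem_stabilizer_iff.mp (pow_mem (mem_stabilizer_iff.mpr hgx) _)
    have hub : u • b = b := mem_stabilizer_iff.mp (pow_mem (mem_stabilizer_iff.mpr hgb) _)
    show Nat.card (fixedBy Ω g') = 3
    rw [← hall3 u hu, fx]
    refine congrArg (fun s : Set Ω => Nat.card s) (Set.ext fun z => ⟨fun hz => ?_, fun hz => ?_⟩)
    · exact mem_stabilizer_iff.mp (pow_mem (mem_stabilizer_iff.mpr hz) _)
    · exact fixes_three (hall3 u hu) (Commute.self_pow g' _) hbx hux hub hgx hgb hz
  have hdvd : Nat.card R ∣ 3 * (p - 1) := by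
    have h := Cfsg.Agent.Lib.Perm.sum_fixedBy (G := R) (X := Ω)
    have hs : ∀ g : R, Nat.card (fixedBy Ω g) = fx Ω (g : G) := fun g => rfl
    rw [← Finset.add_sum_erase _ _ (Finset.mem_univ (1 : R)),
      Finset.sum_congr rfl (g := fun _ => 3) fun g hg =>
        (hs g).trans (hfix g (Finset.ne_of_mem_erase hg)),
      hs, Subgroup.coe_one, fx_one, K.card_omega, Finset.sum_const, Finset.card_erase_of_mem
        (Finset.mem_univ _), Finset.card_univ, ← Nat.card_eq_fintype_card, smul_eq_mul] at h
    have hdd : Nat.card R ∣ 3 * p + (Nat.card R - 1) * 3 := by rw [h]; exact dvd_mul_left _ _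
    have hR0 : 0 < Nat.card R := Nat.card_pos
    rw [show 3 * p + (Nat.card R - 1) * 3 = 3 * (p - 1) + Nat.card R * 3 by omega] at hdd
    exact (Nat.dvd_add_left (dvd_mul_right _ _)).mp hdd
  have hBf : B.factorization 2 ≤ f := by
    rw [hR2] at hdvd
    exact (Nat.prime_two.pow_dvd_iff_le_factorization hp1).mp
      (((Nat.coprime_two_left.mpr (by decide : Odd 3)).pow_left _).dvd_of_dvd_mul_left hdvd)
  have hf2 : 2 ≤ f := (Nat.prime_two.pow_dvd_iff_le_factorization hp1).mp (by
    show 4 ∣ p - 1
    omega)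
  have hp8 : p % 8 = 5 := by
    have : ¬ 2 ^ 3 ∣ p - 1 := fun h => by
      have := (Nat.prime_two.pow_dvd_iff_le_factorization hp1).mp h
      omega
    omega
  have he3 : e = 3 := by omega
  refine ⟨hp8, x, b, hbx, hone', ⟨D.t, D.orderOf_t⟩, hall3, fun u a a' _ _ _ hne => rel_all hR hbx hne,
    ⟨?_, ?_⟩, ⟨?_, ?_⟩, ?_, by rw [K.card_orbit_two hR hbx]; omega⟩
  · exact (Nat.prime_two.pow_dvd_iff_le_factorization (k := 3) Nat.card_pos.ne').mpr (by omega)
  · intro h
    have := (Nat.prime_two.pow_dvd_iff_le_factorization (k := 4) Nat.card_pos.ne').mp h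
    omega
  · exact (Nat.prime_two.pow_dvd_iff_le_factorization (k := 2) Nat.card_pos.ne').mpr
      (show 2 ≤ B.factorization 2 by omega)
  · intro h
    have : 3 ≤ B.factorization 2 :=
      (Nat.prime_two.pow_dvd_iff_le_factorization (k := 3) Nat.card_pos.ne').mp h
    omega
  · intro g a a' hg ha ha'
    by_contra hne
    have hg2 : orderOf (g * g) = 2 := by
      rw [← pow_two, orderOf_pow_of_dvd two_ne_zero (by rw [hg]; norm_num), hg]
    have h1 : (g * g) • a = a := by rw [mul_smul, ha, ha]
    have h2 : (g * g) • a' = a' := by rw [mul_smul, ha', ha']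
    have heqfix : fx Ω g = fx Ω (g * g) := by
      refine congrArg (fun s : Set Ω => Nat.card s) (Set.ext fun z => ⟨fun hz => ?_, fun hz => ?_⟩)
      · show (g * g) • z = z
        rw [mul_smul, show g • z = z from hz, show g • z = z from hz]
      · exact fixes_three (hall3 _ hg2) ((Commute.refl g).mul_right (Commute.refl g)) hne h1 h2 ha ha' hz
    have := K.fx_four hg heqfix
    rw [heqfix, hall3 _ hg2] at this
    omega

/-- Only `p = 5` survives. -/
theorem three_small {x b : Ω} (H : Three G Ω p x b) (hR : rank G Ω = 2) : p = 5 := by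
  obtain ⟨t₀, ht₀⟩ := H.exists_invol
  obtain ⟨g₀, hg₀⟩ := (H.exists_frame ht₀).some.exists_order_four H
  set m := coreSize t₀
  set I := Finset.univ.filter fun t : G => orderOf t = 2 with hI
  have hc : ∀ t ∈ I, 8 * m = Nat.card (Subgroup.centralizer ({t} : Set G)) ∧ Odd m := by
    intro t ht
    obtain ⟨f⟩ := H.exists_frame (Finset.mem_filter.mp ht).2
    obtain ⟨O, hO⟩ := f.exists_core H
    have h1 := f.core_card hO
    have h2 := f.core_odd hO
    rw [h1, H.coreSize_eq ht₀ (Finset.mem_filter.mp ht).2] at h2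
    exact ⟨by rw [← hO.2, h1, H.coreSize_eq ht₀ (Finset.mem_filter.mp ht).2], h2⟩
  set U₁ := fun t : G => rootSet t m
  set U₂ := fun t : G => rootSet t (2 * m)
  have hkind : ∀ t ∈ I, m ≤ (U₁ t).card ∧ 2 * m ≤ (U₂ t).card ∧ Disjoint (U₁ t) (U₂ t) := by
    intro t ht
    obtain ⟨h8, hodd⟩ := hc t ht
    have ht2 := (Finset.mem_filter.mp ht).2
    have htm : t ^ m = t := by
      obtain ⟨k, hk⟩ := hodd
      rw [hk, pow_succ, pow_mul, pow_two, Invol.mul_self_of_orderOf_two ht2, one_pow, one_mul]
    refine ⟨le_card_rootSet ⟨8, by rw [← h8]; ring⟩ ⟨t, mem_rootSet.mpr htm⟩,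
      le_card_rootSet ⟨4, by rw [← h8]; ring⟩ ?_, ?_⟩
    · have hgg : orderOf (g₀ * g₀) = 2 := by
        rw [← pow_two, orderOf_pow_of_dvd two_ne_zero (by rw [hg₀]; norm_num), hg₀]
      obtain ⟨c, hc'⟩ := isConj_iff.mp (H.one _ t hgg ht2)
      refine ⟨c * g₀ * c⁻¹, mem_rootSet.mpr ?_⟩
      rw [pow_mul, pow_two, show c * g₀ * c⁻¹ * (c * g₀ * c⁻¹) = c * (g₀ * g₀) * c⁻¹ by group, hc', htm]
    · refine Finset.disjoint_left.mpr fun y h1 h2 => Invol.ne_one_of_orderOf_two ht2 ?_
      have h1' := mem_rootSet.mp h1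
      have h2' := mem_rootSet.mp h2
      rw [mul_comm, pow_mul, h1', pow_two, Invol.mul_self_of_orderOf_two ht2] at h2'
      exact h2'.symm
  have hdisj : (I : Set G).PairwiseDisjoint fun t => U₁ t ∪ U₂ t := by
    intro t ht u hu htu
    have ht2 := (Finset.mem_filter.mp ht).2
    have hu2 := (Finset.mem_filter.mp hu).2
    rw [Function.onFun, Finset.disjoint_left]
    intro y hy hy'
    rcases Finset.mem_union.mp hy with a | a <;> rcases Finset.mem_union.mp hy' with b | b <;>
      have ha := mem_rootSet.mp a <;> have hb := mem_rootSet.mp b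
    · exact htu (ha.symm.trans hb)
    · rw [mul_comm, pow_mul, ha, pow_two, Invol.mul_self_of_orderOf_two ht2] at hb
      exact Invol.ne_one_of_orderOf_two hu2 hb.symm
    · rw [mul_comm, pow_mul, hb, pow_two, Invol.mul_self_of_orderOf_two hu2] at ha
      exact Invol.ne_one_of_orderOf_two ht2 ha.symm
    · exact htu (ha.symm.trans hb)
  set U := I.biUnion fun t => U₁ t ∪ U₂ t
  have hU : I.card * (3 * m) ≤ U.card := by
    rw [Finset.card_biUnion hdisj, ← smul_eq_mul]
    refine Finset.card_nsmul_le_sum _ _ _ fun t ht => ?_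
    obtain ⟨h1, h2, h3⟩ := hkind t ht
    rw [Finset.card_union_of_disjoint h3]
    omega
  have hspec : ∀ y ∈ U, y ∈ K.reg ∧ (1 : ℤ) ≤ dev Ω y ^ 2 := by
    intro y hy
    obtain ⟨t, ht, hy⟩ := Finset.mem_biUnion.mp hy
    have ht2 := (Finset.mem_filter.mp ht).2
    obtain ⟨n, hn⟩ : ∃ n, y ∈ rootSet t n := by
      rcases Finset.mem_union.mp hy with a | a <;> exact ⟨_, a⟩
    refine ⟨K.mem_reg.mpr (K.regular_of_commute (rootSet_commute hn) (by rw [H.three t ht2])
      (by rw [H.three t ht2]; norm_num)), ?_⟩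
    have hne : fx Ω y ≠ 2 := by
      intro h2
      rw [fx, Nat.card_coe_set_eq] at h2
      obtain ⟨a, a', hne, he⟩ := Set.ncard_eq_two.mp h2
      have hy' : ∀ z : Ω, y • z = z → t • z = z := fun z hz => by
        rw [← mem_rootSet.mp hn]
        exact mem_stabilizer_iff.mp (pow_mem (show y ∈ stabilizer G z from hz) _)
      have hya : y • a = a := (he.symm ▸ Set.mem_insert a {a'} : a ∈ fixedBy Ω y)
      have hya' : y • a' = a' := (he.symm ▸ Set.mem_insert_of_mem a rfl : a' ∈ fixedBy Ω y)
      have hsub : fixedBy Ω t ⊆ fixedBy Ω y := fun z hz =>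
        fixes_three (H.three t ht2) (rootSet_commute hn) hne.symm (hy' a hya) (hy' a' hya') hya hya' hz
      have := Set.ncard_le_ncard hsub (Set.toFinite _)
      rw [H.ncard_fix ht2, h2] at this
      omega
    have : dev Ω y ≠ 0 := by rw [dev]; omega
    exact Int.add_one_le_iff.mpr (sq_pos_of_ne_zero this)
  have hG : Fintype.card G = 8 * (I.card * m) := by
    have h := Invol.card_isConj_mul_card_centralizer t₀
    rw [← (hc t₀ (Finset.mem_filter.mpr ⟨Finset.mem_univ _, ht₀⟩)).1,
      Nat.card_congr (Equiv.subtypeEquivRight fun v =>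
      (⟨fun h => by obtain ⟨c, rfl⟩ := isConj_iff.mp h; exact Invol.conj_orderOf_two ht₀ c,
        fun h => H.one t₀ v ht₀ h⟩ : IsConj t₀ v ↔ orderOf v = 2)),
      Nat.card_eq_fintype_card, Fintype.card_subtype, Nat.card_eq_fintype_card] at h
    rw [← h]; ring
  have hle : (U.card : ℤ) ≤ ∑ g ∈ K.reg, dev Ω g ^ 2 := by
    calc (U.card : ℤ) = ∑ _g ∈ U, (1 : ℤ) := by simp
      _ ≤ ∑ g ∈ U, dev Ω g ^ 2 := Finset.sum_le_sum fun g hg => (hspec g hg).2
      _ ≤ _ := Finset.sum_le_sum_of_subset_of_nonneg (fun g hg => (hspec g hg).1)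
          fun g _ _ => sq_nonneg _
  set M : ℤ := (I.card : ℤ) * m
  have h1 : 3 * M ≤ (U.card : ℤ) := by
    have h' : ((I.card * (3 * m) : ℕ) : ℤ) ≤ U.card := by exact_mod_cast hU
    push_cast at h'
    linarith
  have h2 : (p : ℤ) * ∑ g ∈ K.reg, dev Ω g ^ 2 = 16 * M := by
    rw [K.sum_dev_sq, hR, hG]; push_cast; ring
  have hM : 0 < M := by
    have : 0 < Fintype.card G := Fintype.card_pos
    rw [hG] at this
    have h' : 0 < I.card * m := by omega
    have : (0 : ℤ) < ((I.card * m : ℕ) : ℤ) := by exact_mod_cast h'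
    push_cast at this
    linarith
  have h3 : ((p : ℤ) * 3) * M ≤ 16 * M := by
    rw [← h2, mul_assoc]
    exact mul_le_mul_of_nonneg_left (h1.trans hle) (by positivity)
  have := le_of_mul_le_mul_right h3 hM
  have h5 := K.five_le
  omega

end Ctx

namespace Ctx

variable [Fact (Nat.Prime 5)] (K : Ctx G Ω 5)

include K

theorem not_five_three (D : PMinusTwo.Data G 5) (hprim : IsPreprimitive G Ω) (hone : OneClass D)
    (hR : rank G Ω = 2) {x b : Ω} (H : Three G Ω 5 x b)
    (heq : HasEq D (3 * (5 : ℕ)) ((fx Ω D.t : ℤ) - 1)) : False := by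
  set c := Nat.card (Subgroup.centralizer ({D.t} : Set G))
  set n := Nat.card (Sylow 5 G)
  have he : (91 * (c * c) : ℕ) = 144 * n := by
    unfold HasEq at heq
    rw [H.three _ D.orderOf_t] at heq
    push_cast at heq
    have : (91 * (c * c) : ℤ) = 144 * n := by linarith
    exact_mod_cast this
  obtain ⟨c', hc'⟩ : 12 ∣ c := by
    have h4 : 4 ∣ c := by
      obtain ⟨d, hd⟩ : 2 ∣ c := Nat.prime_two.dvd_of_dvd_pow (n := 2) (by rw [pow_two]; omega)
      rw [hd] at he
      have : 91 * (d * d) = 36 * n := by linarith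
      obtain ⟨e, he'⟩ : 2 ∣ d := Nat.prime_two.dvd_of_dvd_pow (n := 2) (by rw [pow_two]; omega)
      exact ⟨e, by rw [hd, he']; ring⟩
    have h3 : 3 ∣ c := Nat.prime_three.dvd_of_dvd_pow (n := 2) (by rw [pow_two]; omega)
    exact Nat.Coprime.mul_dvd_of_dvd_of_dvd (by norm_num : Nat.Coprime 4 3) h4 h3
  have hn : n = 91 * (c' * c') := by rw [hc'] at he; linarith
  have hG : Nat.card G = 910 * (c' * c') := by rw [K.card_G]; show 2 * 5 * n = _; rw [hn]; ring
  obtain ⟨d, rfl⟩ : 2 ∣ c' := Nat.prime_two.dvd_of_dvd_pow (n := 2) (by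
    have h8 := H.eight.1
    rw [hG] at h8
    rw [pow_two]; omega)
  have hG2 : Nat.card G = 3640 * (d * d) := by rw [hG]; ring
  have hdodd : Odd d := by
    rw [← Nat.not_even_iff_odd, even_iff_two_dvd]
    rintro ⟨e, rfl⟩
    exact H.eight.2 ⟨910 * (e * e), by rw [hG2]; ring⟩
  set B := Nat.card (stabilizer G (x, b))
  have hGB : Nat.card G = 210 * B := by
    rw [card_group_eq K x b, K.card_orbit_two hR H.ne]; ring
  obtain ⟨o, rfl⟩ : 3 ∣ d := Nat.prime_three.dvd_of_dvd_pow (n := 2) (by
    rw [hG2] at hGB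
    rw [pow_two]; omega)
  have hodd : Odd o := (Nat.odd_mul.mp hdodd).2
  have hG3 : Nat.card G = 32760 * (o * o) := by rw [hG2]; ring
  have hmod : (o * o) % 5 = 1 := by
    have h := K.card_sylow_mod
    change n % 5 = 1 at h
    rw [hn, show 91 * (2 * (3 * o) * (2 * (3 * o))) = 3276 * (o * o) by ring] at h
    omega
  rcases five_cases hodd hmod ((Nat.mul_dvd_mul_right (by norm_num : 60 ∣ 32760) _).trans
    (hG3 ▸ K.card_dvd)) with rfl | rfl | rfl
  · -- the stabiliser of two points would contain an element of order four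
    haveI : Fact (Nat.Prime 13) := ⟨by norm_num⟩
    haveI : Fact (Nat.Prime 2) := ⟨Nat.prime_two⟩
    set E := stabilizer G (x, b)
    have hE : Nat.card E = 156 := by
      show B = 156
      rw [hG3] at hGB; omega
    obtain ⟨⟨g, hgE⟩, hg⟩ := exists_prime_orderOf_dvd_card' (G := E) 13 (by rw [hE]; norm_num)
    rw [Subgroup.orderOf_mk] at hg
    obtain ⟨P, hP⟩ := (IsPGroup.of_card (n := 1) (p := 13) (G := Subgroup.zpowers (⟨g, hgE⟩ : E))
      (by rw [Nat.card_zpowers, Subgroup.orderOf_mk, hg, pow_one])).exists_le_sylow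
    have hPE : Nat.card P = 13 := by
      rw [P.card_eq_multiplicity, hE, show (156 : ℕ) = 13 ^ 1 * 12 by norm_num,
        Nat.factorization_mul (by norm_num) (by norm_num), Finsupp.add_apply,
        (by norm_num : Nat.Prime 13).factorization_pow, Finsupp.single_eq_same,
        Nat.factorization_eq_zero_of_not_dvd (by norm_num)]
      norm_num
    have hPg : (P : Subgroup E) = Subgroup.zpowers (⟨g, hgE⟩ : E) :=
      (Subgroup.eq_of_le_of_card_ge hP (by
        rw [hPE, Nat.card_zpowers, Subgroup.orderOf_mk, hg])).symm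
    have hnorm : (P : Subgroup E).Normal := by
      have hmod : Nat.card (Sylow 13 E) % 13 = 1 := card_sylow_modEq_one 13 E
      have hdvd := P.card_dvd_index
      have hi := Subgroup.card_mul_index (P : Subgroup E)
      rw [hPE, hE] at hi
      rw [show (P : Subgroup E).index = 12 by omega] at hdvd
      have h1 : Nat.card (Sylow 13 E) = 1 := by
        have := Nat.le_of_dvd (by norm_num) hdvd
        omega
      have := (Nat.card_eq_one_iff_unique.mp h1).1
      exact P.normal_of_subsingleton
    -- `g` is a cycle on the other thirteen points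
    have hsub : fixedBy Ω g = {x, b} := by
      have hgx : g • x = x := congrArg Prod.fst hgE
      have hgb : g • b = b := congrArg Prod.snd hgE
      set σ := MulAction.toPermHom G Ω g
      have hσ : orderOf σ = 13 := by
        rw [orderOf_injective _ (toPermHom_injective (G := G) (Ω := Ω)), hg]
      have hmem : ∀ i ∈ σ.cycleType, i = 13 := fun i hi => by
        have h1 := Equiv.Perm.dvd_of_mem_cycleType hi
        rw [hσ] at h1
        have := Equiv.Perm.two_le_of_mem_cycleType hi
        rcases (Nat.dvd_prime (by norm_num : Nat.Prime 13)).mp h1 with e | e <;> omega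
      have hrep := Multiset.eq_replicate_card.mpr hmem
      have hsum : σ.cycleType.sum = 13 * Multiset.card σ.cycleType := by
        conv_lhs => rw [hrep, Multiset.sum_replicate, smul_eq_mul, mul_comm]
      have hm : σ.cycleType.sum = 3 * 5 - fx Ω g := by convert K.card_moved g using 3
      have hle : fx Ω g ≤ 15 := by
        rw [fx, show (15 : ℕ) = Fintype.card Ω from K.card_omega.symm, ← Nat.card_eq_fintype_card]
        exact Nat.card_le_card_of_injective _ Subtype.val_injective
      have hne : fx Ω g ≠ 15 := by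
        intro h
        have : fixedBy Ω g = Set.univ := Set.eq_of_subset_of_ncard_le (Set.subset_univ _)
          (by rw [Set.ncard_univ, Nat.card_eq_fintype_card, K.card_omega, ← Nat.card_coe_set_eq]; exact h.ge)
          (Set.toFinite _)
        have hg1 : g = 1 := eq_of_smul_eq_smul (α := Ω) fun z => by
          rw [one_smul]; exact (this.symm ▸ Set.mem_univ z : z ∈ fixedBy Ω g)
        rw [hg1, orderOf_one] at hg
        norm_num at hg
      have h2 : fx Ω g = 2 := by omega
      refine (Set.eq_of_subset_of_ncard_le ?_ ?_ (Set.toFinite _)).symm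
      · simp only [Set.insert_subset_iff, Set.singleton_subset_iff]
        exact ⟨hgx, hgb⟩
      · rw [Set.ncard_pair H.ne.symm, ← Nat.card_coe_set_eq]; exact h2.le
    have hext : ∃ z : Ω, z ≠ x ∧ z ≠ b := by
      by_contra h
      push Not at h
      have : (Set.univ : Set Ω) ⊆ {x, b} := fun z _ => (em (z = x)).elim Or.inl fun e => Or.inr (h z e)
      have := Set.ncard_le_ncard this (Set.toFinite _)
      rw [Set.ncard_univ, Nat.card_eq_fintype_card, K.card_omega, Set.ncard_pair H.ne.symm] at this
      omega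
    obtain ⟨z, hzx, hzb⟩ := hext
    -- the stabiliser of a third point
    set E₂ := stabilizer E z
    have hE2 : 4 ∣ Nat.card E₂ := by
      have h := Nat.card_congr (orbitProdStabilizerEquivGroup E z)
      rw [Nat.card_prod, hE] at h
      have horb : Nat.card (orbit E z) = 13 := by
        have hge : 13 ≤ Nat.card (orbit E z) := by
          have hz : g • z ≠ z := fun e => by
            have : z ∈ fixedBy Ω g := e
            rw [hsub] at this
            rcases this with e | e <;> [exact hzx e; exact hzb e]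
          have h2 := Nat.card_le_card_of_injective (fun i : Fin 13 =>
            (⟨(⟨g, hgE⟩ : E) ^ (i : ℕ) • z, mem_orbit _ _⟩ : orbit E z)) ?_
          · rwa [Nat.card_fin] at h2
          intro i j hij
          have e : g ^ (i : ℕ) • z = g ^ (j : ℕ) • z := congrArg Subtype.val hij
          wlog hle : (i : ℕ) ≤ j generalizing i j
          · exact (this hij.symm e.symm (by omega)).symm
          by_contra hne
          have hd : g ^ ((j : ℕ) - i) • z = z := by
            refine smul_left_cancel (g ^ (i : ℕ)) ?_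
            rw [smul_smul, ← pow_add, show (i : ℕ) + (j - i) = j by omega]
            exact e.symm
          have hlt : (j : ℕ) - i < 13 := by omega
          have hpos : 0 < (j : ℕ) - i := by
            have : (i : ℕ) ≠ j := fun e => hne (Fin.ext e)
            omega
          obtain ⟨k, hk⟩ := exists_pow_eq_self_of_coprime (x := g) (n := (j : ℕ) - i) (by
            rw [hg]
            exact ((Nat.Prime.coprime_iff_not_dvd (by norm_num)).mpr fun hd' => by
              have := Nat.le_of_dvd hpos hd'; omega).symm)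
          exact hz (mem_stabilizer_iff.mp (hk ▸ pow_mem (mem_stabilizer_iff.mpr hd) k))
        have hle : Nat.card (orbit E z) ≤ 13 := by
          rw [Nat.card_coe_set_eq]
          refine (Set.ncard_le_ncard (t := ({x, b} : Set Ω)ᶜ) ?_ (Set.toFinite _)).trans ?_
          · rintro _ ⟨⟨s, hs⟩, rfl⟩ (e | e)
            · exact hzx (smul_left_cancel s ((e : s • z = x).trans (congrArg Prod.fst hs).symm))
            · exact hzb (smul_left_cancel s ((e : s • z = b).trans (congrArg Prod.snd hs).symm))
          · rw [Set.ncard_compl, Set.ncard_pair H.ne.symm, Nat.card_eq_fintype_card, K.card_omega]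
        omega
      rw [horb] at h
      have h' : 13 * Nat.card E₂ = 156 := h
      exact ⟨3, by omega⟩
    obtain ⟨Q⟩ : Nonempty (Sylow 2 E₂) := inferInstance
    have hQ : 4 ∣ Nat.card Q := by
      rw [Q.card_eq_multiplicity]
      exact pow_dvd_pow 2 ((Nat.prime_two.pow_dvd_iff_le_factorization (k := 2) Nat.card_pos.ne').mp hE2)
    have hinv : ∀ s : Q, s ≠ 1 → (((s : E₂) : E) : G) * g * (((s : E₂) : E) : G)⁻¹ = g⁻¹ ∧
        (((s : E₂) : E) : G) * (((s : E₂) : E) : G) = 1 := by
      intro s hs1
      set w := (((s : E₂) : E) : G)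
      have hwE : w ∈ E := ((s : E₂) : E).2
      have hwz : w • z = z := (s : E₂).2
      have hwx : w • x = x := congrArg Prod.fst hwE
      obtain ⟨i, hi⟩ := IsPGroup.iff_orderOf.mp Q.2 s
      have hwo : orderOf w = 2 ^ i := by
        rw [← hi, ← Subgroup.orderOf_coe s, ← Subgroup.orderOf_coe (s : E₂), ← Subgroup.orderOf_coe ((s : E₂) : E)]
      have hw2 : orderOf w = 2 := by
        rcases i with _ | _ | i
        · exact absurd (orderOf_eq_one_iff.mp (hi.trans (pow_zero 2))) hs1
        · exact hwo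
        · exfalso
          have h4 : orderOf (w ^ 2 ^ i) = 4 := by
            rw [orderOf_pow_of_dvd (by positivity) (by rw [hwo]; exact pow_dvd_pow 2 (by omega)), hwo,
              show i + 1 + 1 = i + 2 by ring, pow_add, Nat.mul_div_cancel_left _ (by positivity)]
            rfl
          exact hzx (H.no_four _ x z h4
            (mem_stabilizer_iff.mp (pow_mem (mem_stabilizer_iff.mpr hwx) _))
            (mem_stabilizer_iff.mp (pow_mem (mem_stabilizer_iff.mpr hwz) _)))
      have hww := Invol.mul_self_of_orderOf_two hw2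
      refine ⟨?_, hww⟩
      have hmem : w * g * w⁻¹ ∈ Subgroup.zpowers g := by
        have := hnorm.conj_mem (⟨g, hgE⟩ : E) (by rw [hPg]; exact Subgroup.mem_zpowers _) ⟨w, hwE⟩
        rw [hPg] at this
        obtain ⟨k, hk⟩ := Subgroup.mem_zpowers_iff.mp this
        exact Subgroup.mem_zpowers_iff.mpr ⟨k, congrArg Subtype.val hk⟩
      refine (PMinusTwo.TwoP.inv_or_self (by norm_num) hg hmem (by rw [hww]; exact Commute.one_left g)).resolve_left
        fun e => Invol.ne_one_of_orderOf_two hw2 ?_
      have hc : Commute w g := mul_inv_eq_iff_eq_mul.mp e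
      have hsubfix : ({z, g • z, x, b} : Set Ω) ⊆ fixedBy Ω w := by
        simp only [Set.insert_subset_iff, Set.singleton_subset_iff]
        exact ⟨hwz, by show w • g • z = g • z; rw [← mul_smul, hc.eq, mul_smul, hwz], hwx,
          congrArg Prod.snd hwE⟩
      exfalso
      have h4 := Set.ncard_le_ncard hsubfix (Set.toFinite _)
      have hgz : g • z ∉ ({x, b} : Set Ω) := fun h => by
        rcases h with h | h
        · exact hzx (smul_left_cancel g ((h : g • z = x).trans (congrArg Prod.fst hgE).symm))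
        · exact hzb (smul_left_cancel g ((h : g • z = b).trans (congrArg Prod.snd hgE).symm))
      rw [H.ncard_fix hw2, Set.ncard_insert_of_notMem, Set.ncard_insert_of_notMem hgz,
        Set.ncard_pair H.ne.symm] at h4
      · omega
      · simp only [Set.mem_insert_iff, Set.mem_singleton_iff, not_or]
        refine ⟨fun e => ?_, hzx, hzb⟩
        have : z ∈ fixedBy Ω g := e.symm
        rw [hsub] at this
        rcases this with e | e <;> [exact hzx e; exact hzb e]
    obtain ⟨s₁, hs₁, s₂, hs₂, hs12⟩ : ∃ s₁ : Q, s₁ ≠ 1 ∧ ∃ s₂ : Q, s₂ ≠ 1 ∧ s₁ ≠ s₂ := by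
      have h4 : 4 ≤ Fintype.card Q := by
        rw [← Nat.card_eq_fintype_card]; exact Nat.le_of_dvd Nat.card_pos hQ
      obtain ⟨a, b, c, hab, hac, hbc⟩ := Fintype.two_lt_card_iff.mp (show 2 < Fintype.card Q by omega)
      rcases eq_or_ne a 1 with rfl | ha
      · exact ⟨b, Ne.symm hab, c, Ne.symm hac, hbc⟩
      · rcases eq_or_ne b 1 with rfl | hb
        · exact ⟨a, ha, c, Ne.symm hbc, hac⟩
        · exact ⟨a, ha, b, hb, hab⟩
    have h12 : s₁ * s₂ ≠ 1 := fun e => hs12 (by
      have h11 : s₁ * s₁ = 1 := by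
        apply Subtype.ext; apply Subtype.ext; apply Subtype.ext
        exact (hinv s₁ hs₁).2
      exact mul_left_cancel (h11.trans e.symm))
    have he := (hinv _ h12).1
    have e1 := (hinv s₁ hs₁).1
    have e2 := (hinv s₂ hs₂).1
    set a := (((s₁ : E₂) : E) : G)
    set b' := (((s₂ : E₂) : E) : G)
    have hcomp : a * b' * g * (a * b')⁻¹ = g := by
      rw [show a * b' * g * (a * b')⁻¹ = a * (b' * g * b'⁻¹) * a⁻¹ by group, e2,
        show a * g⁻¹ * a⁻¹ = (a * g * a⁻¹)⁻¹ by group, e1, inv_inv]
    have he' : a * b' * g * (a * b')⁻¹ = g⁻¹ := he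
    rw [hcomp] at he'
    have hgg : g * g = 1 := by nth_rewrite 2 [he']; exact mul_inv_cancel g
    have : orderOf g ∣ 2 := orderOf_dvd_of_pow_eq_one (by rw [pow_two]; exact hgg)
    rw [hg] at this
    norm_num at this
  · haveI : Fact (Nat.Prime 3) := ⟨Nat.prime_three⟩
    exact K.no_full hprim (r := 3) (by norm_num) fact_three (by rw [hG3]; norm_num)
  · haveI : Fact (Nat.Prime 7) := ⟨by norm_num⟩
    exact K.no_full hprim (r := 7) (by norm_num) fact_seven (by rw [hG3]; norm_num)

end Ctx

end CfsgLib.DegreeThreeP
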