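import Cfsg.Agent.Lib.DegreeThreeP.ThreeMod
import Cfsg.Agent.Lib.TransLinear.Transitive
import Cfsg.Agent.Lib.Transfer.Focal
import Cfsg.Agent.S1161

/-!
# Degree `3 p`, two orbits on pairs, `p ≡ 3 (mod 4)`: the semilinear group
-/

set_option autoImplicit false
set_option linter.unusedSectionVars false
set_option linter.style.haveILetI false
set_option maxHeartbeats 1000000

namespace CfsgLib.DegreeThreeP

open Cfsg CfsgLib MulAction
open scoped _root_.Classical

universe u v

/-- A proper divisor `d` of an odd `e` with `2 ^ e + 1` three times a prime is `1`. -/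
theorem eq_one_of_divisor {p e d : ℕ} (hp : p.Prime) (hq : 3 * p = 2 ^ e + 1) (he : Odd e)
    (hd : d ∣ e) (hlt : d < e) : d = 1 := by
  have hd0 : 0 < d := Nat.pos_of_dvd_of_pos hd he.pos
  obtain ⟨r, hr⟩ := hd
  have hrodd : Odd r := by rw [hr] at he; exact (Nat.odd_mul.mp he).2
  have hdvd : 2 ^ d + 1 ∣ 3 * p := by
    have h := hrodd.nat_add_dvd_pow_add_pow (2 ^ d) 1
    rwa [one_pow, ← pow_mul, ← hr, ← hq] at h
  have h2d : 2 ^ 1 ≤ 2 ^ d := Nat.pow_le_pow_right two_pos hd0
  have hlt' : 2 ^ d < 2 ^ e := Nat.pow_lt_pow_right one_lt_two hlt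
  obtain ⟨a, b, ha, hb, hab⟩ := Nat.dvd_mul.mp hdvd
  rcases (Nat.dvd_prime Nat.prime_three).mp ha with rfl | rfl <;>
    rcases (Nat.dvd_prime hp).mp hb with rfl | rfl
  · omega
  · -- `2 ^ d + 1 = p`
    have h1 : 2 ^ e = 3 * 2 ^ d + 2 := by omega
    rcases Nat.lt_or_ge d 2 with h | h
    · omega
    · exfalso
      obtain ⟨d', rfl⟩ : ∃ d', d = d' + 2 := ⟨d - 2, by omega⟩
      obtain ⟨e', rfl⟩ : ∃ e', e = e' + 2 := ⟨e - 2, by omega⟩
      rw [pow_add, pow_add] at h1
      omega
  · have h1 : 2 ^ d = 2 ^ 1 := by omega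
    exact Nat.pow_right_injective le_rfl h1
  · omega

theorem three_mul_add_lt {e : ℕ} (he : 5 ≤ e) : 3 * e + 3 < 2 ^ e := by
  induction e, he using Nat.le_induction with
  | base => norm_num
  | succ n hn ih => rw [pow_succ]; omega

variable {G : Type u} [Group G] [Fintype G] [IsSimpleGroup G] {Ω : Type v} [Fintype Ω]
  [MulAction G Ω] [FaithfulSMul G Ω] [IsPretransitive G Ω] {p : ℕ} [Fact p.Prime]

namespace One

variable {e m : ℕ} (H : One G Ω p e m) (K : Ctx G Ω p) (h7 : 7 ≤ p)

include H K h7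

theorem five_le_e : 5 ≤ e := by
  by_contra h
  have h1 : 2 ^ e ≤ 2 ^ 4 := Nat.pow_le_pow_right two_pos (by omega)
  have := H.q_eq
  omega

theorem odd_e : Odd e := by
  rw [← Nat.not_even_iff_odd]
  rintro ⟨j, hj⟩
  have h := H.q_eq
  have h4 : 4 ^ j % 3 = 1 := by rw [Nat.pow_mod]; norm_num
  rw [show 2 ^ e = 4 ^ j by rw [hj, ← two_mul, pow_mul]; norm_num] at h
  omega

theorem sq_one {s : G} {S : Sylow 2 G} (hs : s ∈ (S : Subgroup G)) : s * s = 1 := by
  obtain ⟨i, hi⟩ := IsPGroup.iff_orderOf.mp S.2 ⟨s, hs⟩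
  rw [Subgroup.orderOf_mk] at hi
  rcases i with _ | _ | i
  · rw [orderOf_eq_one_iff.mp (hi.trans (pow_zero 2)), one_mul]
  · exact Invol.mul_self_of_orderOf_two hi
  · refine absurd ?_ (H.no_four (s ^ 2 ^ i))
    rw [orderOf_pow_of_dvd (by positivity) (by rw [hi]; exact pow_dvd_pow 2 (by omega)), hi,
      show i + 1 + 1 = i + 2 by ring, pow_add, Nat.mul_div_cancel_left _ (by positivity)]
    rfl

theorem orderOf_mem {s : G} {S : Sylow 2 G} (hs : s ∈ (S : Subgroup G)) (h1 : s ≠ 1) : orderOf s = 2 :=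
  Invol.orderOf_two_of_mul_self (H.sq_one K h7 hs) h1

theorem comm {a b : G} {S : Sylow 2 G} (ha : a ∈ (S : Subgroup G)) (hb : b ∈ (S : Subgroup G)) :
    Commute a b := by
  have e1 := inv_eq_of_mul_eq_one_right (H.sq_one K h7 ha)
  have e2 := inv_eq_of_mul_eq_one_right (H.sq_one K h7 hb)
  have e3 := inv_eq_of_mul_eq_one_right (H.sq_one K h7 (mul_mem ha hb))
  rw [mul_inv_rev, e1, e2] at e3
  exact e3.symm

theorem card_sylow (S : Sylow 2 G) : Nat.card S = 2 ^ e := by rw [S.card_eq_multiplicity, H.full]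

theorem exists_ne_one (S : Sylow 2 G) : ∃ a ∈ (S : Subgroup G), a ≠ 1 := by
  refine (S : Subgroup G).bot_or_exists_ne_one.resolve_left fun h => ?_
  have := H.card_sylow K h7 S
  rw [show Nat.card S = Nat.card (S : Subgroup G) from rfl, h, Subgroup.card_bot] at this
  have h32 : 2 ^ 5 ≤ 2 ^ e := Nat.pow_le_pow_right two_pos (H.five_le_e K h7)
  omega

/-- The point fixed by a Sylow subgroup. -/
theorem exists_centre (S : Sylow 2 G) :
    ∃ w : Ω, ∀ s ∈ (S : Subgroup G), s ≠ 1 → fixedBy Ω s = {w} := by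
  obtain ⟨a, ha, ha1⟩ := H.exists_ne_one K h7 S
  obtain ⟨w, hw⟩ := single_eq (H.single a (H.orderOf_mem K h7 ha ha1))
  refine ⟨w, fun s hs hs1 => ?_⟩
  obtain ⟨z, hz⟩ := single_eq (H.single s (H.orderOf_mem K h7 hs hs1))
  have : w ∈ fixedBy Ω s := fix_of_commute hw (H.comm K h7 hs ha)
  rw [hz, Set.mem_singleton_iff] at this
  rw [hz, this]

variable {S : Sylow 2 G} {w : Ω} (hw : ∀ s ∈ (S : Subgroup G), s ≠ 1 → fixedBy Ω s = {w})

include hw

theorem smul_centre {s : G} (hs : s ∈ (S : Subgroup G)) : s • w = w := by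
  by_cases h : s = 1
  · rw [h, one_smul]
  · have : w ∈ fixedBy Ω s := (hw s hs h).symm ▸ Set.mem_singleton w
    exact this

/-- A Sylow subgroup is regular on the other points. -/
theorem regular {y z : Ω} (hy : y ≠ w) (hz : z ≠ w) :
    ∃ s ∈ (S : Subgroup G), s • y = z := by
  have hinj : Function.Injective fun s : S => (⟨(s : G) • y, fun e => hy
      (smul_left_cancel (s : G) ((Set.mem_singleton_iff.mp e).trans (H.smul_centre K h7 hw s.2).symm))⟩ :
      (({w} : Set Ω)ᶜ : Set Ω)) := by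
    intro s s' h
    by_contra hne
    have h' : (s : G) • y = (s' : G) • y := congrArg Subtype.val h
    have : y ∈ fixedBy Ω ((s : G)⁻¹ * s') := by
      show ((s : G)⁻¹ * s') • y = y
      rw [mul_smul, ← h', inv_smul_smul]
    rw [hw _ (mul_mem (inv_mem s.2) s'.2) fun e => hne (Subtype.ext (inv_mul_eq_one.mp e)),
      Set.mem_singleton_iff] at this
    exact hy this
  have hcard : Nat.card S = Nat.card (({w} : Set Ω)ᶜ : Set Ω) := by
    rw [H.card_sylow K h7 S, Nat.card_coe_set_eq, Set.ncard_compl, Set.ncard_singleton,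
      Nat.card_eq_fintype_card, K.card_omega]
    have := H.q_eq
    omega
  obtain ⟨s, hs⟩ := ((Nat.bijective_iff_injective_and_card _).mpr ⟨hinj, hcard⟩).2 ⟨z, hz⟩
  exact ⟨s, s.2, congrArg Subtype.val hs⟩

/-- Only the identity centralises a Sylow subgroup and fixes a second point. -/
theorem eq_one_of_centralizes {g : G} {y : Ω} (hy : y ≠ w) (hgy : g • y = y)
    (hc : ∀ s ∈ (S : Subgroup G), Commute g s) : g = 1 := by
  refine eq_of_smul_eq_smul (α := Ω) fun z => ?_
  rw [one_smul]
  by_cases hz : z = w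
  · obtain ⟨s, hs, hs1⟩ := H.exists_ne_one K h7 S
    rw [hz]
    exact fix_of_commute (hw s hs hs1) (hc s hs)
  · obtain ⟨s, hs, rfl⟩ := H.regular K h7 hw hy hz
    rw [← mul_smul, (hc s hs).eq, mul_smul, hgy]

/-- The normaliser of a Sylow subgroup fixes its point. -/
theorem normalizer_fix {n : G} (hn : n ∈ Subgroup.normalizer ((S : Subgroup G) : Set G)) :
    n • w = w := by
  obtain ⟨s, hs, hs1⟩ := H.exists_ne_one K h7 S
  have hs' : n * s * n⁻¹ ∈ (S : Subgroup G) := (Subgroup.mem_normalizer_iff.mp hn s).mp hs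
  have h1 : w ∈ fixedBy Ω s := (hw s hs hs1).symm ▸ Set.mem_singleton w
  have h2 : n • w ∈ fixedBy Ω (n * s * n⁻¹) := by
    show (n * s * n⁻¹) • n • w = n • w
    rw [smul_smul, inv_mul_cancel_right, mul_smul, show s • w = w from h1]
  rwa [hw _ hs' fun e => hs1 (conj_eq_one_iff.mp e), Set.mem_singleton_iff] at h2

/-- The normaliser is the Sylow subgroup times a point stabiliser. -/
theorem normalizer_decomp {y : Ω} (hy : y ≠ w) {n : G}
    (hn : n ∈ Subgroup.normalizer ((S : Subgroup G) : Set G)) :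
    ∃ s ∈ (S : Subgroup G), ∃ l ∈ Subgroup.normalizer ((S : Subgroup G) : Set G) ⊓ stabilizer G y,
      n = s * l := by
  obtain ⟨s, hs, hsy⟩ := H.regular K h7 hw hy (z := n • y) fun e =>
    hy (smul_left_cancel n (e.trans (H.normalizer_fix K h7 hw hn).symm))
  refine ⟨s, hs, s⁻¹ * n, Subgroup.mem_inf.mpr ⟨(Subgroup.normalizer _).mul_mem
    ((Subgroup.normalizer _).inv_mem (Subgroup.le_normalizer hs)) hn, ?_⟩,
    (mul_inv_cancel_left s n).symm⟩
  show (s⁻¹ * n) • y = y
  rw [mul_smul, inv_smul_eq_iff, hsy]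

/-- The stabiliser of a point in the normaliser is semilinear on the Sylow subgroup. -/
theorem semilinear {y : Ω} (hy : y ≠ w) {t : G} (htS : t ∈ (S : Subgroup G)) (ht1 : t ≠ 1) :
    (∀ k ∈ Subgroup.normalizer ((S : Subgroup G) : Set G) ⊓ stabilizer G y, k * t * k⁻¹ = t →
      ∀ s ∈ (S : Subgroup G), k * s * k⁻¹ = s → s ≠ 1 → s ≠ t → k = 1) ∧
    (Finset.univ.filter fun k : G =>
      k ∈ Subgroup.normalizer ((S : Subgroup G) : Set G) ⊓ stabilizer G y ∧ k * t * k⁻¹ = t).card ≤ e := by
  haveI : Fact (Nat.Prime 2) := ⟨Nat.prime_two⟩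
  set L := Subgroup.normalizer ((S : Subgroup G) : Set G) ⊓ stabilizer G y
  have hLodd : Odd (Nat.card L) := by
    rw [← Nat.not_even_iff_odd, even_iff_two_dvd]
    intro h
    obtain ⟨⟨u, hum⟩, hu⟩ := exists_prime_orderOf_dvd_card' (G := L) 2 h
    rw [Subgroup.orderOf_mk] at hu
    obtain ⟨a, ha⟩ := single_eq (H.single u hu)
    have h2 : w ∈ fixedBy Ω u := H.normalizer_fix K h7 hw hum.1
    have h3 : y ∈ fixedBy Ω u := hum.2
    rw [ha, Set.mem_singleton_iff] at h2 h3
    exact hy (h3.trans h2.symm)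
  haveI hsol : Group.IsSolvable L := OddOrder.odd_order_solvable hLodd
  letI : CommGroup (S : Subgroup G) :=
    { (inferInstance : Group (S : Subgroup G)) with
      mul_comm := fun a b => Subtype.ext (H.comm K h7 a.2 b.2) }
  set V := Additive (S : Subgroup G)
  have hconj : ∀ (l : L) (s : (S : Subgroup G)), (l : G) * (s : G) * (l : G)⁻¹ ∈ (S : Subgroup G) :=
    fun l s => (Subgroup.mem_normalizer_iff.mp l.2.1 s).mp s.2
  letI : DistribMulAction L V :=
    { smul := fun l v => Additive.ofMul (⟨_, hconj l (Additive.toMul v)⟩ : (S : Subgroup G))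
      one_smul := fun v => congrArg Additive.ofMul (Subtype.ext (show
        ((1 : L) : G) * _ * ((1 : L) : G)⁻¹ = ((Additive.toMul v : (S : Subgroup G)) : G) by simp))
      mul_smul := fun a b v => congrArg Additive.ofMul (Subtype.ext (show
        ((a * b : L) : G) * _ * ((a * b : L) : G)⁻¹ =
          (a : G) * ((b : G) * ((Additive.toMul v : (S : Subgroup G)) : G) * (b : G)⁻¹) * (a : G)⁻¹ by
          simp [mul_assoc]))
      smul_zero := fun l => congrArg Additive.ofMul (Subtype.ext (show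
        (l : G) * 1 * (l : G)⁻¹ = 1 by simp))
      smul_add := fun l a b => congrArg Additive.ofMul (Subtype.ext (show
        (l : G) * (((Additive.toMul a : (S : Subgroup G)) : G) * ((Additive.toMul b : (S : Subgroup G)) : G)) *
          (l : G)⁻¹ = (l : G) * ((Additive.toMul a : (S : Subgroup G)) : G) * (l : G)⁻¹ *
            ((l : G) * ((Additive.toMul b : (S : Subgroup G)) : G) * (l : G)⁻¹) by group)) }
  have hval : ∀ (l : L) (v : V), ((Additive.toMul (l • v) : (S : Subgroup G)) : G) =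
      (l : G) * ((Additive.toMul v : (S : Subgroup G)) : G) * (l : G)⁻¹ := fun _ _ => rfl
  have hE : ∀ v : V, 2 • v = 0 := fun v => congrArg Additive.ofMul (Subtype.ext (show
    ((Additive.toMul v : (S : Subgroup G)) ^ 2 : (S : Subgroup G)).1 = 1 by
      rw [SubgroupClass.coe_pow, pow_two]; exact H.sq_one K h7 (Additive.toMul v).2))
  letI : Module (ZMod 2) V := AddCommGroup.zmodModule hE
  haveI : SMulCommClass L (ZMod 2) V :=
    ⟨fun d c z => ZMod.map_smul (DistribSMul.toAddMonoidHom V d) c z⟩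
  let ρ : L →* (V ≃ₗ[ZMod 2] V) := DistribMulAction.toModuleAut (ZMod 2) V
  have hρ : Function.Injective ρ := by
    intro a b hab
    have h1 : ∀ s ∈ (S : Subgroup G), Commute ((b⁻¹ * a : L) : G) s := by
      intro s hs
      have h := LinearEquiv.congr_fun hab (Additive.ofMul (⟨s, hs⟩ : (S : Subgroup G)))
      have h' : (a : G) * s * (a : G)⁻¹ = (b : G) * s * (b : G)⁻¹ :=
        congrArg (fun v : V => ((Additive.toMul v : (S : Subgroup G)) : G)) h
      refine mul_inv_eq_iff_eq_mul.mp ?_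
      rw [Subgroup.coe_mul, Subgroup.coe_inv,
        show (b : G)⁻¹ * a * s * ((b : G)⁻¹ * a)⁻¹ = (b : G)⁻¹ * ((a : G) * s * (a : G)⁻¹) * b by group,
        h']
      group
    have := H.eq_one_of_centralizes K h7 hw hy (b⁻¹ * a : L).2.2 h1
    exact (inv_mul_eq_one.mp (Subtype.ext this : b⁻¹ * a = 1)).symm
  have hne0 : ∀ v : V, v ≠ 0 → orderOf ((Additive.toMul v : (S : Subgroup G)) : G) = 2 := fun v hv =>
    H.orderOf_mem K h7 (Additive.toMul v).2 fun e => hv (congrArg Additive.ofMul (Subtype.ext e))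
  have htrans : ∀ a b : V, a ≠ 0 → b ≠ 0 → ∃ g : L, ρ g a = b := by
    intro a b ha hb
    haveI : IsMulCommutative (S : Subgroup G) := ⟨⟨fun x y => mul_comm x y⟩⟩
    obtain ⟨c, hc⟩ := isConj_iff.mp (H.one _ _ (hne0 a ha) (hne0 b hb))
    obtain ⟨n, hn, hne⟩ := Transfer.exists_normalizer_conj_of_isMulCommutative S inferInstance
      (Additive.toMul a).2 c (hc ▸ (Additive.toMul b).2)
    replace hne := hne.trans hc
    obtain ⟨s, hs, l, hl, rfl⟩ := H.normalizer_decomp K h7 hw hy hn
    refine ⟨⟨l, hl⟩, congrArg Additive.ofMul (Subtype.ext ?_)⟩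
    show l * ((Additive.toMul a : (S : Subgroup G)) : G) * l⁻¹ =
      ((Additive.toMul b : (S : Subgroup G)) : G)
    have hls := (Subgroup.mem_normalizer_iff.mp hl.1 _).mp (Additive.toMul a).2
    rw [← hne, show s * l * ((Additive.toMul a : (S : Subgroup G)) : G) * (s * l)⁻¹ =
      s * (l * ((Additive.toMul a : (S : Subgroup G)) : G) * l⁻¹) * s⁻¹ by group,
      (H.comm K h7 hs hls).eq, mul_inv_cancel_right]
  have hcV : Nat.card V = 2 ^ e := by
    rw [Nat.card_congr Additive.toMul]; exact H.card_sylow K h7 S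
  haveI : Nontrivial V := Finite.one_lt_card_iff_nontrivial.mp (by
    rw [hcV]; exact Nat.one_lt_two_pow (by have := H.five_le_e K h7; omega))
  rcases TransLinear.transitive_main hρ htrans with ⟨F, hF, hFf, φ, hφ⟩ | h
  swap
  · exfalso
    have h2 : 2 ∣ Nat.card V := hcV ▸ dvd_pow_self 2 (by have := H.five_le_e K h7; omega)
    simp only [Set.mem_insert_iff, Set.mem_singleton_iff] at h
    rcases h with h | h | h | h | h | h <;> omega
  set u₀ : V := Additive.ofMul (⟨t, htS⟩ : (S : Subgroup G))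
  have hu₀ : φ u₀ ≠ 0 := fun h => ht1 (congrArg
    (fun v : V => ((Additive.toMul v : (S : Subgroup G)) : G)) (φ.map_eq_zero_iff.mp h))
  choose a σ hσ using hφ
  have hcF : Nat.card F = 2 ^ e := by rw [← hcV]; exact (Nat.card_congr φ.toEquiv).symm
  have hfixv : ∀ (k : G) (hk : k ∈ L) (s : G) (hs : s ∈ (S : Subgroup G)), k * s * k⁻¹ = s →
      a ⟨k, hk⟩ * σ ⟨k, hk⟩ (φ (Additive.ofMul (⟨s, hs⟩ : (S : Subgroup G)))) =
        φ (Additive.ofMul (⟨s, hs⟩ : (S : Subgroup G))) := fun k hk s hs h => by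
    rw [← hσ]
    exact congrArg φ (congrArg Additive.ofMul (Subtype.ext h))
  have hone : ∀ (k k' : G) (hk : k ∈ L) (hk' : k' ∈ L), k * t * k⁻¹ = t → k' * t * k'⁻¹ = t →
      σ ⟨k, hk⟩ = σ ⟨k', hk'⟩ → k = k' := by
    intro k k' hk hk' h h' hs
    have e1 := hfixv k hk t htS h
    have e2 := hfixv k' hk' t htS h'
    rw [← hs] at e2
    have hne : σ ⟨k, hk⟩ (φ u₀) ≠ 0 := fun h0 => hu₀ ((σ ⟨k, hk⟩).map_eq_zero_iff.mp h0)
    have ha : a ⟨k, hk⟩ = a ⟨k', hk'⟩ := mul_right_cancel₀ hne (e1.trans e2.symm)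
    refine congrArg Subtype.val (hρ (LinearEquiv.ext fun v => φ.injective ?_) :
      (⟨k, hk⟩ : L) = ⟨k', hk'⟩)
    rw [hσ, hσ, hs, ha]
  have h2F : (2 : F) = 0 := by
    have h1 := congrArg φ (hE (φ.symm 1))
    rw [map_zero, map_nsmul, φ.apply_symm_apply, nsmul_eq_mul, mul_one, Nat.cast_ofNat] at h1
    exact h1
  haveI : CharP F 2 := CharTwo.of_one_ne_zero_of_two_eq_zero one_ne_zero h2F
  letI : Algebra (ZMod 2) F := ZMod.algebra F 2
  have hrank : Module.finrank (ZMod 2) F = e := by
    refine Nat.pow_right_injective le_rfl (?_ : 2 ^ _ = 2 ^ _)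
    rw [← hcF, Module.natCard_eq_pow_finrank (K := ZMod 2) (V := F), Nat.card_zmod]
  refine ⟨fun k hk hkt s hs hks hs1 hst => ?_, ?_⟩
  · by_contra hk1
    set τ := σ ⟨k, hk⟩
    set Kf : Subfield F := RingHom.eqLocusField (τ : F →+* F) (RingHom.id F)
    have hKmem : ∀ z, z ∈ Kf ↔ τ z = z := fun z => Iff.rfl
    have e1 := hfixv k hk t htS hkt
    have e2 := hfixv k hk s hs hks
    set us : V := Additive.ofMul (⟨s, hs⟩ : (S : Subgroup G))
    have hne : τ (φ u₀) ≠ 0 := fun h0 => hu₀ (τ.map_eq_zero_iff.mp h0)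
    have hratio : φ us / φ u₀ ∈ Kf := by
      rw [hKmem, map_div₀, div_eq_div_iff hne hu₀]
      calc τ (φ us) * φ u₀ = τ (φ us) * (a ⟨k, hk⟩ * τ (φ u₀)) := by rw [e1]
        _ = a ⟨k, hk⟩ * τ (φ us) * τ (φ u₀) := by ring
        _ = φ us * τ (φ u₀) := by rw [e2]
    have hne1 : ∃ z, τ z ≠ z := by
      by_contra hall
      push Not at hall
      refine hk1 ?_
      have ha : a ⟨k, hk⟩ = 1 := mul_right_cancel₀ hu₀ (by rw [one_mul]; conv_rhs => rw [← e1, hall])
      refine congrArg Subtype.val (hρ (LinearEquiv.ext fun v => φ.injective ?_) : (⟨k, hk⟩ : L) = 1)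
      rw [hσ, ha, one_mul, hall, map_one]
      rfl
    haveI : Fintype Kf := Fintype.ofFinite Kf
    haveI : CharP Kf 2 := CharP.subring F 2 Kf.toSubring
    letI : Algebra (ZMod 2) Kf := ZMod.algebra Kf 2
    set d := Module.finrank (ZMod 2) Kf
    have hcK : Nat.card Kf = 2 ^ d := by
      rw [Module.natCard_eq_pow_finrank (K := ZMod 2) (V := Kf), Nat.card_zmod]
    have hFK : 2 ^ e = (2 ^ d) ^ Module.finrank Kf F := by
      rw [← hcF, Module.natCard_eq_pow_finrank (K := Kf) (V := F), hcK]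
    rw [← pow_mul] at hFK
    have hde := Nat.pow_right_injective le_rfl hFK
    have hdlt : d < e := by
      refine lt_of_le_of_ne (Nat.le_of_dvd (by have := H.five_le_e K h7; omega) ⟨_, hde⟩) fun hd => ?_
      obtain ⟨z, hz⟩ := hne1
      refine hz ((hKmem z).mp ?_)
      have htop : (Kf : Set F) = Set.univ := Set.eq_of_subset_of_ncard_le (Set.subset_univ _)
        (by rw [Set.ncard_univ, hcF, ← hd, ← hcK, ← Nat.card_coe_set_eq]; rfl) (Set.toFinite _)
      exact (htop.symm ▸ Set.mem_univ z : z ∈ (Kf : Set F))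
    have hd1 := eq_one_of_divisor K.prime H.q_eq (H.odd_e K h7) ⟨_, hde⟩ hdlt
    rw [hd1, pow_one] at hcK
    have h01 : (Kf : Set F) = {0, 1} :=
      (Set.eq_of_subset_of_ncard_le (by
        rintro z (rfl | rfl); exacts [Kf.zero_mem, Kf.one_mem])
        (by rw [Set.ncard_pair zero_ne_one, ← hcK, ← Nat.card_coe_set_eq]; rfl) (Set.toFinite _)).symm
    have hr : φ us / φ u₀ ∈ (Kf : Set F) := hratio
    rw [h01] at hr
    rcases hr with hr | hr
    · refine hs1 (congrArg (fun v : V => ((Additive.toMul v : (S : Subgroup G)) : G))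
        (φ.map_eq_zero_iff.mp (?_ : φ us = 0)))
      exact (div_eq_zero_iff.mp hr).resolve_right hu₀
    · refine hst (congrArg (fun v : V => ((Additive.toMul v : (S : Subgroup G)) : G))
        (φ.injective (?_ : φ us = φ u₀)))
      exact (div_eq_one_iff_eq hu₀).mp hr
  · let ι : RingAut F →* (F ≃ₐ[ZMod 2] F) :=
      { toFun := fun s => AlgEquiv.ofRingEquiv (f := s) fun c =>
          RingHom.congr_fun (Subsingleton.elim ((s : F →+* F).comp (algebraMap (ZMod 2) F))
            (algebraMap (ZMod 2) F)) c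
        map_one' := by ext; rfl
        map_mul' := fun _ _ => by ext; rfl }
    have hι : Function.Injective ι := fun s t h => RingEquiv.ext fun z => AlgEquiv.congr_fun h z
    have hcard : Nat.card (F ≃ₐ[ZMod 2] F) = e := by rw [IsGalois.card_aut_eq_finrank, hrank]
    rw [← Fintype.card_subtype, ← Nat.card_eq_fintype_card, ← hcard]
    exact Nat.card_le_card_of_injective (fun k => ι (σ ⟨(k : G), k.2.1⟩))
      fun k k' h => Subtype.ext (hone k k' k.2.1 k'.2.1 k.2.2 k'.2.2 (hι h))

omit hw

/-- The centraliser of two commuting involutions is a Sylow subgroup. -/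
theorem cent_pair (S : Sylow 2 G) {t u : G} (htS : t ∈ (S : Subgroup G)) (ht1 : t ≠ 1)
    (huS : u ∈ (S : Subgroup G)) (hu1 : u ≠ 1) (hut : u ≠ t) {g : G} (hgt : Commute g t)
    (hgu : Commute g u) : g ∈ (S : Subgroup G) := by
  haveI : Fact (Nat.Prime 2) := ⟨Nat.prime_two⟩
  obtain ⟨w, hw⟩ := H.exists_centre K h7 S
  haveI : Nontrivial Ω := Fintype.one_lt_card_iff_nontrivial.mp (by rw [K.card_omega]; omega)
  obtain ⟨y, hy⟩ := exists_ne w
  set X : Subgroup G := Subgroup.centralizer ({t, u} : Set G)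
  have hX : ∀ g, g ∈ X ↔ Commute g t ∧ Commute g u := fun g => by
    rw [Subgroup.mem_centralizer_iff]
    exact ⟨fun h => ⟨(h t (by simp)).symm, (h u (by simp)).symm⟩, fun h z hz => by
      rcases hz with rfl | rfl; exacts [h.1.eq.symm, h.2.eq.symm]⟩
  have hSX : (S : Subgroup G) ≤ X := fun s hs =>
    (hX s).mpr ⟨H.comm K h7 hs htS, H.comm K h7 hs huS⟩
  let P : Sylow 2 X := S.subtype hSX
  have hN : Subgroup.normalizer ((P : Subgroup X) : Set X) ≤
      Subgroup.centralizer ((P : Subgroup X) : Set X) := by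
    intro n hn
    have hnS : (n : G) ∈ Subgroup.normalizer ((S : Subgroup G) : Set G) := by
      refine Subgroup.mem_normalizer_iff.mpr fun z => ?_
      constructor
      · intro hz
        have := (Subgroup.mem_normalizer_iff.mp hn ⟨z, hSX hz⟩).mp hz
        exact this
      · intro hz
        have hzX : z ∈ X := by
          have := mul_mem (mul_mem (inv_mem n.2) (hSX hz)) n.2
          simpa [mul_assoc] using this
        exact (Subgroup.mem_normalizer_iff.mp hn ⟨z, hzX⟩).mpr hz
    obtain ⟨s, hs, l, hl, hsl⟩ := H.normalizer_decomp K h7 hw hy hnS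
    have hlX : l ∈ X := by
      have : l = s⁻¹ * (n : G) := by rw [hsl, inv_mul_cancel_left]
      rw [this]
      exact mul_mem (inv_mem (hSX hs)) n.2
    have hl1 : l = 1 := by
      obtain ⟨hlt, hlu⟩ := (hX l).mp hlX
      exact (H.semilinear K h7 hw hy htS ht1).1 l hl (by rw [hlt.eq, mul_inv_cancel_right]) u huS
        (by rw [hlu.eq, mul_inv_cancel_right]) hu1 hut
    rw [hl1, mul_one] at hsl
    refine Subgroup.mem_centralizer_iff.mpr fun z hz => Subtype.ext ?_
    show (z : G) * (n : G) = (n : G) * (z : G)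
    rw [hsl]
    exact (H.comm K h7 (show (z : G) ∈ (S : Subgroup G) from hz) hs).eq
  obtain ⟨Q, N, hNn, hcompl⟩ := Transfer.hasNormalPComplement_of_normalizer_le_centralizer P hN
  have hfac : (Nat.card X).factorization 2 = e := by
    refine le_antisymm ((Nat.factorization_le_iff_dvd Nat.card_pos.ne' Nat.card_pos.ne').mpr
      (Subgroup.card_subgroup_dvd_card X) 2 |>.trans_eq H.full) ?_
    refine (Nat.prime_two.pow_dvd_iff_le_factorization Nat.card_pos.ne').mp ?_
    rw [← H.card_sylow K h7 S]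
    exact Subgroup.card_dvd_of_le hSX
  have hQ : Nat.card Q = 2 ^ e := by rw [Q.card_eq_multiplicity, hfac]
  have hcX : Nat.card X = Nat.card N * 2 ^ e := by rw [← hQ]; exact hcompl.card_mul_card.symm
  have hNodd : Odd (Nat.card N) := by
    rw [← Nat.not_even_iff_odd, even_iff_two_dvd]
    rintro ⟨j, hj⟩
    have := (Nat.prime_two.pow_dvd_iff_le_factorization Nat.card_pos.ne').mp
      (⟨j, by rw [hcX, hj]; ring⟩ : 2 ^ (e + 1) ∣ Nat.card X)
    omega
  have hXw : ∀ g ∈ X, g • w = w := fun g hg => fix_of_commute (hw t htS ht1) ((hX g).mp hg).1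
  have hstab : ∀ y : Ω, y ≠ w → ∀ k ∈ N, (k : X) • y = y := by
    intro y hy
    have horb : Nat.card (orbit X y) = 2 ^ e := by
      have : orbit X y = ({w}ᶜ : Set Ω) := by
        ext z
        refine ⟨?_, fun hz => ?_⟩
        · rintro ⟨g, rfl⟩ hgy
          exact hy (smul_left_cancel (g : G) ((hgy : (g : G) • y = w).trans (hXw g g.2).symm))
        · obtain ⟨s, hs, rfl⟩ := H.regular K h7 hw hy hz
          exact ⟨⟨s, hSX hs⟩, rfl⟩
      rw [this, Nat.card_coe_set_eq, Set.ncard_compl, Set.ncard_singleton, Nat.card_eq_fintype_card,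
        K.card_omega]
      have := H.q_eq
      omega
    have hsc : Nat.card (stabilizer X y) = Nat.card N := by
      have h := Nat.card_congr (orbitProdStabilizerEquivGroup X y)
      rw [Nat.card_prod, horb, hcX, mul_comm (Nat.card N)] at h
      exact Nat.eq_of_mul_eq_mul_left (by positivity) h
    haveI := hNn
    have hle : stabilizer X y ≤ N := by
      intro k hk
      have hko : Odd (orderOf k) := (hsc ▸ hNodd).of_dvd_nat (Subgroup.orderOf_dvd_natCard _ hk)
      have hi : N.index = 2 ^ e := by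
        rw [Subgroup.IsComplement'.index_eq_card hcompl.symm]; exact hQ
      rw [← QuotientGroup.eq_one_iff, ← orderOf_eq_one_iff]
      refine Nat.eq_one_of_dvd_coprimes ((Nat.coprime_two_left.mpr hko).pow_left e) ?_
        (orderOf_map_dvd (QuotientGroup.mk' N) k)
      rw [← hi]; exact orderOf_dvd_natCard _
    have heq := Subgroup.eq_of_le_of_card_ge hle hsc.ge
    intro k hk
    rw [← heq] at hk
    exact hk
  have hNbot : ∀ k ∈ N, k = (1 : X) := fun k hk => by
    refine Subtype.ext (eq_of_smul_eq_smul (α := Ω) fun z => ?_)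
    rw [Subgroup.coe_one, one_smul]
    by_cases hz : z = w
    · rw [hz]; exact hXw k k.2
    · exact hstab z hz k hk
  have hN1 : Nat.card N = 1 := by
    rw [(Subgroup.eq_bot_iff_forall N).mpr hNbot, Subgroup.card_bot]
  have hXS : (S : Subgroup G) = X := Subgroup.eq_of_le_of_card_ge hSX (by
    rw [hcX, hN1, one_mul]; exact (H.card_sylow K h7 S).ge)
  rw [hXS, hX]
  exact ⟨hgt, hgu⟩

/-- The case is impossible. -/
theorem false : False := by
  haveI : Fact (Nat.Prime 2) := ⟨Nat.prime_two⟩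
  obtain ⟨S⟩ : Nonempty (Sylow 2 G) := inferInstance
  obtain ⟨w, hw⟩ := H.exists_centre K h7 S
  haveI : Nontrivial Ω := Fintype.one_lt_card_iff_nontrivial.mp (by rw [K.card_omega]; omega)
  obtain ⟨y, hy⟩ := exists_ne w
  have he5 := H.five_le_e K h7
  have h32 : 2 ^ 5 ≤ 2 ^ e := Nat.pow_le_pow_right two_pos he5
  obtain ⟨t, htS, ht1⟩ := H.exists_ne_one K h7 S
  have ht2 := H.orderOf_mem K h7 htS ht1
  set L := Finset.univ.filter fun k : G =>
    k ∈ Subgroup.normalizer ((S : Subgroup G) : Set G) ⊓ stabilizer G y ∧ k * t * k⁻¹ = t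
  have hL : L.card ≤ e := (H.semilinear K h7 hw hy htS ht1).2
  set T := Finset.univ.filter fun s : G => s ∈ (S : Subgroup G)
  have hT : T.card = 2 ^ e := by
    rw [← H.card_sylow K h7 S, Nat.card_eq_fintype_card]
    exact (Fintype.card_subtype _).symm
  have h2e : 3 * e + 3 < 2 ^ e := three_mul_add_lt he5
  obtain ⟨u, huT, hu⟩ : ∃ u ∈ T, u ∉ ({1, t} : Finset G) := by
    refine Finset.exists_mem_notMem_of_card_lt_card (lt_of_le_of_lt Finset.card_le_two ?_)
    rw [hT]; omega
  simp only [Finset.mem_insert, Finset.mem_singleton, not_or] at hu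
  obtain ⟨hu1, hut⟩ := hu
  have huS : u ∈ (S : Subgroup G) := (Finset.mem_filter.mp huT).2
  set Bad := ({1, t} : Finset G) ∪ L.image (fun l => l * u * l⁻¹) ∪ L.image (fun l => l * (u * t) * l⁻¹)
  obtain ⟨v, hvT, hv⟩ : ∃ v ∈ T, v ∉ Bad := by
    refine Finset.exists_mem_notMem_of_card_lt_card ?_
    refine lt_of_le_of_lt ((Finset.card_union_le _ _).trans (Nat.add_le_add (Finset.card_union_le _ _) le_rfl)) ?_
    have := Finset.card_image_le (s := L) (f := fun l => l * u * l⁻¹)
    have := Finset.card_image_le (s := L) (f := fun l => l * (u * t) * l⁻¹)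
    have : ({1, t} : Finset G).card ≤ 2 := Finset.card_le_two
    omega
  simp only [Bad, Finset.mem_union, Finset.mem_insert, Finset.mem_singleton, Finset.mem_image, not_or,
    not_exists, not_and] at hv
  obtain ⟨⟨⟨hv1, hvt⟩, hvu⟩, hvut⟩ := hv
  have hvS : v ∈ (S : Subgroup G) := (Finset.mem_filter.mp hvT).2
  have hvt' : Commute v t := H.comm K h7 hvS htS
  have hutS : u * t ∈ (S : Subgroup G) := mul_mem huS htS
  have hut1 : u * t ≠ 1 := fun e =>
    hut (mul_right_cancel (e.trans (H.sq_one K h7 htS).symm))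
  have hutt : u * t ≠ t := fun e => hu1 (mul_eq_right.mp e)
  -- conjugation inside the centraliser keeps the Sylow subgroup if it keeps one further element
  have hnorm : ∀ (g a : G), Commute g t → a ∈ (S : Subgroup G) → a ≠ 1 → a ≠ t →
      g * a * g⁻¹ ∈ (S : Subgroup G) → g ∈ Subgroup.normalizer ((S : Subgroup G) : Set G) := by
    intro g a hg ha ha1 hat hga
    have hsub : ∀ s ∈ (S : Subgroup G), g * s * g⁻¹ ∈ (S : Subgroup G) := by
      intro s hs
      refine H.cent_pair K h7 S htS ht1 hga (fun e => ha1 (conj_eq_one_iff.mp e)) (fun e => hat ?_) ?_ ?_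
      · exact mul_left_cancel (mul_right_cancel (e.trans (by rw [hg.eq, mul_inv_cancel_right] :
          t = g * t * g⁻¹)))
      · have := (H.comm K h7 hs htS).map (MulAut.conj g).toMonoidHom
        simp only [MulEquiv.coe_toMonoidHom, MulAut.conj_apply] at this
        rwa [show g * t * g⁻¹ = t by rw [hg.eq, mul_inv_cancel_right]] at this
      · exact (H.comm K h7 hs ha).map (MulAut.conj g).toMonoidHom
    refine Subgroup.mem_normalizer_iff.mpr fun s => ⟨hsub s, fun hs => ?_⟩
    have hmap : (S : Subgroup G).map (MulAut.conj g).toMonoidHom = (S : Subgroup G) :=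
      Subgroup.eq_of_le_of_card_ge (by rintro _ ⟨z, hz, rfl⟩; exact hsub z hz)
        (by rw [Subgroup.card_map_of_injective (MulAut.conj g).injective])
    rw [← hmap] at hs
    obtain ⟨z, hz, e⟩ := hs
    simp only [MulEquiv.coe_toMonoidHom, MulAut.conj_apply] at e
    rwa [← (mul_right_injective g) (mul_left_injective g⁻¹ e)]
  have hfus : ∀ (g a : G), Commute g t → a ∈ (S : Subgroup G) → a ≠ 1 → a ≠ t →
      g * a * g⁻¹ = v → ∃ l ∈ L, l * a * l⁻¹ = v := by
    intro g a hg ha ha1 hat hga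
    obtain ⟨s, hs, l, hl, rfl⟩ := H.normalizer_decomp K h7 hw hy (hnorm g a hg ha ha1 hat (hga ▸ hvS))
    have hconj : ∀ z ∈ (S : Subgroup G), s * l * z * (s * l)⁻¹ = l * z * l⁻¹ := fun z hz => by
      rw [show s * l * z * (s * l)⁻¹ = s * (l * z * l⁻¹) * s⁻¹ by group,
        (H.comm K h7 hs ((Subgroup.mem_normalizer_iff.mp hl.1 z).mp hz)).eq, mul_inv_cancel_right]
    refine ⟨l, Finset.mem_filter.mpr ⟨Finset.mem_univ _, hl, ?_⟩, by rw [← hconj a ha]; exact hga⟩
    rw [← hconj t htS, hg.eq, mul_inv_cancel_right]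
  have hcentre : ∀ g : G, Commute g t → g * u * g⁻¹ ∈ (S : Subgroup G) := by
    intro g hg
    set u' := g * u * g⁻¹
    have hu' : orderOf u' = 2 := Invol.conj_orderOf_two (H.orderOf_mem K h7 huS hu1) g
    have hv2 := H.orderOf_mem K h7 hvS hv1
    have hgt : g * t * g⁻¹ = t := by rw [hg.eq, mul_inv_cancel_right]
    have hu't : Commute u' t := by
      have := (H.comm K h7 huS htS).map (MulAut.conj g).toMonoidHom
      simp only [MulEquiv.coe_toMonoidHom, MulAut.conj_apply] at this
      rwa [hgt] at this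
    have hcl : ∀ {a : G}, Commute a t → ∀ d ∈ Subgroup.closure ({a, v} : Set G), Commute d t := by
      intro a ha d hd
      have : Subgroup.closure ({a, v} : Set G) ≤ Subgroup.centralizer ({t} : Set G) := by
        rw [Subgroup.closure_le]
        rintro z (rfl | rfl)
        exacts [Subgroup.mem_centralizer_singleton_iff.mpr ha.eq,
          Subgroup.mem_centralizer_singleton_iff.mpr hvt'.eq]
      exact Subgroup.mem_centralizer_singleton_iff.mp (this hd)
    have heven : Even (orderOf (u' * v)) := by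
      rw [← Nat.not_odd_iff_even]
      intro hodd
      obtain ⟨d, hd, hdu⟩ := Invol.exists_mem_closure_conj_of_odd hu' hv2 hodd
      obtain ⟨l, hl, hlu⟩ := hfus (d * g) u ((hcl hu't d hd).mul_left hg) huS hu1 hut
        (by rw [← hdu]; simp only [u']; group)
      exact hvu l hl hlu
    set z := Invol.centralInvol u' v
    have hz2 : orderOf z = 2 := Invol.orderOf_centralInvol u' v heven
    have hzu : Commute z u' := Invol.centralInvol_comm_left hu' hv2 heven
    have hzv : Commute z v := Invol.centralInvol_comm_right hu' hv2 heven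
    have hzt : Commute z t := hcl hu't z (Invol.centralInvol_mem_closure u' v)
    have hzne : z ≠ t := by
      intro hz
      obtain ⟨h, hh⟩ := heven
      have hhodd : Odd h := by
        rw [← Nat.not_even_iff_odd]
        rintro ⟨i, hi⟩
        refine H.no_four ((u' * v) ^ i) ?_
        have hi0 : i ≠ 0 := by
          rintro rfl
          have := orderOf_pos (u' * v)
          omega
        rw [orderOf_pow_of_dvd hi0 ⟨4, by omega⟩, hh, hi, show i + i + (i + i) = 4 * i by ring,
          Nat.mul_div_cancel _ (Nat.pos_of_ne_zero hi0)]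
      have hpow : (u' * v) ^ h = t := by
        rw [← hz]
        show _ = (u' * v) ^ (orderOf (u' * v) / 2)
        rw [hh, show (h + h) / 2 = h by omega]
      have hu't2 : orderOf (u' * t) = 2 := by
        have e : u' * t = g * (u * t) * g⁻¹ := by
          calc u' * t = g * u * g⁻¹ * (g * t * g⁻¹) := by rw [hgt]
            _ = g * (u * t) * g⁻¹ := by group
        rw [e]; exact Invol.conj_orderOf_two (H.orderOf_mem K h7 hutS hut1) g
      have hodd' : Odd (orderOf (u' * t * v)) := by
        have e : u' * t * v = (u' * v) ^ (h + 1) := by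
          rw [pow_succ, hpow, ← mul_assoc, hu't.eq, mul_assoc]
        refine hhodd.of_dvd_nat (orderOf_dvd_of_pow_eq_one ?_)
        obtain ⟨i, hi⟩ := hhodd
        rw [e, ← pow_mul, show (h + 1) * h = orderOf (u' * v) * (i + 1) by rw [hh, hi]; ring, pow_mul,
          pow_orderOf_eq_one, one_pow]
      obtain ⟨d, hd, hdu⟩ := Invol.exists_mem_closure_conj_of_odd hu't2 hv2 hodd'
      obtain ⟨l, hl, hlu⟩ := hfus (d * g) (u * t)
        ((hcl (hu't.mul_left (Commute.refl t)) d hd).mul_left hg) hutS hut1 hutt (by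
          rw [← hdu]
          calc d * g * (u * t) * (d * g)⁻¹ = d * (g * u * g⁻¹ * (g * t * g⁻¹)) * d⁻¹ := by group
            _ = d * (u' * t) * d⁻¹ := by rw [hgt])
      exact hvut l hl hlu
    -- the Sylow subgroup through `t` and `z`
    let Q : Subgroup G :=
      { carrier := {a | a = 1 ∨ a = t ∨ a = z ∨ a = t * z}
        one_mem' := Or.inl rfl
        mul_mem' := by
          have e0 := Invol.mul_self_of_orderOf_two ht2
          have e0' := Invol.mul_self_of_orderOf_two hz2
          have e1 : z * t = t * z := hzt.eq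
          have e2 : t * (t * z) = z := by rw [← mul_assoc, e0, one_mul]
          have e3 : z * (t * z) = t := by rw [← e1, ← mul_assoc, e0', one_mul]
          have e4 : t * z * t = z := by rw [mul_assoc, e1, e2]
          have e5 : t * z * z = t := by rw [mul_assoc, e0', mul_one]
          have e6 : t * z * (t * z) = 1 := by rw [← mul_assoc, e4, e0']
          rintro a b (rfl | rfl | rfl | rfl) (rfl | rfl | rfl | rfl) <;>
            simp only [Set.mem_ofPred_eq, one_mul, mul_one, e0, e0', e1, e2, e3, e4, e5, e6, true_or,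
              or_true]
        inv_mem' := by
          have e0 := Invol.inv_of_orderOf_two ht2
          have e0' := Invol.inv_of_orderOf_two hz2
          rintro a (rfl | rfl | rfl | rfl)
          · exact Or.inl inv_one
          · exact Or.inr (Or.inl e0)
          · exact Or.inr (Or.inr (Or.inl e0'))
          · exact Or.inr (Or.inr (Or.inr (by rw [mul_inv_rev, e0, e0', hzt.eq]))) }
    have hQ2 : IsPGroup 2 Q := by
      intro a
      refine ⟨1, Subtype.ext ?_⟩
      have e0 := Invol.mul_self_of_orderOf_two ht2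
      have e0' := Invol.mul_self_of_orderOf_two hz2
      show (a : G) ^ (2 ^ 1) = 1
      rw [pow_one, pow_two]
      rcases a.2 with h | h | h | h <;> rw [h]
      · exact one_mul 1
      · exact e0
      · exact e0'
      · rw [mul_assoc, ← mul_assoc z, hzt.eq, mul_assoc t, e0', mul_one, e0]
    obtain ⟨P, hP⟩ := hQ2.exists_le_sylow
    have htP : t ∈ (P : Subgroup G) := hP (Or.inr (Or.inl rfl))
    have hzP : z ∈ (P : Subgroup G) := hP (Or.inr (Or.inr (Or.inl rfl)))
    have hz1 := Invol.ne_one_of_orderOf_two hz2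
    have hu'P := H.cent_pair K h7 P htP ht1 hzP hz1 hzne hu't hzu.symm
    have hvP := H.cent_pair K h7 P htP ht1 hzP hz1 hzne hvt' hzv.symm
    exact H.cent_pair K h7 S htS ht1 hvS hv1 hvt hu't (H.comm K h7 hu'P hvP)
  -- the centraliser lies in the normaliser
  have hcount : Nat.card (Subgroup.centralizer ({t} : Set G)) ≤ 2 ^ e * L.card := by
    rw [← hT, ← Finset.card_product, Nat.card_eq_fintype_card, Fintype.card_subtype]
    refine Finset.card_le_card_of_surjOn (fun q => q.1 * q.2) fun g hg => ?_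
    simp only [Finset.coe_filter, Finset.mem_univ, true_and, Set.mem_ofPred_eq] at hg
    have hgc : Commute g t := Subgroup.mem_centralizer_singleton_iff.mp hg
    obtain ⟨s, hs, l, hl, rfl⟩ :=
      H.normalizer_decomp K h7 hw hy (hnorm g u hgc huS hu1 hut (hcentre g hgc))
    refine ⟨(s, l), Finset.mem_coe.mpr (Finset.mem_product.mpr ⟨Finset.mem_filter.mpr
      ⟨Finset.mem_univ _, hs⟩, Finset.mem_filter.mpr ⟨Finset.mem_univ _, hl, ?_⟩⟩), rfl⟩
    have hcs : Commute l t := by
      have h' := ((H.comm K h7 hs htS).inv_left.mul_left hgc)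
      rwa [inv_mul_cancel_left] at h'
    rw [hcs.eq, mul_inv_cancel_right]
  rw [H.cent t ht2] at hcount
  have := Nat.le_of_mul_le_mul_left hcount (by positivity)
  have := H.large
  have := H.q_eq
  omega

end One

end CfsgLib.DegreeThreeP
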