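import Cfsg.Agent.Lib.DegreeThreeP.TwoCentre

/-!
# Degree `3 p`, rank three: counting commuting involutions by their centres
-/

set_option autoImplicit false
set_option linter.unusedSectionVars false
set_option linter.style.haveILetI false
set_option maxHeartbeats 800000

namespace CfsgLib.DegreeThreeP

open Cfsg CfsgLib MulAction
open scoped _root_.Classical

variable {G : Type*} [Group G] [Fintype G] [IsSimpleGroup G] {Ω : Type*} [Fintype Ω]
  [MulAction G Ω] [FaithfulSMul G Ω] [IsPretransitive G Ω] {p : ℕ} [Fact p.Prime]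

/-- Commuting involutions with the fixed points of `t`, centred at `a`. -/
noncomputable def sameTri (Ω : Type*) [MulAction G Ω] (cen : G → Ω) (t : G) (a : Ω) : Finset G :=
  Finset.univ.filter fun u => orderOf u = 2 ∧ u ≠ t ∧ Commute u t ∧ fixedBy Ω u = fixedBy Ω t ∧
    cen u = a

/-- Commuting involutions with other fixed points. -/
noncomputable def otherTri (Ω : Type*) [MulAction G Ω] (t : G) : Finset G :=
  Finset.univ.filter fun u => orderOf u = 2 ∧ u ≠ t ∧ Commute u t ∧ fixedBy Ω u ≠ fixedBy Ω t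

/-- The involutions centred at `a`. -/
noncomputable def centredAt (cen : G → Ω) (a : Ω) : Finset G :=
  Finset.univ.filter fun u => orderOf u = 2 ∧ cen u = a

/-- The involutions centred at `a` and fixing `a'`. -/
noncomputable def centredFix (cen : G → Ω) (a a' : Ω) : Finset G :=
  Finset.univ.filter fun u => orderOf u = 2 ∧ cen u = a ∧ u • a' = a'

/-- The involutions fixing `a` with another centre. -/
noncomputable def otherAt (cen : G → Ω) (a : Ω) : Finset G :=
  Finset.univ.filter fun u => orderOf u = 2 ∧ cen u ≠ a ∧ u • a = a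

namespace Centred

variable {cen : G → Ω} (Z : Centred G Ω cen) {x₀ b₀ : Ω} (H : Three G Ω p x₀ b₀)

include Z H

theorem cen_of_conj {u c : G} (hu : orderOf (c * u * c⁻¹) = 2) :
    orderOf u = 2 ∧ cen (c * u * c⁻¹) = c • cen u := by
  have h : orderOf u = 2 := by
    rw [← MulEquiv.orderOf_eq (MulAut.conj c), MulAut.conj_apply]; exact hu
  exact ⟨h, Z.equivariant H h c⟩

theorem card_sameTri_conj (t c : G) (a : Ω) :
    (sameTri Ω cen (c * t * c⁻¹) (c • a)).card = (sameTri Ω cen t a).card := by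
  refine (Finset.card_bij (fun u _ => c * u * c⁻¹) ?_ ?_ ?_).symm
  · intro u hu
    simp only [sameTri, Finset.mem_filter, Finset.mem_univ, true_and] at hu ⊢
    exact ⟨Invol.conj_orderOf_two hu.1 c, fun e => hu.2.1 (mul_left_cancel (mul_right_cancel e)),
      hu.2.2.1.map (MulAut.conj c).toMonoidHom, by rw [fix_conj, fix_conj, hu.2.2.2.1],
      by rw [Z.equivariant H hu.1 c, hu.2.2.2.2]⟩
  · intro u _ w _ h
    exact mul_left_cancel (mul_right_cancel h)
  · intro w hw
    simp only [sameTri, Finset.mem_filter, Finset.mem_univ, true_and] at hw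
    refine ⟨c⁻¹ * w * c, ?_, by group⟩
    have hw' : c * (c⁻¹ * w * c) * c⁻¹ = w := by group
    rw [← hw'] at hw
    obtain ⟨h1, h2, h3, h4, h5⟩ := hw
    obtain ⟨h1', h5'⟩ := Z.cen_of_conj H h1
    simp only [sameTri, Finset.mem_filter, Finset.mem_univ, true_and]
    refine ⟨h1', fun e => h2 (by rw [e]), ?_, ?_, smul_left_cancel c (h5'.symm.trans h5)⟩
    · have := h3.map (MulAut.conj c⁻¹).toMonoidHom
      simpa [mul_assoc] using this
    · rw [fix_conj, fix_conj] at h4
      exact Set.image_injective.mpr (MulAction.injective c) h4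

theorem card_otherTri_conj (t c : G) :
    (otherTri Ω (c * t * c⁻¹)).card = (otherTri Ω t).card := by
  refine (Finset.card_bij (fun u _ => c * u * c⁻¹) ?_ ?_ ?_).symm
  · intro u hu
    simp only [otherTri, Finset.mem_filter, Finset.mem_univ, true_and] at hu ⊢
    refine ⟨Invol.conj_orderOf_two hu.1 c, fun e => hu.2.1 (mul_left_cancel (mul_right_cancel e)),
      hu.2.2.1.map (MulAut.conj c).toMonoidHom, ?_⟩
    rw [fix_conj, fix_conj]
    exact fun e => hu.2.2.2 (Set.image_injective.mpr (MulAction.injective c) e)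
  · intro u _ w _ h
    exact mul_left_cancel (mul_right_cancel h)
  · intro w hw
    simp only [otherTri, Finset.mem_filter, Finset.mem_univ, true_and] at hw
    refine ⟨c⁻¹ * w * c, ?_, by group⟩
    have hw' : c * (c⁻¹ * w * c) * c⁻¹ = w := by group
    rw [← hw'] at hw
    obtain ⟨h1, h2, h3, h4⟩ := hw
    obtain ⟨h1', -⟩ := Z.cen_of_conj H h1
    simp only [otherTri, Finset.mem_filter, Finset.mem_univ, true_and]
    refine ⟨h1', fun e => h2 (by rw [e]), ?_, fun e => h4 (by rw [fix_conj, fix_conj, e])⟩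
    have := h3.map (MulAut.conj c⁻¹).toMonoidHom
    simpa [mul_assoc] using this

theorem card_centredFix_conj (c : G) (a a' : Ω) :
    (centredFix cen (c • a) (c • a')).card = (centredFix cen a a').card := by
  refine (Finset.card_bij (fun u _ => c * u * c⁻¹) ?_ ?_ ?_).symm
  · intro u hu
    simp only [centredFix, Finset.mem_filter, Finset.mem_univ, true_and] at hu ⊢
    exact ⟨Invol.conj_orderOf_two hu.1 c, by rw [Z.equivariant H hu.1 c, hu.2.1],
      fix_conj_mem.mpr hu.2.2⟩
  · intro u _ w _ h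
    exact mul_left_cancel (mul_right_cancel h)
  · intro w hw
    simp only [centredFix, Finset.mem_filter, Finset.mem_univ, true_and] at hw
    refine ⟨c⁻¹ * w * c, ?_, by group⟩
    have hw' : c * (c⁻¹ * w * c) * c⁻¹ = w := by group
    rw [← hw'] at hw
    obtain ⟨h1, h2, h3⟩ := hw
    obtain ⟨h1', h2'⟩ := Z.cen_of_conj H h1
    simp only [centredFix, Finset.mem_filter, Finset.mem_univ, true_and]
    exact ⟨h1', smul_left_cancel c (h2'.symm.trans h2), fix_conj_mem.mp h3⟩

theorem card_centredAt_conj (c : G) (a : Ω) :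
    (centredAt cen (c • a)).card = (centredAt cen a).card := by
  refine (Finset.card_bij (fun u _ => c * u * c⁻¹) ?_ ?_ ?_).symm
  · intro u hu
    simp only [centredAt, Finset.mem_filter, Finset.mem_univ, true_and] at hu ⊢
    exact ⟨Invol.conj_orderOf_two hu.1 c, by rw [Z.equivariant H hu.1 c, hu.2]⟩
  · intro u _ w _ h
    exact mul_left_cancel (mul_right_cancel h)
  · intro w hw
    simp only [centredAt, Finset.mem_filter, Finset.mem_univ, true_and] at hw
    refine ⟨c⁻¹ * w * c, ?_, by group⟩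
    have hw' : c * (c⁻¹ * w * c) * c⁻¹ = w := by group
    rw [← hw'] at hw
    obtain ⟨h1, h2⟩ := hw
    obtain ⟨h1', h2'⟩ := Z.cen_of_conj H h1
    simp only [centredAt, Finset.mem_filter, Finset.mem_univ, true_and]
    exact ⟨h1', smul_left_cancel c (h2'.symm.trans h2)⟩

theorem card_otherAt_conj (c : G) (a : Ω) :
    (otherAt cen (c • a)).card = (otherAt cen a).card := by
  refine (Finset.card_bij (fun u _ => c * u * c⁻¹) ?_ ?_ ?_).symm
  · intro u hu
    simp only [otherAt, Finset.mem_filter, Finset.mem_univ, true_and] at hu ⊢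
    exact ⟨Invol.conj_orderOf_two hu.1 c,
      fun e => hu.2.1 (smul_left_cancel c ((Z.equivariant H hu.1 c).symm.trans e)),
      fix_conj_mem.mpr hu.2.2⟩
  · intro u _ w _ h
    exact mul_left_cancel (mul_right_cancel h)
  · intro w hw
    simp only [otherAt, Finset.mem_filter, Finset.mem_univ, true_and] at hw
    refine ⟨c⁻¹ * w * c, ?_, by group⟩
    have hw' : c * (c⁻¹ * w * c) * c⁻¹ = w := by group
    rw [← hw'] at hw
    obtain ⟨h1, h2, h3⟩ := hw
    obtain ⟨h1', h2'⟩ := Z.cen_of_conj H h1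
    simp only [otherAt, Finset.mem_filter, Finset.mem_univ, true_and]
    exact ⟨h1', fun e => h2 (by rw [h2', e]), fix_conj_mem.mp h3⟩

theorem pair_from_sameTri {w u u' : G} (f : Frame G Ω w) {O : Subgroup G} (hO : f.IsCore O) {a a' : Ω}
    (ha : a ≠ cen w) (ha' : a' ≠ cen w) (hne : a' ≠ a) (hu : u ∈ sameTri Ω cen w a)
    (hu' : u' ∈ sameTri Ω cen w a') : (u * u') ^ coreSize w = w := by
  have key : ∀ {u : G} {a : Ω}, u ∈ sameTri Ω cen w a →
      ∃ r ∈ f.S, r • f.y = f.y ∧ orderOf r = 2 ∧ cen r = a ∧ u * r ∈ O ∧ r * u ∈ O := by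
    intro u a hu
    simp only [sameTri, Finset.mem_filter, Finset.mem_univ, true_and] at hu
    obtain ⟨hu2, -, hcom, hfix, hcen⟩ := hu
    obtain ⟨r, hr, hr2, h1, h2, d, hd, hdr⟩ :=
      f.invol_decomp hO (Subgroup.mem_centralizer_singleton_iff.mpr hcom.eq) hu2
    have hdfix : ∀ z ∈ fixedBy Ω w, d • z = z := fun z hz => f.core_fix hO H hd (Z.mem w f.ht)
      (Z.fixed w f.ht d (f.core_le hO hd)) hz
    have hry : r • f.y = f.y := by
      have huy : u • f.y = f.y := (hfix ▸ f.y_fix : f.y ∈ fixedBy Ω u)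
      rw [← hdr, mul_smul, mul_smul] at huy
      have hd' : d⁻¹ • f.y = f.y := inv_smul_eq_iff.mpr (hdfix _ f.y_fix).symm
      rw [hd', smul_eq_iff_eq_inv_smul, hd'] at huy
      exact huy
    refine ⟨r, hr, hry, hr2, ?_, h1, h2⟩
    have e : cen u = d • cen r := by rw [← hdr]; exact Z.equivariant H hr2 d
    have hrm : cen r ∈ fixedBy Ω w := f.R_fix H hr hr2 hry ▸ Z.mem r hr2
    rw [← hcen, e, hdfix _ hrm]
  obtain ⟨r, hr, hry, hr2, hrc, hur, -⟩ := key hu
  obtain ⟨r', hr', hry', hr2', hrc', -, hru'⟩ := key hu'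
  have hrr : r * r = 1 := f.R_sq r hr hry
  have hrr' : r' * r' = 1 := f.R_sq r' hr' hry'
  have hprod : r * r' = w := by
    by_contra hcon
    set R : Subgroup G := f.S ⊓ stabilizer G f.y
    have h5 : ({1, w, r, r', r * r'} : Finset G).card = 5 := by
      have hrne : r ≠ r' := fun e => hne (by rw [← hrc, ← hrc', e])
      have hrw : r ≠ w := fun e => ha (by rw [← hrc, e])
      have hrw' : r' ≠ w := fun e => ha' (by rw [← hrc', e])
      rw [Finset.card_insert_of_notMem, Finset.card_insert_of_notMem, Finset.card_insert_of_notMem,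
        Finset.card_pair]
      · exact fun e => Invol.ne_one_of_orderOf_two hr2 (mul_eq_right.mp e.symm)
      · simp only [Finset.mem_insert, Finset.mem_singleton, not_or]
        exact ⟨hrne, fun e => Invol.ne_one_of_orderOf_two hr2' (mul_eq_left.mp e.symm)⟩
      · simp only [Finset.mem_insert, Finset.mem_singleton, not_or]
        exact ⟨hrw.symm, hrw'.symm, Ne.symm hcon⟩
      · simp only [Finset.mem_insert, Finset.mem_singleton, not_or]
        refine ⟨(Invol.ne_one_of_orderOf_two f.ht).symm, (Invol.ne_one_of_orderOf_two hr2).symm,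
          (Invol.ne_one_of_orderOf_two hr2').symm, fun e => hrne ?_⟩
        exact mul_right_cancel ((e.symm).trans hrr'.symm)
    have hsub : ({1, w, r, r', r * r'} : Finset G) ⊆ Finset.univ.filter (· ∈ R) := by
      simp only [Finset.insert_subset_iff, Finset.singleton_subset_iff, Finset.mem_filter,
        Finset.mem_univ, true_and]
      exact ⟨one_mem _, ⟨f.tS, f.y_fix⟩, ⟨hr, hry⟩, ⟨hr', hry'⟩,
        mul_mem (show r ∈ R from ⟨hr, hry⟩) ⟨hr', hry'⟩⟩
    have := Finset.card_le_card hsub
    rw [h5, ← Fintype.card_subtype, ← Nat.card_eq_fintype_card, f.cardR] at this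
    omega
  set o := u * r
  set o' := r' * u'
  have e : u * u' = o * w * o' := by
    rw [← hprod]
    calc u * u' = u * (r * r) * (r' * r') * u' := by rw [hrr, hrr', mul_one, mul_one]
      _ = o * (r * r') * o' := by simp only [o, o', mul_assoc]
  have hc : Commute o' w := Subgroup.mem_centralizer_singleton_iff.mp (f.core_le hO hru')
  have hc2 : Commute (o * o') w :=
    Subgroup.mem_centralizer_singleton_iff.mp (f.core_le hO (mul_mem hur hru'))
  obtain ⟨k, hk⟩ := f.core_odd hO
  rw [f.core_card hO] at hk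
  rw [e, mul_assoc, ← hc.eq, ← mul_assoc, hc2.mul_pow, f.core_pow hO (mul_mem hur hru'), one_mul, hk,
    pow_succ, pow_mul, pow_two, f.tt, one_pow, one_mul]

/-- The commuting involutions with other fixed points split into two halves. -/
theorem otherTri_split {t : G} (f : Frame G Ω t) {O : Subgroup G} (hO : f.IsCore O) :
    ∃ T₁ T₂ : Finset G, T₁ ⊆ otherTri Ω t ∧ T₂ ⊆ otherTri Ω t ∧
      (otherTri Ω t).card = 2 * T₁.card ∧ T₁.card = T₂.card ∧
      ∀ b ∈ T₁, ∀ b' ∈ T₂, (b * b') ^ coreSize t = t := by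
  rcases (otherTri Ω t).eq_empty_or_nonempty with he | ⟨b₁, hb₁⟩
  · exact ⟨∅, ∅, Finset.empty_subset _, Finset.empty_subset _, by rw [he]; rfl, rfl,
      fun b hb => absurd hb (Finset.notMem_empty b)⟩
  have hdec : ∀ b ∈ otherTri Ω t, ∃ s ∈ f.S, orderOf s = 2 ∧ s • f.y ≠ f.y ∧ b * s ∈ O := by
    intro b hb
    simp only [otherTri, Finset.mem_filter, Finset.mem_univ, true_and] at hb
    obtain ⟨hb2, -, hcom, hfix⟩ := hb
    obtain ⟨s, hs, hs2, h1, -, d, hd, hds⟩ :=
      f.invol_decomp hO (Subgroup.mem_centralizer_singleton_iff.mpr hcom.eq) hb2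
    refine ⟨s, hs, hs2, fun hsy => hfix ?_, h1⟩
    have hdfix : ∀ z ∈ fixedBy Ω t, d • z = z := fun z hz => f.core_fix hO H hd (Z.mem t f.ht)
      (Z.fixed t f.ht d (f.core_le hO hd)) hz
    rw [← hds, fix_conj, f.R_fix H hs hs2 hsy]
    ext z
    refine ⟨?_, fun hz => ⟨z, hz, hdfix z hz⟩⟩
    rintro ⟨w, hw, rfl⟩
    show d • w ∈ fixedBy Ω t
    rw [hdfix w hw]; exact hw
  obtain ⟨j, hj, hj2, hjy, -⟩ := hdec b₁ hb₁
  obtain ⟨r₀, hr₀, hr₀y, hnc⟩ := f.not_central H hj hj2 hjy
  set R : Subgroup G := f.S ⊓ stabilizer G f.y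
  have hjj := Invol.mul_self_of_orderOf_two hj2
  have hr0r := f.R_sq r₀ hr₀ hr₀y
  have hjt : Commute j t := Subgroup.mem_centralizer_singleton_iff.mp (f.le_cent hj)
  have hrt : Commute r₀ t := Subgroup.mem_centralizer_singleton_iff.mp (f.le_cent hr₀)
  have hr01 : r₀ ≠ 1 := fun e => hnc (e ▸ Commute.one_right j)
  have hr0t : r₀ ≠ t := fun e => hnc (e ▸ hjt)
  have hall : ∀ s ∈ f.S, orderOf s = 2 → s • f.y ≠ f.y → s = j ∨ s = j * t := by
    intro s hs hs2 hsy
    have hr : s * j ∈ R := by
      refine ⟨mul_mem hs hj, ?_⟩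
      show (s * j) • f.y = f.y
      rw [mul_smul, (f.swap j hj hjy).1, (f.swap s hs hsy).2]
    have hsq := f.R_sq _ hr.1 hr.2
    have hcomm : Commute j (s * j) := by
      have e := inv_eq_of_mul_eq_one_right hsq
      rw [mul_inv_rev, Invol.inv_of_orderOf_two hj2, Invol.inv_of_orderOf_two hs2] at e
      show j * (s * j) = s * j * j
      rw [← mul_assoc, e]
    by_contra hcon
    rw [not_or] at hcon
    have h5 : ({1, t, r₀, r₀ * t, s * j} : Finset G).card = 5 := by
      rw [Finset.card_insert_of_notMem, Finset.card_insert_of_notMem, Finset.card_insert_of_notMem,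
        Finset.card_pair]
      · intro e
        refine hnc ?_
        have : Commute j (r₀ * t) := e ▸ hcomm
        have h' := this.mul_right hjt
        rwa [mul_assoc, f.tt, mul_one] at h'
      · simp only [Finset.mem_insert, Finset.mem_singleton, not_or]
        exact ⟨fun e => Invol.ne_one_of_orderOf_two f.ht (mul_eq_left.mp e.symm),
          fun e => hnc (e ▸ hcomm)⟩
      · simp only [Finset.mem_insert, Finset.mem_singleton, not_or]
        refine ⟨hr0t.symm, fun e => hr01 (mul_eq_right.mp e.symm), fun e => hcon.2 ?_⟩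
        rw [hjt.eq, e, mul_assoc, hjj, mul_one]
      · simp only [Finset.mem_insert, Finset.mem_singleton, not_or]
        refine ⟨(Invol.ne_one_of_orderOf_two f.ht).symm, hr01.symm,
          fun e => hr0t (mul_right_cancel (e.symm.trans f.tt.symm)), fun e => hcon.1 ?_⟩
        exact mul_right_cancel (e.symm.trans hjj.symm)
    have hsub : ({1, t, r₀, r₀ * t, s * j} : Finset G) ⊆ Finset.univ.filter (· ∈ R) := by
      simp only [Finset.insert_subset_iff, Finset.singleton_subset_iff, Finset.mem_filter,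
        Finset.mem_univ, true_and]
      exact ⟨one_mem _, ⟨f.tS, f.y_fix⟩, ⟨hr₀, hr₀y⟩,
        mul_mem (show r₀ ∈ R from ⟨hr₀, hr₀y⟩) ⟨f.tS, f.y_fix⟩, hr⟩
    have := Finset.card_le_card hsub
    rw [h5, ← Fintype.card_subtype, ← Nat.card_eq_fintype_card, f.cardR] at this
    omega
  have hconj : r₀ * j * r₀⁻¹ = j * t := by
    refine (hall _ (mul_mem (mul_mem hr₀ hj) (inv_mem hr₀)) (Invol.conj_orderOf_two hj2 r₀) ?_).resolve_left
      fun e => hnc (mul_inv_eq_iff_eq_mul.mp e).symm
    intro e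
    refine hjy ?_
    rw [mul_smul, mul_smul, smul_eq_iff_eq_inv_smul, inv_smul_eq_iff.mpr hr₀y.symm] at e
    exact e
  set T := fun i : G => (otherTri Ω t).filter fun b => b * i ∈ O
  have hdisj : ∀ b, b * j ∈ O → ¬ b * (j * t) ∈ O := by
    intro b h1 h2
    refine Invol.ne_one_of_orderOf_two f.ht (f.core_inf hO f.tS ?_)
    have := mul_mem (inv_mem h1) h2
    rwa [show (b * j)⁻¹ * (b * (j * t)) = t by group] at this
  have hun : T j ∪ T (j * t) = otherTri Ω t := by
    ext b
    simp only [T, Finset.mem_union, Finset.mem_filter]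
    refine ⟨fun h => h.elim (·.1) (·.1), fun hb => ?_⟩
    obtain ⟨s, hs, hs2, hsy, hso⟩ := hdec b hb
    rcases hall s hs hs2 hsy with e | e <;> rw [e] at hso
    exacts [Or.inl ⟨hb, hso⟩, Or.inr ⟨hb, hso⟩]
  have hmap : ∀ {b i : G}, b ∈ otherTri Ω t → b * i ∈ O →
      r₀ * b * r₀⁻¹ ∈ otherTri Ω t ∧ r₀ * b * r₀⁻¹ * (r₀ * i * r₀⁻¹) ∈ O := by
    intro b i hb hbi
    constructor
    · simp only [otherTri, Finset.mem_filter, Finset.mem_univ, true_and] at hb ⊢
      have ht' : r₀ * t * r₀⁻¹ = t := by rw [hrt.eq, mul_inv_cancel_right]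
      refine ⟨Invol.conj_orderOf_two hb.1 r₀, ?_, ?_, ?_⟩
      · rw [← ht']; exact fun e => hb.2.1 (mul_left_cancel (mul_right_cancel e))
      · have := hb.2.2.1.map (MulAut.conj r₀).toMonoidHom
        simp only [MulEquiv.coe_toMonoidHom, MulAut.conj_apply] at this
        rwa [ht'] at this
      · conv_rhs => rw [← ht']
        rw [fix_conj, fix_conj]
        exact fun e => hb.2.2.2 (Set.image_injective.mpr (MulAction.injective r₀) e)
    · rw [show r₀ * b * r₀⁻¹ * (r₀ * i * r₀⁻¹) = r₀ * (b * i) * r₀⁻¹ by group]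
      exact f.core_conj hO (f.le_cent hr₀) hbi
  have hconj' : r₀ * (j * t) * r₀⁻¹ = j := by
    rw [show r₀ * (j * t) * r₀⁻¹ = r₀ * j * r₀⁻¹ * (r₀ * t * r₀⁻¹) by group, hconj, hrt.eq,
      mul_inv_cancel_right, mul_assoc, f.tt, mul_one]
  have hle : ∀ i i' : G, r₀ * i * r₀⁻¹ = i' → (T i).card ≤ (T i').card := by
    intro i i' hi
    refine Finset.card_le_card_of_injOn (fun b => r₀ * b * r₀⁻¹) (fun b hb => ?_)
      fun a _ b _ h => mul_left_cancel (mul_right_cancel h)
    simp only [T, Finset.coe_filter, Set.mem_setOf_eq] at hb ⊢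
    obtain ⟨h1, h2⟩ := hmap hb.1 hb.2
    exact ⟨h1, hi ▸ h2⟩
  have heq : (T j).card = (T (j * t)).card := le_antisymm (hle _ _ hconj) (hle _ _ hconj')
  refine ⟨T j, T (j * t), Finset.filter_subset _ _, Finset.filter_subset _ _, ?_, heq, ?_⟩
  · rw [← hun, Finset.card_union_of_disjoint, ← heq]
    · ring
    · exact Finset.disjoint_left.mpr fun b hb hb' =>
        hdisj b (Finset.mem_filter.mp hb).2 (Finset.mem_filter.mp hb').2
  · intro b hb b' hb'
    have h1 := (Finset.mem_filter.mp hb).2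
    obtain ⟨hb'm, h2⟩ := Finset.mem_filter.mp hb'
    simp only [otherTri, Finset.mem_filter, Finset.mem_univ, true_and] at hb'm
    have hb'2 := Invol.inv_of_orderOf_two hb'm.1
    have h3 : t * (j * b') ∈ O := by
      have := inv_mem h2
      rwa [show (b' * (j * t))⁻¹ = t⁻¹ * (j⁻¹ * b'⁻¹) by group, Invol.inv_of_orderOf_two f.ht,
        Invol.inv_of_orderOf_two hj2, hb'2] at this
    have e : b * b' = b * j * t * (t * (j * b')) := by
      calc b * b' = b * ((j * j) * b') := by rw [hjj, one_mul]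
        _ = b * j * ((t * t) * (j * b')) := by rw [f.tt, one_mul]; group
        _ = b * j * t * (t * (j * b')) := by group
    have hc : Commute (t * (j * b')) t := Subgroup.mem_centralizer_singleton_iff.mp (f.core_le hO h3)
    have hc2 : Commute (b * j * (t * (j * b'))) t :=
      Subgroup.mem_centralizer_singleton_iff.mp (f.core_le hO (mul_mem h1 h3))
    obtain ⟨k, hk⟩ := f.core_odd hO
    rw [f.core_card hO] at hk
    rw [e, mul_assoc (b * j), ← hc.eq, ← mul_assoc, hc2.mul_pow, f.core_pow hO (mul_mem h1 h3),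
      one_mul, hk, pow_succ, pow_mul, pow_two, f.tt, one_pow, one_mul]

/-- The counts contradict each other. -/
theorem counting_false (K : Ctx G Ω p) : False := by
  obtain ⟨t₀, ht₀⟩ := H.exists_invol
  obtain ⟨f₀⟩ := H.exists_frame ht₀
  set I := Finset.univ.filter fun t : G => orderOf t = 2 with hI
  set α := (sameTri Ω cen t₀ f₀.y).card
  set B := (otherTri Ω t₀).card
  set ν := (centredFix cen x₀ b₀).card
  set X := (centredAt cen x₀).card
  set k := Nat.card (orbit (stabilizer G x₀) b₀)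
  have hk8 : 8 ≤ k := H.large
  have hα : ∀ t ∈ I, ∀ a ∈ fixedBy Ω t, a ≠ cen t → (sameTri Ω cen t a).card = α := by
    intro t ht a ha hac
    have ht2 := (Finset.mem_filter.mp ht).2
    obtain ⟨c, rfl⟩ := isConj_iff.mp (H.one t₀ t ht₀ ht2)
    rw [Z.equivariant H ht₀ c, Z.eq_frame H f₀] at hac
    rw [← smul_inv_smul c a] at ha hac ⊢
    rw [Z.card_sameTri_conj H]
    have hm := fix_conj_mem.mp ha
    rcases f₀.mem_fix.mp hm with e | e | e
    · exact absurd (congrArg (c • ·) e) hac
    · rw [e]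
    · rw [e]
      obtain ⟨j, hj, hj1, -, -⟩ := f₀.exists_swap H
      have hjt : j * t₀ * j⁻¹ = t₀ := by
        rw [Subgroup.mem_centralizer_singleton_iff.mp (f₀.le_cent hj), mul_inv_cancel_right]
      have key := Z.card_sameTri_conj H t₀ j f₀.y
      rw [hjt, hj1] at key
      exact key
  have hB : ∀ t ∈ I, (otherTri Ω t).card = B := by
    intro t ht
    obtain ⟨c, rfl⟩ := isConj_iff.mp (H.one t₀ t ht₀ (Finset.mem_filter.mp ht).2)
    exact Z.card_otherTri_conj H t₀ c
  have hX : ∀ a, (centredAt cen a).card = X := by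
    intro a
    obtain ⟨c, rfl⟩ := exists_smul_eq G x₀ a
    exact Z.card_centredAt_conj H c x₀
  have hν : ∀ u ∈ I, ∀ a a', u • a = a → u • a' = a' → a' ≠ a → (centredFix cen a a').card = ν := by
    intro u hu a a' h1 h2 hne
    obtain ⟨c, rfl, rfl⟩ := H.edge u a a' (Finset.mem_filter.mp hu).2 h1 h2 hne
    exact Z.card_centredFix_conj H c x₀ b₀
  set others : G → Finset Ω := fun t => (Finset.univ.filter fun a => a ∈ fixedBy Ω t).erase (cen t)
  have hothers : ∀ t ∈ I, (others t).card = 2 := by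
    intro t ht
    have ht2 := (Finset.mem_filter.mp ht).2
    have h3 : (Finset.univ.filter fun a => a ∈ fixedBy Ω t).card = 3 := by
      rw [← H.three t ht2, fx, Nat.card_eq_fintype_card, ← Fintype.card_subtype]
    rw [Finset.card_erase_of_mem (Finset.mem_filter.mpr ⟨Finset.mem_univ _, Z.mem t ht2⟩), h3]
  have hmem_others : ∀ {t a}, a ∈ others t ↔ a ≠ cen t ∧ a ∈ fixedBy Ω t := fun {t a} => by
    simp [others]
  -- the total number of involutions
  have hIX : I.card = Fintype.card Ω * X := by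
    rw [Finset.card_eq_sum_card_fiberwise (f := cen) (t := Finset.univ) fun _ _ => Finset.mem_univ _,
      Finset.sum_congr rfl (g := fun _ => X) fun a _ => by
        rw [← hX a, hI, Finset.filter_filter]; rfl, Finset.sum_const, smul_eq_mul, Finset.card_univ]
  have hU : (otherAt cen x₀).card = 2 * X := by
    have hconst : ∀ a ∈ (Finset.univ : Finset Ω), (otherAt cen a).card = (otherAt cen x₀).card := by
      intro a _
      obtain ⟨c, rfl⟩ := exists_smul_eq G x₀ a
      exact Z.card_otherAt_conj H c x₀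
    have h : ∑ a : Ω, (otherAt cen a).card = ∑ t ∈ I, (others t).card := by
      rw [← Finset.card_sigma, ← Finset.card_sigma]
      refine Finset.card_bij (fun q _ => ⟨q.2, q.1⟩) (fun q hq => ?_) (fun q _ q' _ e => ?_) fun q hq => ?_
      · simp only [Finset.mem_sigma, otherAt, Finset.mem_filter, Finset.mem_univ, true_and] at hq
        simp only [Finset.mem_sigma, hI, Finset.mem_filter, Finset.mem_univ, true_and, hmem_others]
        exact ⟨hq.1, Ne.symm hq.2.1, hq.2.2⟩
      · obtain ⟨a, b⟩ := q; obtain ⟨a', b'⟩ := q'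
        simp only [Sigma.mk.injEq, heq_eq_eq] at e ⊢
        exact ⟨e.2, e.1⟩
      · obtain ⟨t, a⟩ := q
        simp only [Finset.mem_sigma, hI, Finset.mem_filter, Finset.mem_univ, true_and, hmem_others] at hq
        refine ⟨⟨a, t⟩, ?_, rfl⟩
        simp only [Finset.mem_sigma, otherAt, Finset.mem_filter, Finset.mem_univ, true_and]
        exact ⟨hq.1, Ne.symm hq.2.1, hq.2.2⟩
    rw [Finset.sum_congr rfl hconst, Finset.sum_const, Finset.sum_congr rfl hothers, Finset.sum_const,
      smul_eq_mul, smul_eq_mul, Finset.card_univ, hIX, mul_assoc] at h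
    have := Nat.eq_of_mul_eq_mul_left (by rw [K.card_omega]; have := K.five_le; omega) h
    omega
  have hI0 : 0 < I.card := Finset.card_pos.mpr ⟨t₀, Finset.mem_filter.mpr ⟨Finset.mem_univ _, ht₀⟩⟩
  have hX0 : 0 < X := Nat.pos_of_mul_pos_left (hIX ▸ hI0)
  -- `k ν ≤ 2 X`
  have h1 : k * ν ≤ 2 * X := by
    set orb := Finset.univ.filter fun y => y ∈ orbit (stabilizer G x₀) b₀
    have horb : orb.card = k := by rw [← Fintype.card_subtype, ← Nat.card_eq_fintype_card]
    have hl : ∑ y ∈ orb, (centredFix cen x₀ y).card = k * ν := by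
      rw [Finset.sum_congr rfl (g := fun _ => ν) fun y hy => ?_, Finset.sum_const, horb, smul_eq_mul]
      obtain ⟨⟨c, hc⟩, rfl⟩ := (Finset.mem_filter.mp hy).2
      have key := Z.card_centredFix_conj H c x₀ b₀
      rw [mem_stabilizer_iff.mp hc] at key
      exact key
    have hr : ∑ u ∈ centredAt cen x₀, (others u).card = 2 * X := by
      rw [Finset.sum_congr rfl (g := fun _ => 2) fun u hu => hothers u (Finset.mem_filter.mpr
        ⟨Finset.mem_univ _, (Finset.mem_filter.mp hu).2.1⟩), Finset.sum_const, smul_eq_mul]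
      show X * 2 = 2 * X
      ring
    rw [← hl, ← hr, ← Finset.card_sigma, ← Finset.card_sigma]
    refine Finset.card_le_card_of_injOn (fun q => ⟨q.2, q.1⟩) (fun q hq => ?_) fun q _ q' _ e => ?_
    · simp only [Finset.coe_sigma, Set.mem_sigma_iff, Finset.mem_coe, orb, centredFix, Finset.mem_filter,
        Finset.mem_univ, true_and] at hq
      simp only [Finset.coe_sigma, Set.mem_sigma_iff, Finset.mem_coe, centredAt, Finset.mem_filter,
        Finset.mem_univ, true_and, hmem_others]
      refine ⟨⟨hq.2.1, hq.2.2.1⟩, fun e => ?_, hq.2.2.2⟩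
      obtain ⟨⟨c, hc⟩, hcy⟩ := hq.1
      refine H.ne (smul_left_cancel c ?_)
      rw [show c • b₀ = q.1 from hcy, show c • x₀ = x₀ from hc, e, hq.2.2.1]
    · obtain ⟨a, b⟩ := q; obtain ⟨a', b'⟩ := q'
      simp only [Sigma.mk.injEq, heq_eq_eq] at e ⊢
      exact ⟨e.2, e.1⟩
  -- `α ^ 2 ≤ ν`
  have h2 : α * α ≤ ν := by
    set P := I.sigma fun u => (others u).sigma fun a' => centredFix cen a' (cen u)
    have hP : P.card = I.card * (2 * ν) := by
      rw [Finset.card_sigma, Finset.sum_congr rfl (g := fun _ => 2 * ν) fun u hu => ?_,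
        Finset.sum_const, smul_eq_mul]
      rw [Finset.card_sigma, Finset.sum_congr rfl (g := fun _ => ν) fun a ha => ?_, Finset.sum_const,
        hothers u hu, smul_eq_mul]
      obtain ⟨hac, haf⟩ := hmem_others.mp ha
      exact hν u hu a (cen u) haf (Z.mem u (Finset.mem_filter.mp hu).2) (Ne.symm hac)
    set L := I.sigma fun w => ((others w).offDiag).sigma fun q =>
      sameTri Ω cen w q.1 ×ˢ sameTri Ω cen w q.2
    have hL : L.card = I.card * (2 * (α * α)) := by
      rw [Finset.card_sigma, Finset.sum_congr rfl (g := fun _ => 2 * (α * α)) fun w hw => ?_,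
        Finset.sum_const, smul_eq_mul]
      rw [Finset.card_sigma, Finset.sum_congr rfl (g := fun _ => α * α) fun q hq => ?_, Finset.sum_const,
        Finset.offDiag_card, hothers w hw, smul_eq_mul]
      obtain ⟨h1, h2, -⟩ := Finset.mem_offDiag.mp hq
      rw [Finset.card_product, hα w hw _ (hmem_others.mp h1).2 (hmem_others.mp h1).1,
        hα w hw _ (hmem_others.mp h2).2 (hmem_others.mp h2).1]
    have hle : L.card ≤ P.card := by
      refine Finset.card_le_card_of_injOn (fun z => ⟨z.2.2.1, z.2.1.2, z.2.2.2⟩) ?_ ?_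
      · rintro ⟨w, ⟨a, a'⟩, u, u'⟩ hz
        simp only [L, Finset.coe_sigma, Set.mem_sigma_iff, Finset.mem_coe, Finset.mem_sigma,
          Finset.mem_offDiag, Finset.mem_product, hmem_others] at hz
        obtain ⟨hw, ⟨⟨haw, hafix⟩, ⟨haw', hafix'⟩, hne⟩, hu, hu'⟩ := hz
        simp only [sameTri, Finset.mem_filter, Finset.mem_univ, true_and] at hu hu'
        simp only [P, Finset.coe_sigma, Set.mem_sigma_iff, Finset.mem_coe, Finset.mem_sigma, hI,
          centredFix, Finset.mem_filter, Finset.mem_univ, true_and, hmem_others]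
        refine ⟨hu.1, ⟨?_, ?_⟩, hu'.1, hu'.2.2.2.2, ?_⟩
        · rw [hu.2.2.2.2]; exact Ne.symm hne
        · rw [hu.2.2.2.1]; exact hafix'
        · rw [hu.2.2.2.2]
          exact (hu'.2.2.2.1 ▸ hafix : a ∈ fixedBy Ω u')
      · rintro ⟨w, ⟨a, a'⟩, u, u'⟩ hz ⟨w₂, ⟨a₂, a₂'⟩, u₂, u₂'⟩ hz₂ e
        simp only [Sigma.mk.injEq, heq_eq_eq] at e
        obtain ⟨rfl, e2, e3⟩ := e
        subst e2 e3
        simp only [L, Finset.coe_sigma, Set.mem_sigma_iff, Finset.mem_coe, Finset.mem_sigma,
          Finset.mem_offDiag, Finset.mem_product, hmem_others] at hz hz₂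
        obtain ⟨hw, ⟨⟨haw, -⟩, ⟨haw', -⟩, hne⟩, hu, hu'⟩ := hz
        obtain ⟨hw₂, ⟨⟨haw₂, -⟩, ⟨haw₂', -⟩, hne₂⟩, hu₂, hu₂'⟩ := hz₂
        have hw2 := (Finset.mem_filter.mp hw).2
        have hw2' := (Finset.mem_filter.mp hw₂).2
        obtain ⟨f⟩ := H.exists_frame hw2
        obtain ⟨O, hO⟩ := f.exists_core H
        obtain ⟨f'⟩ := H.exists_frame hw2'
        obtain ⟨O', hO'⟩ := f'.exists_core H
        have e1 := Z.pair_from_sameTri H f hO haw haw' (Ne.symm hne) hu hu'
        have e2 := Z.pair_from_sameTri H f' hO' haw₂ haw₂' (Ne.symm hne₂) hu₂ hu₂'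
        rw [H.coreSize_eq ht₀ hw2] at e1
        rw [H.coreSize_eq ht₀ hw2'] at e2
        obtain rfl : w = w₂ := e1.symm.trans e2
        obtain rfl : a = a₂ :=
          (Finset.mem_filter.mp hu).2.2.2.2.2.symm.trans (Finset.mem_filter.mp hu₂).2.2.2.2.2
        rfl
    rw [hP, hL] at hle
    have := Nat.le_of_mul_le_mul_left hle hI0
    omega
  -- `B ^ 2 ≤ 2 X`
  have h3 : B * B ≤ 2 * X := by
    have hsp : ∀ t : G, ∃ T₁ T₂ : Finset G, orderOf t = 2 → T₁ ⊆ otherTri Ω t ∧ T₂ ⊆ otherTri Ω t ∧
        (otherTri Ω t).card = 2 * T₁.card ∧ T₁.card = T₂.card ∧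
        ∀ b ∈ T₁, ∀ b' ∈ T₂, (b * b') ^ coreSize t = t := by
      intro t
      by_cases ht : orderOf t = 2
      · obtain ⟨f⟩ := H.exists_frame ht
        obtain ⟨O, hO⟩ := f.exists_core H
        obtain ⟨T₁, T₂, h⟩ := Z.otherTri_split H f hO
        exact ⟨T₁, T₂, fun _ => h⟩
      · exact ⟨∅, ∅, fun h => absurd h ht⟩
    choose T₁ T₂ hT using hsp
    set U := fun t => T₁ t ×ˢ T₂ t ∪ T₂ t ×ˢ T₁ t with hUdef
    have hmemX : ∀ t ∈ centredAt cen x₀, orderOf t = 2 := fun t ht => (Finset.mem_filter.mp ht).2.1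
    have hrec : ∀ t ∈ centredAt cen x₀, ∀ q ∈ U t, (q.1 * q.2) ^ coreSize t₀ = t := by
      intro t ht q hq
      have ht2 := hmemX t ht
      obtain ⟨hs1, hs2, -, -, hprod⟩ := hT t ht2
      rw [← H.coreSize_eq ht₀ ht2]
      rcases Finset.mem_union.mp hq with h | h <;> rw [Finset.mem_product] at h
      · exact hprod _ h.1 _ h.2
      · have e1 : q.1⁻¹ = q.1 := Invol.inv_of_orderOf_two (Finset.mem_filter.mp (hs2 h.1)).2.1
        have e2 : q.2⁻¹ = q.2 := Invol.inv_of_orderOf_two (Finset.mem_filter.mp (hs1 h.2)).2.1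
        have e := hprod _ h.2 _ h.1
        rw [show q.1 * q.2 = (q.2 * q.1)⁻¹ by rw [mul_inv_rev, e1, e2], inv_pow, e,
          Invol.inv_of_orderOf_two ht2]
    have hcardU : ∀ t ∈ centredAt cen x₀, B * B ≤ 2 * (U t).card := by
      intro t ht
      have ht2 := hmemX t ht
      obtain ⟨-, -, hc, he, hprod⟩ := hT t ht2
      rw [hB t (Finset.mem_filter.mpr ⟨Finset.mem_univ _, ht2⟩)] at hc
      rw [hUdef, Finset.card_union_of_disjoint, Finset.card_product, Finset.card_product, ← he, hc]
      · exact le_of_eq (by ring)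
      · refine Finset.disjoint_left.mpr fun q hq hq' => ?_
        rw [Finset.mem_product] at hq hq'
        have := hprod q.1 hq.1 q.1 hq'.1
        rw [Invol.mul_self_of_orderOf_two (Finset.mem_filter.mp ((hT t ht2).1 hq.1)).2.1, one_pow] at this
        exact Invol.ne_one_of_orderOf_two ht2 this.symm
    have hdis : (centredAt cen x₀ : Set G).PairwiseDisjoint U := fun t ht t' ht' hne =>
      Finset.disjoint_left.mpr fun q hq hq' => hne ((hrec t ht q hq).symm.trans (hrec t' ht' q hq'))
    have hsub : (centredAt cen x₀).biUnion U ⊆ centredAt cen x₀ ×ˢ centredAt cen x₀ := by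
      intro q hq
      obtain ⟨t, ht, hq⟩ := Finset.mem_biUnion.mp hq
      have ht2 := hmemX t ht
      have hin : ∀ b ∈ otherTri Ω t, b ∈ centredAt cen x₀ := by
        intro b hb
        simp only [otherTri, Finset.mem_filter, Finset.mem_univ, true_and] at hb
        refine Finset.mem_filter.mpr ⟨Finset.mem_univ _, hb.1, ?_⟩
        rw [Z.cen_eq H hb.1 ht2 hb.2.2.1 hb.2.2.2, (Finset.mem_filter.mp ht).2.2]
      obtain ⟨hs1, hs2, -⟩ := hT t ht2
      rcases Finset.mem_union.mp hq with h | h <;> rw [Finset.mem_product] at h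
      exacts [Finset.mem_product.mpr ⟨hin _ (hs1 h.1), hin _ (hs2 h.2)⟩,
        Finset.mem_product.mpr ⟨hin _ (hs2 h.1), hin _ (hs1 h.2)⟩]
    have hh := Finset.card_le_card hsub
    rw [Finset.card_biUnion hdis, Finset.card_product] at hh
    have h4 : X * (B * B) ≤ 2 * (X * X) := by
      calc X * (B * B) = ∑ _t ∈ centredAt cen x₀, B * B := by
            rw [Finset.sum_const, smul_eq_mul]
        _ ≤ ∑ t ∈ centredAt cen x₀, 2 * (U t).card := Finset.sum_le_sum hcardU
        _ = 2 * ∑ t ∈ centredAt cen x₀, (U t).card := by rw [Finset.mul_sum]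
        _ ≤ 2 * (X * X) := Nat.mul_le_mul_left 2 hh
    exact Nat.le_of_mul_le_mul_left (le_of_le_of_eq h4 (by ring)) hX0
  -- pairs of involutions fixing `x₀` with different centres
  have h4 : X ≤ B * α + α * α := by
    set T := centredAt cen x₀
    set U := otherAt cen x₀
    set V₁ := fun v => otherTri Ω v ×ˢ (others v).biUnion (fun a => sameTri Ω cen v a)
    set V₂ := fun v => sameTri Ω cen v x₀ ×ˢ ((others v).erase x₀).biUnion (fun a => sameTri Ω cen v a)
    have hsub : T ×ˢ U ⊆ T.biUnion V₁ ∪ U.biUnion V₂ := by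
      intro q hq
      obtain ⟨u, w⟩ := q
      rw [Finset.mem_product] at hq
      obtain ⟨hu, hw⟩ := hq
      simp only [T, centredAt, Finset.mem_filter, Finset.mem_univ, true_and] at hu
      simp only [U, otherAt, Finset.mem_filter, Finset.mem_univ, true_and] at hw
      obtain ⟨hu2, huc⟩ := hu
      obtain ⟨hw2, hwc, hwx⟩ := hw
      have hux : u • x₀ = x₀ := huc ▸ Z.mem u hu2
      have hfixcl : ∀ g ∈ Subgroup.closure ({u, w} : Set G), g • x₀ = x₀ := by
        intro g hg
        have : Subgroup.closure ({u, w} : Set G) ≤ stabilizer G x₀ := by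
          rw [Subgroup.closure_le]
          rintro y (rfl | rfl)
          exacts [hux, hwx]
        exact this hg
      have heven : Even (orderOf (u * w)) := by
        rw [← Nat.not_odd_iff_even]
        intro hodd
        obtain ⟨d, hd, hdu⟩ := Invol.exists_mem_closure_conj_of_odd hu2 hw2 hodd
        refine hwc ?_
        rw [← hdu, Z.equivariant H hu2 d, huc, hfixcl d hd]
      have hne : u ≠ w := fun e => hwc (e ▸ huc)
      set v := Invol.centralInvol u w
      have hv2 : orderOf v = 2 := Invol.orderOf_centralInvol u w heven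
      have hvu : Commute v u := Invol.centralInvol_comm_left hu2 hw2 heven
      have hvw : Commute v w := Invol.centralInvol_comm_right hu2 hw2 heven
      have hvx : v • x₀ = x₀ := hfixcl v (Invol.centralInvol_mem_closure u w)
      have hsq : Commute u w → v = u * w := by
        intro hc
        have h2 : orderOf (u * w) = 2 := Invol.orderOf_two_of_mul_self
          (by rw [← pow_two, hc.mul_pow, pow_two, pow_two, Invol.mul_self_of_orderOf_two hu2,
            Invol.mul_self_of_orderOf_two hw2, one_mul])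
          (fun e => hne (by rw [← mul_left_inj w, e, Invol.mul_self_of_orderOf_two hw2]))
        show (u * w) ^ (orderOf (u * w) / 2) = u * w
        rw [h2]; exact pow_one _
      have hvu' : v ≠ u := by
        intro e
        refine Invol.ne_one_of_orderOf_two hw2 ((mul_eq_left (a := u)).mp ?_)
        rw [← hsq (e ▸ hvw), e]
      have hvw' : v ≠ w := by
        intro e
        refine Invol.ne_one_of_orderOf_two hu2 ((mul_eq_right (b := w)).mp ?_)
        rw [← hsq ((e ▸ hvu : Commute w u).symm), e]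
      by_cases hcv : cen v = x₀
      · refine Finset.mem_union_left _ (Finset.mem_biUnion.mpr
          ⟨v, Finset.mem_filter.mpr ⟨Finset.mem_univ _, hv2, hcv⟩, Finset.mem_product.mpr ⟨?_, ?_⟩⟩)
        · refine Finset.mem_filter.mpr ⟨Finset.mem_univ _, hu2, hvu'.symm, hvu.symm, fun e => ?_⟩
          exact Z.cen_ne H hu2 hv2 hvu'.symm hvu.symm e (huc.trans hcv.symm)
        · have hf : fixedBy Ω w = fixedBy Ω v := by
            by_contra hf
            exact hwc ((Z.cen_eq H hw2 hv2 hvw.symm hf).trans hcv)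
          refine Finset.mem_biUnion.mpr ⟨cen w, hmem_others.mpr ⟨fun e => hwc (e.trans hcv),
            hf ▸ Z.mem w hw2⟩, Finset.mem_filter.mpr ⟨Finset.mem_univ _, hw2, hvw'.symm, hvw.symm, hf, rfl⟩⟩
      · refine Finset.mem_union_right _ (Finset.mem_biUnion.mpr
          ⟨v, Finset.mem_filter.mpr ⟨Finset.mem_univ _, hv2, hcv, hvx⟩, Finset.mem_product.mpr ⟨?_, ?_⟩⟩)
        · refine Finset.mem_filter.mpr ⟨Finset.mem_univ _, hu2, hvu'.symm, hvu.symm, ?_, huc⟩
          by_contra hf
          exact hcv ((Z.cen_eq H hu2 hv2 hvu.symm hf).symm.trans huc)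
        · have hf : fixedBy Ω w = fixedBy Ω v := by
            by_contra hf
            have e := Z.cen_eq H hw2 hv2 hvw.symm hf
            exact hf (H.same_fix hw2 hv2 hvw.symm hwc hwx (Z.mem w hw2) hvx (e ▸ Z.mem v hv2))
          refine Finset.mem_biUnion.mpr ⟨cen w, Finset.mem_erase.mpr ⟨hwc, hmem_others.mpr
            ⟨fun e => Z.cen_ne H hw2 hv2 hvw'.symm hvw.symm hf e, hf ▸ Z.mem w hw2⟩⟩,
            Finset.mem_filter.mpr ⟨Finset.mem_univ _, hw2, hvw'.symm, hvw.symm, hf, rfl⟩⟩
    have hV1 : ∀ v ∈ T, (V₁ v).card ≤ B * (2 * α) := by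
      intro v hv
      have hvI : v ∈ I := Finset.mem_filter.mpr ⟨Finset.mem_univ _, (Finset.mem_filter.mp hv).2.1⟩
      simp only [V₁, Finset.card_product, hB v hvI]
      refine Nat.mul_le_mul_left B (Finset.card_biUnion_le.trans (le_of_eq ?_))
      rw [Finset.sum_congr rfl fun a ha => hα v hvI a (hmem_others.mp ha).2 (hmem_others.mp ha).1,
        Finset.sum_const, hothers v hvI, smul_eq_mul]
    have hV2 : ∀ v ∈ U, (V₂ v).card ≤ α * α := by
      intro v hv
      obtain ⟨hv2, hvc, hvx⟩ := (Finset.mem_filter.mp hv).2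
      have hvI : v ∈ I := Finset.mem_filter.mpr ⟨Finset.mem_univ _, hv2⟩
      have hx : x₀ ∈ others v := hmem_others.mpr ⟨Ne.symm hvc, hvx⟩
      simp only [V₂, Finset.card_product, hα v hvI x₀ hvx (Ne.symm hvc)]
      refine Nat.mul_le_mul_left α (Finset.card_biUnion_le.trans (le_of_eq ?_))
      rw [Finset.sum_congr rfl fun a ha => hα v hvI a (hmem_others.mp (Finset.mem_of_mem_erase ha)).2
        (hmem_others.mp (Finset.mem_of_mem_erase ha)).1, Finset.sum_const, Finset.card_erase_of_mem hx,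
        hothers v hvI, smul_eq_mul]
      norm_num
    have hh := (Finset.card_le_card hsub).trans (Finset.card_union_le _ _)
    rw [Finset.card_product, hU] at hh
    have := hh.trans (Nat.add_le_add (Finset.card_biUnion_le.trans (Finset.sum_le_sum hV1))
      (Finset.card_biUnion_le.trans (Finset.sum_le_sum hV2)))
    rw [Finset.sum_const, Finset.sum_const, smul_eq_mul, smul_eq_mul, hU] at this
    refine Nat.le_of_mul_le_mul_left (?_ : 2 * X * X ≤ 2 * X * (B * α + α * α)) (by omega)
    calc 2 * X * X = X * (2 * X) := by ring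
      _ ≤ X * (B * (2 * α)) + 2 * X * (α * α) := this
      _ = 2 * X * (B * α + α * α) := by ring
  -- arithmetic
  have h5 : 4 * (α * α) ≤ X := by
    have h6 : k * (α * α) ≤ 2 * X := (Nat.mul_le_mul_left k h2).trans h1
    have h7 : 8 * (α * α) ≤ k * (α * α) := Nat.mul_le_mul_right _ hk8
    omega
  have e1 : 3 * X ≤ 4 * (B * α) := by omega
  have e2 : (3 * X) * (3 * X) ≤ (4 * (B * α)) * (4 * (B * α)) := Nat.mul_le_mul e1 e1
  have e3 : (4 * (B * α)) * (4 * (B * α)) ≤ 4 * ((2 * X) * X) := by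
    calc (4 * (B * α)) * (4 * (B * α)) = 4 * ((B * B) * (4 * (α * α))) := by ring
      _ ≤ 4 * ((2 * X) * X) := Nat.mul_le_mul_left 4 (Nat.mul_le_mul h3 h5)
  nlinarith [Nat.mul_pos hX0 hX0]

end Centred

theorem two_false (K : Ctx G Ω p) (D : PMinusTwo.Data G p) (hp13 : 7 ≤ p) (hR : rank G Ω = 3)
    (hone : OneClass D) (heq : HasEq D (2 * p) 1) (hO : Orbital D Ω) : False := by
  obtain ⟨x, b, H⟩ := three_of_case K D (by omega) hR hone heq hO
  have : 13 ≤ p := by
    have h4 := K.fx_involution D.orderOf_t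
    rw [H.three _ D.orderOf_t] at h4
    have hp := K.prime
    rcases (show p = 9 ∨ 13 ≤ p by omega) with e | e
    · subst e; norm_num at hp
    · exact e
  obtain ⟨cen, Z⟩ := H.exists_centres K hR this
  exact Z.counting_false H K

end CfsgLib.DegreeThreeP
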