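import Cfsg.Agent.Lib.DegreeThreeP.Field
import Cfsg.Agent.Lib.DegreeThreeP.TwoCount
import Cfsg.Agent.Lib.DegreeThreeP.Five
import Cfsg.Agent.Lib.DegreeThreeP.ThreeOne
import Cfsg.Agent.Lib.DegreeThreeP.ThreeSemi
import Cfsg.Agent.Lib.DegreeThreeP.Imprimitive

/-!
# Degree `3 p`: the primitive action
-/

set_option autoImplicit false
set_option linter.unusedSectionVars false
set_option linter.style.haveILetI false

namespace CfsgLib.DegreeThreeP

open Cfsg CfsgLib MulAction
open scoped _root_.Classical

universe u v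

variable {G : Type u} [Group G] [Fintype G] [IsSimpleGroup G] {Ω : Type v} [Fintype Ω]
  [MulAction G Ω] [FaithfulSMul G Ω] [IsPretransitive G Ω] {p : ℕ} [Fact p.Prime]

/-- A primitive group is `A₆` on `15` points. -/
theorem primitive (K : Ctx G Ω p) (hprim : IsPreprimitive G Ω) :
    p = 5 ∧ Nonempty (G ≃* alternatingGroup (Fin 6)) := by
  obtain ⟨D⟩ := K.exists_data
  have h57 : p = 5 ∨ 7 ≤ p := by
    rcases (show p = 5 ∨ p = 6 ∨ 7 ≤ p by have := K.five_le; omega) with h | h | h
    · exact Or.inl h
    · subst h; exact absurd K.prime (by norm_num)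
    · exact Or.inr h
  rcases cases K D with ⟨rfl, hR, h7⟩ | ⟨B, hB, hne, hone, heq⟩ | ⟨hR, hone, heq, hO⟩ | ⟨hR, hone, heq⟩
  · exact (K.seven_false hprim hR h7).elim
  · rcases h57 with rfl | h
    · exact (K.not_five_one D hprim hone heq).elim
    · exact (field_false K h hprim D hB hne).elim
  · rcases h57 with rfl | h
    · exact ⟨rfl, K.five_two D hprim hone heq⟩
    · exact (two_false K D h hR hone heq hO).elim
  · exfalso
    obtain ⟨hle, hodd⟩ := K.fx_t D
    rcases (show fx Ω D.t = 1 ∨ fx Ω D.t = 3 by omega) with h1 | h3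
    · have h4 := K.fx_involution D.orderOf_t
      rw [h1] at h4
      rcases h57 with rfl | h
      · omega
      · obtain ⟨e, m, H⟩ := K.one_of_case D h hR hone h1 heq
        exact H.false K h
    · obtain ⟨-, x, b, H⟩ := K.three_of_rank_two D hR hone h3 heq
      have hp := K.three_small H hR
      subst hp
      exact K.not_five_three D hprim hone hR H heq

end CfsgLib.DegreeThreeP
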