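import Cfsg.Agent.Lib.DegreeThreeP.Chars

/-!
# Degree `3 p`: the two suborbits in the case of rank three
-/

set_option autoImplicit false
set_option linter.unusedSectionVars false
set_option linter.style.haveILetI false

namespace CfsgLib.DegreeThreeP

open Cfsg CfsgLib MulAction
open scoped _root_.Classical

variable {G : Type*} [Group G] [Fintype G] [IsSimpleGroup G] {Ω : Type*} [Fintype Ω]
  [MulAction G Ω] [FaithfulSMul G Ω] [IsPretransitive G Ω] {p : ℕ} [Fact p.Prime]

/-- `(a, a')` is a translate of `(x, b)`. -/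
def Rel (G : Type*) [Group G] {Ω : Type*} [MulAction G Ω] (x b a a' : Ω) : Prop :=
  ∃ g : G, g • x = a ∧ g • b = a'

theorem rel_iff_mk {x b a a' : Ω} : Rel G x b a a' ↔
    (Quotient.mk'' (a, a') : orbitRel.Quotient G (Ω × Ω)) = Quotient.mk'' (x, b) := by
  refine ⟨?_, fun h => ?_⟩
  · rintro ⟨g, rfl, rfl⟩
    exact Quotient.sound' ⟨g, rfl⟩
  · obtain ⟨g, hg⟩ := Quotient.exact' h
    exact ⟨g, congrArg Prod.fst hg, congrArg Prod.snd hg⟩

theorem exists_two_suborbits (hR : rank G Ω = 3) (x : Ω) :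
    ∃ b c : Ω, b ≠ x ∧ c ≠ x ∧ ¬ Rel G x b x c ∧
      ∀ a a' : Ω, a' ≠ a → Rel G x b a a' ∨ Rel G x c a a' := by
  set mk : Ω × Ω → orbitRel.Quotient G (Ω × Ω) := Quotient.mk'' with hmk
  have hmove : ∀ a a' : Ω, a' ≠ a → ∃ y, y ≠ x ∧ Rel G x y a a' := by
    intro a a' h
    obtain ⟨g, rfl⟩ := exists_smul_eq G x a
    exact ⟨g⁻¹ • a', fun e => h (by rw [← e, smul_inv_smul]), g, rfl, smul_inv_smul g a'⟩
  have hdiag : ∀ (a a' : Ω), a' ≠ a → mk (a, a') ≠ mk (x, x) := by
    intro a a' h e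
    obtain ⟨g, h1, h2⟩ := (rel_iff_mk (G := G)).mpr e
    exact h (h2.symm.trans h1)
  have hone : Nonempty Ω := ⟨x⟩
  obtain ⟨b, hb⟩ : ∃ b, b ≠ x := by
    by_contra h
    push Not at h
    have h1 : Nat.card (orbitRel.Quotient G (Ω × Ω)) ≤ 1 := by
      refine Finite.card_le_one_iff_subsingleton.mpr ⟨fun q q' => ?_⟩
      induction q using Quotient.inductionOn' with | h q => ?_
      induction q' using Quotient.inductionOn' with | h q' => ?_
      rw [show q = (x, x) from Prod.ext (h _) (h _), show q' = (x, x) from Prod.ext (h _) (h _)]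
    rw [rank] at hR
    omega
  obtain ⟨c, hc, hbc⟩ : ∃ c, c ≠ x ∧ ¬ Rel G x b x c := by
    by_contra h
    push Not at h
    have hsurj : Function.Surjective (fun i : Bool => if i then mk (x, x) else mk (x, b)) := by
      intro q
      induction q using Quotient.inductionOn' with | h q => ?_
      obtain ⟨a, a'⟩ := q
      by_cases e : a' = a
      · subst e
        obtain ⟨g, rfl⟩ := exists_smul_eq G x a'
        exact ⟨true, Quotient.sound' ⟨g⁻¹, by simp [Prod.smul_mk]⟩⟩
      · obtain ⟨y, hy, g, hg1, hg2⟩ := hmove a a' e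
        obtain ⟨g', hg1', hg2'⟩ := h y hy
        refine ⟨false, ?_⟩
        have : Rel G x b a a' := ⟨g * g', by rw [mul_smul, hg1', hg1], by rw [mul_smul, hg2', hg2]⟩
        exact ((rel_iff_mk (G := G)).mp this).symm
    have := Nat.card_le_card_of_surjective _ hsurj
    rw [Nat.card_eq_fintype_card (α := Bool), Fintype.card_bool] at this
    rw [rank] at hR
    omega
  refine ⟨b, c, hb, hc, hbc, fun a a' h => ?_⟩
  by_contra hn
  rw [not_or, rel_iff_mk, rel_iff_mk] at hn
  rw [rel_iff_mk] at hbc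
  haveI := Fintype.ofFinite (orbitRel.Quotient G (Ω × Ω))
  have h4 : ({mk (x, x), mk (x, b), mk (x, c), mk (a, a')} : Finset _).card = 4 := by
    rw [Finset.card_insert_of_notMem, Finset.card_insert_of_notMem, Finset.card_pair (Ne.symm hn.2)]
    · simp only [Finset.mem_insert, Finset.mem_singleton, not_or]
      exact ⟨Ne.symm hbc, Ne.symm hn.1⟩
    · simp only [Finset.mem_insert, Finset.mem_singleton, not_or]
      exact ⟨(hdiag x b hb).symm, (hdiag x c hc).symm, (hdiag a a' h).symm⟩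
  have := Finset.card_le_univ ({mk (x, x), mk (x, b), mk (x, c), mk (a, a')} : Finset _)
  rw [h4, ← Nat.card_eq_fintype_card] at this
  rw [rank] at hR
  omega

theorem orbit_stabilizer_eq (x b : Ω) : orbit (stabilizer G x) b = {y | Rel G x b x y} := by
  ext y
  constructor
  · rintro ⟨⟨g, hg⟩, rfl⟩
    exact ⟨g, hg, rfl⟩
  · rintro ⟨g, h1, h2⟩
    exact ⟨⟨g, h1⟩, h2⟩

/-- The arithmetic of a rank three action: for one suborbit `b`, with `k = p + s` points,
`6 s² + 3 s + 1 = 2 p`. -/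
theorem suborbit_arith (K : Ctx G Ω p) (D : PMinusTwo.Data G p) (hR : rank G Ω = 3)
    (hO : Orbital D Ω) :
    ∃ (x b c : Ω) (s : ℤ), b ≠ x ∧ c ≠ x ∧ ¬ Rel G x b x c ∧
      (∀ a a' : Ω, a' ≠ a → Rel G x b a a' ∨ Rel G x c a a') ∧
      2 * (p : ℤ) = 6 * s ^ 2 + 3 * s + 1 ∧
      (Nat.card (orbit (stabilizer G x) b) : ℤ) = p + s ∧
      (Nat.card (orbit (stabilizer G x) c) : ℤ) = 2 * (p : ℤ) - 1 - s := by
  obtain ⟨x⟩ := K.nonempty
  obtain ⟨b, c, hb, hc, hbc, hcov⟩ := exists_two_suborbits hR x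
  have hexcl : ∀ {a a' : Ω}, Rel G x b a a' → ¬ Rel G x c a a' := fun {a a'} h1 h2 =>
    hbc ((rel_iff_mk (G := G)).mpr (((rel_iff_mk (G := G)).mp h2).symm.trans
      ((rel_iff_mk (G := G)).mp h1)))
  have hkl : Nat.card (orbit (stabilizer G x) b) + Nat.card (orbit (stabilizer G x) c) = 3 * p - 1 := by
    have hu : orbit (stabilizer G x) b ∪ orbit (stabilizer G x) c = {x}ᶜ := by
      ext y
      simp only [orbit_stabilizer_eq, Set.mem_union, Set.mem_setOf_eq, Set.mem_compl_iff,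
        Set.mem_singleton_iff]
      refine ⟨?_, fun h => hcov x y h⟩
      rintro (⟨g, h1, h2⟩ | ⟨g, h1, h2⟩) rfl
      exacts [hb (smul_left_cancel g (h2.trans h1.symm)), hc (smul_left_cancel g (h2.trans h1.symm))]
    have hd : Disjoint (orbit (stabilizer G x) b) (orbit (stabilizer G x) c) := by
      rw [Set.disjoint_left]
      intro y h1 h2
      rw [orbit_stabilizer_eq] at h1 h2
      exact hexcl h1 h2
    rw [Nat.card_coe_set_eq, Nat.card_coe_set_eq, ← Set.ncard_union_eq hd (Set.toFinite _)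
      (Set.toFinite _), hu, Set.ncard_compl, Set.ncard_singleton, Nat.card_eq_fintype_card,
      K.card_omega]
  obtain ⟨jb, hjb, heb⟩ := hO x b hb
  obtain ⟨jc, hjc, hec⟩ := hO x c hc
  have hp0 := K.prime.pos
  have hj : jb + jc = 3 := by
    have h1 := Finset.card_union_of_disjoint
      (s := Finset.univ.filter fun y : Ω => ∃ g : G, g • x = y ∧ g • b = D.v • y)
      (t := Finset.univ.filter fun y : Ω => ∃ g : G, g • x = y ∧ g • c = D.v • y) (by
        rw [Finset.disjoint_left]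
        intro y h1 h2
        simp only [Finset.mem_filter, Finset.mem_univ, true_and] at h1 h2
        exact hexcl h1 h2)
    rw [hjb, hjc, show (Finset.univ.filter fun y : Ω => ∃ g : G, g • x = y ∧ g • b = D.v • y) ∪
        (Finset.univ.filter fun y : Ω => ∃ g : G, g • x = y ∧ g • c = D.v • y) = Finset.univ from ?_,
      Finset.card_univ, K.card_omega] at h1
    · exact Nat.eq_of_mul_eq_mul_right hp0 (by rw [add_mul]; omega)
    · ext y
      simp only [Finset.mem_union, Finset.mem_filter, Finset.mem_univ, true_and, iff_true]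
      exact hcov y (D.v • y) (K.free D.ordv y)
  set k := Nat.card (orbit (stabilizer G x) b) with hk
  set l := Nat.card (orbit (stabilizer G x) c) with hl
  have hk0 : 0 < k := Nat.card_pos_iff.mpr ⟨⟨⟨b, mem_orbit_self b⟩⟩, inferInstance⟩
  have hl0 : 0 < l := Nat.card_pos_iff.mpr ⟨⟨⟨c, mem_orbit_self c⟩⟩, inferInstance⟩
  have hzero : ∀ (j : ℕ) (a : ℕ), 0 < a → j = 0 → 3 * (p : ℤ) * a =
      (a : ℤ) ^ 2 + (2 * (p : ℤ) - 1) * ((a : ℤ) - j * p) ^ 2 +
        p * (j + 2 * ((a : ℤ) - j * p)) ^ 2 → False := by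
    intro j a ha hj0 he
    subst hj0
    simp only [Nat.cast_zero, zero_mul, sub_zero, zero_add] at he
    have h1 : (3 * (p : ℤ) * a) * (2 * a - 1) = 0 := by linear_combination -he
    rcases mul_eq_zero.mp h1 with h2 | h2
    · have : (0 : ℤ) < 3 * p * a := by positivity
      omega
    · omega
  have hkl' : (k : ℤ) + l = 3 * p - 1 := by omega
  have hfin : ∀ (a a' : ℕ), (a : ℤ) + a' = 3 * p - 1 → 3 * (p : ℤ) * a =
      (a : ℤ) ^ 2 + (2 * (p : ℤ) - 1) * ((a : ℤ) - 1 * p) ^ 2 +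
        p * (1 + 2 * ((a : ℤ) - 1 * p)) ^ 2 →
      2 * (p : ℤ) = 6 * ((a : ℤ) - p) ^ 2 + 3 * ((a : ℤ) - p) + 1 := by
    intro a a' _ he
    refine mul_left_cancel₀ (Nat.cast_ne_zero.mpr hp0.ne' : (p : ℤ) ≠ 0) ?_
    linear_combination he
  rcases (show jb = 0 ∨ jb = 1 ∨ jb = 2 ∨ jc = 0 by omega) with e | e | e | e
  · exact (hzero jb k hk0 e heb).elim
  · subst e
    exact ⟨x, b, c, (k : ℤ) - p, hb, hc, hbc, hcov, hfin k l hkl' (by exact_mod_cast heb),
      by ring, by linarith⟩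
  · obtain rfl : jc = 1 := by omega
    refine ⟨x, c, b, (l : ℤ) - p, hc, hb, fun h => hbc ?_, fun a a' h => (hcov a a' h).symm,
      hfin l k (by linarith) (by exact_mod_cast hec), by ring, by linarith⟩
    rw [rel_iff_mk] at h ⊢
    exact h.symm
  · exact (hzero jc l hl0 e hec).elim

end CfsgLib.DegreeThreeP
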