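import Cfsg.Agent.Lib.PMinusTwo.DegreeTwoP
import Cfsg.Agent.Lib.Transfer.Basic
import Cfsg.Agent.Lib.Perm.PermRank

/-!
# Simple transitive groups of degree `3 p` with `|N(P)| = 2 p`: local structure and fixed points
-/

set_option autoImplicit false
set_option linter.unusedSectionVars false
set_option linter.style.haveILetI false

namespace CfsgLib.DegreeThreeP

open Cfsg CfsgLib MulAction
open scoped _root_.Classical

/-- The hypothesis. -/
structure Ctx (G : Type*) [Group G] (Ω : Type*) [Fintype Ω] [MulAction G Ω] (p : ℕ) where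
  prime : p.Prime
  five_le : 5 ≤ p
  card_omega : Fintype.card Ω = 3 * p
  P : Sylow p G
  card_N : Nat.card (Subgroup.normalizer ((P : Subgroup G) : Set G)) = 2 * p
  noncomm : ¬ IsMulCommutative G

/-- The number of fixed points. -/
noncomputable def fx (Ω : Type*) {G : Type*} [Group G] [MulAction G Ω] (g : G) : ℕ :=
  Nat.card (fixedBy Ω g)

variable {G : Type*} [Group G] [Fintype G] [IsSimpleGroup G] {Ω : Type*} [Fintype Ω]
  [MulAction G Ω] [FaithfulSMul G Ω] [IsPretransitive G Ω] {p : ℕ} [Fact p.Prime]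

theorem fx_one : fx Ω (1 : G) = Fintype.card Ω := by
  rw [fx, fixedBy_one_eq_univ, Nat.card_coe_set_eq, Set.ncard_univ, Nat.card_eq_fintype_card]

theorem fx_conj (g h : G) : fx Ω (h * g * h⁻¹) = fx Ω g := by
  refine Nat.card_congr ((MulAction.toPerm h⁻¹).subtypeEquiv fun x => ?_)
  show (h * g * h⁻¹) • x = x ↔ g • (h⁻¹ • x) = h⁻¹ • x
  constructor
  · intro e
    calc g • h⁻¹ • x = (h⁻¹ * (h * g * h⁻¹)) • x := by rw [smul_smul]; congr 1; group
      _ = h⁻¹ • x := by rw [mul_smul, e]
  · intro e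
    rw [mul_smul, mul_smul, e, smul_inv_smul]

theorem fx_of_isConj {g g' : G} (h : IsConj g g') : fx Ω g' = fx Ω g := by
  obtain ⟨c, rfl⟩ := isConj_iff.mp h
  exact fx_conj g c

namespace Ctx

variable (K : Ctx G Ω p)

include K

theorem two_lt : 2 < p := by have := K.five_le; omega

theorem p_dvd_card : p ∣ Nat.card G := by
  haveI : Nonempty Ω := Fintype.card_pos_iff.mp (by rw [K.card_omega]; have := K.five_le; omega)
  obtain ⟨x⟩ : Nonempty Ω := inferInstance
  refine dvd_trans (dvd_mul_left p 3) ?_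
  rw [← K.card_omega, ← Nat.card_eq_fintype_card, ← index_stabilizer_of_transitive G x]
  exact Subgroup.index_dvd_card _

theorem card_P : Nat.card K.P = p := by
  have hpp := K.prime
  obtain ⟨k, hk⟩ := IsPGroup.iff_card.mp K.P.2
  have h1 : p ∣ Nat.card K.P := K.P.dvd_card_of_dvd_card K.p_dvd_card
  have h2 : p ^ k ∣ 2 * p := by
    rw [← hk, ← K.card_N]; exact Subgroup.card_dvd_of_le Subgroup.le_normalizer
  rcases k with _ | _ | k
  · rw [pow_zero] at hk; rw [hk] at h1; exact absurd (Nat.dvd_one.mp h1) hpp.ne_one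
  · rw [hk, zero_add, pow_one]
  · exfalso
    have h3 : p * p ∣ 2 * p := (dvd_of_eq (pow_two p).symm).trans
      ((pow_dvd_pow p (show 2 ≤ k + 1 + 1 by omega)).trans h2)
    have := Nat.le_of_dvd two_pos (Nat.dvd_of_mul_dvd_mul_right hpp.pos h3)
    have := K.five_le
    omega

theorem not_sq_dvd : ¬ p ^ 2 ∣ Nat.card G := by
  intro h
  have h1 : p ^ 2 ∣ Nat.card K.P := by
    rw [K.P.card_eq_multiplicity]
    exact pow_dvd_pow p ((K.prime.pow_dvd_iff_le_factorization Nat.card_pos.ne').mp h)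
  rw [K.card_P] at h1
  have := Nat.le_of_dvd K.prime.pos h1
  have := Nat.le_self_pow two_ne_zero p
  nlinarith [K.five_le]

theorem not_dvd_stabilizer (x : Ω) : ¬ p ∣ Nat.card (stabilizer G x) := by
  intro h
  refine K.not_sq_dvd ?_
  rw [← Subgroup.card_mul_index (stabilizer G x), index_stabilizer_of_transitive G x,
    Nat.card_eq_fintype_card (α := Ω), K.card_omega, pow_two]
  exact mul_dvd_mul h (dvd_mul_left p 3)

theorem free {v : G} (hv : orderOf v = p) (x : Ω) : v • x ≠ x := fun h =>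
  K.not_dvd_stabilizer x (hv ▸ Subgroup.orderOf_dvd_natCard _ (mem_stabilizer_iff.mpr h))

theorem fx_singular {g : G} (hg : p ∣ orderOf g) : fx Ω g = 0 := by
  haveI : IsEmpty (fixedBy Ω g) := ⟨fun ⟨x, hx⟩ =>
    K.not_dvd_stabilizer x (hg.trans (Subgroup.orderOf_dvd_natCard _ (mem_stabilizer_iff.mpr hx)))⟩
  exact Nat.card_of_isEmpty

theorem centralizer_P :
    Subgroup.centralizer ((K.P : Subgroup G) : Set G) = (K.P : Subgroup G) := by
  haveI : IsCyclic (K.P : Subgroup G) := isCyclic_of_prime_card K.card_P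
  have hPC : (K.P : Subgroup G) ≤ Subgroup.centralizer ((K.P : Subgroup G) : Set G) := fun a ha =>
    Subgroup.mem_centralizer_iff.mpr fun b hb => congrArg Subtype.val
      ((IsCyclic.commGroup (α := (K.P : Subgroup G))).mul_comm ⟨b, hb⟩ ⟨a, ha⟩)
  have hCN : Subgroup.centralizer ((K.P : Subgroup G) : Set G) ≤
      Subgroup.normalizer ((K.P : Subgroup G) : Set G) := Subgroup.centralizer_le_normalizer _
  refine (Subgroup.eq_of_le_of_card_ge hPC ?_).symm
  rw [K.card_P]
  by_contra hlt
  push Not at hlt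
  obtain ⟨c, hc⟩ := Subgroup.card_dvd_of_le hPC
  rw [K.card_P] at hc
  have hd : c ∣ 2 := by
    have := Subgroup.card_dvd_of_le hCN
    rw [K.card_N, hc, mul_comm 2 p] at this
    exact Nat.dvd_of_mul_dvd_mul_left K.prime.pos this
  have hc2 : c = 2 := by
    rcases (Nat.dvd_prime Nat.prime_two).mp hd with rfl | rfl
    · rw [hc, mul_one] at hlt; exact absurd hlt (lt_irrefl _)
    · rfl
  have hNC : Subgroup.normalizer ((K.P : Subgroup G) : Set G) ≤
      Subgroup.centralizer ((K.P : Subgroup G) : Set G) :=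
    (Subgroup.eq_of_le_of_card_ge hCN (by rw [K.card_N, hc, hc2, mul_comm])).ge
  obtain ⟨Q, N, hN, hcompl⟩ := Transfer.hasNormalPComplement_of_normalizer_le_centralizer K.P hNC
  have hQ : Nat.card Q = p := by rw [Q.card_eq_multiplicity, ← K.P.card_eq_multiplicity, K.card_P]
  rcases hN.eq_bot_or_eq_top with h | h
  · subst h
    have h1 := hcompl.card_mul
    rw [Subgroup.card_bot, one_mul, hQ] at h1
    haveI : IsCyclic G := isCyclic_of_prime_card h1.symm
    exact K.noncomm ⟨⟨fun a b => (IsCyclic.commGroup (α := G)).mul_comm a b⟩⟩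
  · subst h
    have h1 := hcompl.card_mul
    rw [Subgroup.card_top, hQ] at h1
    have h2 : Nat.card G * p = Nat.card G * 1 := by rw [mul_one]; exact h1
    exact K.prime.ne_one (Nat.eq_of_mul_eq_mul_left Nat.card_pos h2)

theorem center_bot : Subgroup.center G = ⊥ := by
  rcases (inferInstance : (Subgroup.center G).Normal).eq_bot_or_eq_top with h | h
  · exact h
  · exact absurd ⟨⟨fun a b => (Subgroup.mem_center_iff.mp (h ▸ Subgroup.mem_top b) a)⟩⟩ K.noncomm

theorem perfect : commutator G = ⊤ := by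
  rcases (inferInstance : (commutator G).Normal).eq_bot_or_eq_top with h | h
  · exfalso
    refine K.noncomm ⟨⟨fun a b => ?_⟩⟩
    have := Subgroup.commutator_mem_commutator (Subgroup.mem_top a) (Subgroup.mem_top b)
    rw [← commutator_def, h, Subgroup.mem_bot] at this
    exact commutatorElement_eq_one_iff_mul_comm.mp this
  · exact h

theorem exists_data : Nonempty (PMinusTwo.Data G p) := by
  have hpp := K.prime
  set N := Subgroup.normalizer ((K.P : Subgroup G) : Set G) with hNdef
  have hP := K.card_P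
  obtain ⟨⟨v, hvP⟩, hv⟩ := exists_prime_orderOf_dvd_card' (G := (K.P : Subgroup G)) p (dvd_of_eq hP.symm)
  rw [Subgroup.orderOf_mk] at hv
  have hPv : (K.P : Subgroup G) = Subgroup.zpowers v :=
    (Subgroup.eq_of_le_of_card_ge (Subgroup.zpowers_le.mpr hvP) (by
      rw [Nat.card_zpowers, hv]; exact hP.le)).symm
  haveI : Fact (Nat.Prime 2) := ⟨Nat.prime_two⟩
  obtain ⟨⟨t, htN⟩, ht⟩ := exists_prime_orderOf_dvd_card' (G := N) 2 (by
    rw [hNdef, K.card_N]; exact dvd_mul_right 2 p)
  rw [Subgroup.orderOf_mk] at ht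
  have htt : t * t = 1 := by rw [← pow_two, ← ht]; exact pow_orderOf_eq_one t
  have hti : t⁻¹ = t := inv_eq_of_mul_eq_one_right htt
  have hC : ∀ g : G, g * v = v * g → g ∈ (K.P : Subgroup G) := fun g hg => by
    rw [← K.centralizer_P, Subgroup.mem_centralizer_iff]
    intro x hx
    rw [hPv] at hx
    obtain ⟨i, rfl⟩ := Subgroup.mem_zpowers_iff.mp hx
    exact ((show Commute g v from hg).zpow_right i).eq.symm
  have htP : t ∉ (K.P : Subgroup G) := fun h => by
    have := Subgroup.orderOf_dvd_natCard (K.P : Subgroup G) h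
    rw [ht, hP] at this
    have := (Nat.prime_dvd_prime_iff_eq Nat.prime_two hpp).mp this
    have := K.five_le
    omega
  have hidx : ((K.P : Subgroup G).subgroupOf N).index = 2 := by
    have h := ((K.P : Subgroup G).subgroupOf N).card_mul_index
    rw [Nat.card_congr (Subgroup.subgroupOfEquivOfLe Subgroup.le_normalizer).toEquiv, hP,
      show Nat.card N = 2 * p from K.card_N, mul_comm 2 p] at h
    exact Nat.eq_of_mul_eq_mul_left hpp.pos h
  have hnor : ∀ g ∈ N, g * v * g⁻¹ = v ∨ g * v * g⁻¹ = v⁻¹ := fun g hg => by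
    refine PMinusTwo.TwoP.inv_or_self hpp hv
      (by rw [← hPv]; exact (Subgroup.mem_normalizer_iff.mp hg v).mp hvP) ?_
    have := Subgroup.mul_self_mem_of_index_two hidx (⟨g, hg⟩ : N)
    rw [Subgroup.mem_subgroupOf, Subgroup.coe_mul, hPv] at this
    obtain ⟨i, hi⟩ := Subgroup.mem_zpowers_iff.mp this
    simp only at hi
    rw [← hi]
    exact Commute.zpow_self v i
  have hnormv : ∀ g : G, g * v * g⁻¹ ∈ Subgroup.zpowers v → g ∈ N := by
    intro g hg
    rw [hNdef]
    refine Subgroup.mem_normalizer_iff.mpr fun y => ?_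
    have hmap : (K.P : Subgroup G).map (MulAut.conj g).toMonoidHom = (K.P : Subgroup G) := by
      refine Subgroup.eq_of_le_of_card_ge ?_ ?_
      · rw [hPv, MonoidHom.map_zpowers, Subgroup.zpowers_le]
        simpa using hg
      · rw [Subgroup.card_map_of_injective (MulAut.conj g).injective]
    constructor
    · intro hy
      rw [← hmap]
      exact ⟨y, hy, by simp⟩
    · intro hy
      rw [← hmap] at hy
      obtain ⟨z, hz, e⟩ := hy
      simp only [MulEquiv.coe_toMonoidHom, MulAut.conj_apply] at e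
      rwa [← (mul_right_injective g) (mul_left_injective g⁻¹ e)]
  refine ⟨{
    five_le := K.five_le
    v := v
    t := t
    ordv := hv
    tt := htt
    tv := ?_
    cent := fun g hg => ?_
    nor := fun g hg => hnor g (hnormv g hg)
    powZ := fun z hz => by rw [K.center_bot, Subgroup.mem_bot] at hz; rw [hz, one_pow]
    syl := fun g hg => ?_
    perf := K.perfect }⟩
  · rcases hnor t htN with e | e
    · exact absurd (hC t (mul_inv_eq_iff_eq_mul.mp e)) htP
    · conv_lhs => arg 2; rw [← hti]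
      exact e
  · have h := hC g hg
    rw [hPv, ← mem_powers_iff_mem_zpowers, Submonoid.mem_powers_iff] at h
    obtain ⟨i, hi⟩ := h
    exact ⟨i, 1, Subgroup.one_mem _, by rw [mul_one, hi]⟩
  · obtain ⟨Q, hQ⟩ := (IsPGroup.of_card (n := 1) (G := Subgroup.zpowers g)
      (by rw [Nat.card_zpowers, hg, pow_one])).exists_le_sylow
    obtain ⟨h, hh⟩ := MulAction.exists_smul_eq G Q K.P
    refine ⟨h, ?_⟩
    rw [← hPv, ← hh, Sylow.coe_subgroup_smul]
    exact ⟨g, hQ (Subgroup.mem_zpowers g), by simp [MulAut.smul_def]⟩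

theorem card_G : Nat.card G = 2 * p * Nat.card (Sylow p G) := by
  rw [K.P.card_eq_index_normalizer, ← K.card_N]
  exact (Subgroup.card_mul_index _).symm

theorem card_singular :
    2 * p * Nat.card {g : G // p ∣ orderOf g} = (p - 1) * Nat.card G := by
  haveI := Fintype.ofFinite (Sylow p G)
  have hQ : ∀ Q : Sylow p G, Nat.card Q = p := fun Q => by
    rw [Q.card_eq_multiplicity, ← K.P.card_eq_multiplicity, K.card_P]
  obtain ⟨D⟩ := K.exists_data
  have hord : ∀ g : G, p ∣ orderOf g → orderOf g = p := fun g hg => by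
    obtain ⟨h, i, z, hz, hi, he⟩ := D.exists_singular hg
    rw [K.center_bot, Subgroup.mem_bot] at hz
    subst hz
    rw [mul_one] at he
    have h1 : g ^ p = 1 := by
      have h2 : (h * g * h⁻¹) ^ p = 1 := by rw [he, ← pow_mul, mul_comm, pow_mul, D.v_pow_p, one_pow]
      rwa [conj_pow, conj_eq_one_iff] at h2
    exact Nat.dvd_antisymm (orderOf_dvd_of_pow_eq_one h1) hg
  have hzp : ∀ (Q : Sylow p G) (g : G), g ∈ (Q : Subgroup G) → g ≠ 1 →
      (Q : Subgroup G) = Subgroup.zpowers g ∧ orderOf g = p := fun Q g hg h1 => by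
    have ho : orderOf g = p := ((Nat.dvd_prime K.prime).mp
      (hQ Q ▸ Subgroup.orderOf_dvd_natCard _ hg)).resolve_left fun h => h1 (orderOf_eq_one_iff.mp h)
    exact ⟨(Subgroup.eq_of_le_of_card_ge (Subgroup.zpowers_le.mpr hg) (by
      rw [Nat.card_zpowers, ho, hQ Q])).symm, ho⟩
  have hcard : Nat.card {g : G // p ∣ orderOf g} =
      Nat.card (Σ Q : Sylow p G, {x : (Q : Subgroup G) // x ≠ 1}) := by
    refine (Nat.card_congr (Equiv.ofBijective
      (fun q : Σ Q : Sylow p G, {x : (Q : Subgroup G) // x ≠ 1} =>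
        (⟨(q.2.1 : G), dvd_of_eq (hzp q.1 _ q.2.1.2 (fun h => q.2.2 (Subtype.ext h))).2.symm⟩ :
          {g : G // p ∣ orderOf g})) ⟨?_, ?_⟩)).symm
    · rintro ⟨Q, ⟨⟨x, hx⟩, hx1⟩⟩ ⟨Q', ⟨⟨x', hx'⟩, hx1'⟩⟩ h
      have h' : x = x' := congrArg Subtype.val h
      subst h'
      obtain rfl : Q = Q' := Sylow.ext ((hzp Q x hx (fun e => hx1 (Subtype.ext e))).1.trans
        (hzp Q' x hx' (fun e => hx1 (Subtype.ext e))).1.symm)
      rfl
    · rintro ⟨g, hg⟩
      obtain ⟨Q, hle⟩ := (IsPGroup.of_card (n := 1) (G := Subgroup.zpowers g)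
        (by rw [Nat.card_zpowers, hord g hg, pow_one])).exists_le_sylow
      exact ⟨⟨Q, ⟨⟨g, hle (Subgroup.mem_zpowers g)⟩, fun e => by
        have e' : g = 1 := congrArg Subtype.val e
        rw [e', orderOf_one] at hg
        exact K.prime.ne_one (Nat.dvd_one.mp hg)⟩⟩, rfl⟩
  have hfib : ∀ Q : Sylow p G, Nat.card {x : (Q : Subgroup G) // x ≠ 1} = p - 1 := fun Q => by
    rw [Nat.card_eq_fintype_card, Fintype.card_subtype_compl, Fintype.card_subtype_eq,
      ← Nat.card_eq_fintype_card, hQ Q]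
  rw [hcard, Nat.card_sigma, Finset.sum_congr rfl fun Q _ => hfib Q, Finset.sum_const,
    Finset.card_univ, smul_eq_mul, ← Nat.card_eq_fintype_card, K.card_G]
  ring

/-- `t` fixes at most one point in each orbit of `v`. -/
theorem fx_t (D : PMinusTwo.Data G p) :
    fx Ω D.t ≤ 3 ∧ fx Ω D.t % 2 = 1 := by
  have hle : fx Ω D.t * p ≤ 3 * p := by
    calc fx Ω D.t * p = Nat.card (fixedBy Ω D.t × Fin p) := by rw [Nat.card_prod, Nat.card_fin, fx]
      _ ≤ Nat.card Ω := ?_
      _ = 3 * p := by rw [Nat.card_eq_fintype_card, K.card_omega]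
    refine Nat.card_le_card_of_injective
      (fun q : fixedBy Ω D.t × Fin p => D.v ^ (q.2 : ℕ) • (q.1 : Ω)) ?_
    rintro ⟨⟨x, hx⟩, i⟩ ⟨⟨y, hy⟩, j⟩ h
    simp only at h
    have h2 := congrArg (D.t • ·) h
    beta_reduce at h2
    have hconj : ∀ (k : ℕ) (z : Ω), D.t • z = z → D.t • D.v ^ k • z = (D.v ^ k)⁻¹ • z := by
      intro k z hz
      conv_rhs => rw [← hz]
      rw [smul_smul, smul_smul, ← D.t_mul_v_pow, mul_assoc, D.tt, mul_one]
    rw [hconj _ x hx, hconj _ y hy] at h2
    set a := D.v ^ (i : ℕ)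
    set b := D.v ^ (j : ℕ)
    have e1 : x = (a⁻¹ * b) • y := by rw [mul_smul, ← h, inv_smul_smul]
    have e2 : x = (a * b⁻¹) • y := by rw [mul_smul, ← h2, smul_inv_smul]
    have hab : Commute a b := Commute.pow_pow (Commute.refl _) _ _
    have e3 : ((b⁻¹ * a) * (b⁻¹ * a)) • y = y := by
      calc ((b⁻¹ * a) * (b⁻¹ * a)) • y = (b⁻¹ * a) • ((a * b⁻¹) • y) := by
            rw [mul_smul, (hab.symm.inv_left).eq]
        _ = (b⁻¹ * a) • ((a⁻¹ * b) • y) := by rw [← e2, ← e1]
        _ = y := by rw [smul_smul, show b⁻¹ * a * (a⁻¹ * b) = 1 by group, one_smul]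
    by_cases hij : i = j
    · subst hij
      exact Prod.ext (Subtype.ext (smul_left_cancel _ h)) rfl
    · exfalso
      have hne : (b⁻¹ * a) * (b⁻¹ * a) ≠ 1 := by
        intro e
        have hp2 : (b⁻¹ * a) ^ p = 1 := by
          rw [(hab.symm.inv_left).mul_pow, inv_pow, ← pow_mul, ← pow_mul, mul_comm (j : ℕ),
            mul_comm (i : ℕ), pow_mul, pow_mul, D.v_pow_p]
          simp
        obtain ⟨T, hT⟩ := D.odd_p
        rw [hT, pow_succ, pow_mul, pow_two, e, one_pow, one_mul, inv_mul_eq_one] at hp2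
        exact hij (Fin.ext (D.v_pow_inj j.2 i.2 hp2).symm)
      have hz : (b⁻¹ * a) * (b⁻¹ * a) ∈ Subgroup.zpowers D.v :=
        mul_mem (mul_mem (inv_mem (Subgroup.npow_mem_zpowers _ _)) (Subgroup.npow_mem_zpowers _ _))
          (mul_mem (inv_mem (Subgroup.npow_mem_zpowers _ _)) (Subgroup.npow_mem_zpowers _ _))
      obtain ⟨n, hn⟩ := D.exists_root hz hne
      refine K.free D.ordv y ?_
      rw [← hn]
      exact mem_stabilizer_iff.mp (pow_mem (mem_stabilizer_iff.mpr e3) n)
  refine ⟨Nat.le_of_mul_le_mul_right hle K.prime.pos, ?_⟩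
  haveI : Fact (Nat.Prime 2) := ⟨Nat.prime_two⟩
  have hmod := (IsPGroup.of_card (n := 1) (G := Subgroup.zpowers D.t)
    (by rw [Nat.card_zpowers, D.orderOf_t, pow_one])).card_modEq_card_fixedPoints Ω
  have he : Nat.card (fixedPoints (Subgroup.zpowers D.t) Ω) = fx Ω D.t := by
    refine Nat.card_congr (Equiv.subtypeEquivRight fun x => ?_)
    constructor
    · intro h
      exact h ⟨D.t, Subgroup.mem_zpowers _⟩
    · rintro h ⟨g, hg⟩
      obtain ⟨k, rfl⟩ := Subgroup.mem_zpowers_iff.mp hg
      exact mem_stabilizer_iff.mp (zpow_mem (mem_stabilizer_iff.mpr h) k)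
  rw [he, Nat.card_eq_fintype_card (α := Ω), K.card_omega] at hmod
  unfold Nat.ModEq at hmod
  obtain ⟨T, hT⟩ := D.odd_p
  omega

/-- Every element induces an even permutation. -/
theorem sign_eq_one (g : G) : Equiv.Perm.sign (MulAction.toPermHom G Ω g) = 1 := by
  set f : G →* ℤˣ := Equiv.Perm.sign.comp (MulAction.toPermHom G Ω)
  rcases (inferInstance : f.ker.Normal).eq_bot_or_eq_top with h | h
  · exfalso
    refine K.noncomm ⟨⟨fun a b => ?_⟩⟩
    exact (MonoidHom.ker_eq_bot_iff f).mp h (by rw [map_mul, map_mul, mul_comm])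
  · exact (MonoidHom.mem_ker (f := f)).mp (h ▸ Subgroup.mem_top g)

theorem card_moved (σ : G) :
    (MulAction.toPermHom G Ω σ).cycleType.sum = 3 * p - fx Ω σ := by
  have h := Equiv.Perm.card_fixedPoints (MulAction.toPermHom G Ω σ)
  have hle : (MulAction.toPermHom G Ω σ).cycleType.sum ≤ 3 * p := by
    rw [Equiv.Perm.sum_cycleType, ← K.card_omega]; exact Finset.card_le_univ _
  have he : Fintype.card (Function.fixedPoints (MulAction.toPermHom G Ω σ)) = fx Ω σ := by
    rw [fx, ← Nat.card_eq_fintype_card]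
    rfl
  rw [he, K.card_omega] at h
  omega

theorem fx_involution {u : G} (hu : orderOf u = 2) : fx Ω u % 4 = 3 * p % 4 := by
  set σ := MulAction.toPermHom G Ω u
  have hmem : ∀ i ∈ σ.cycleType, i = 2 := fun i hi => by
    have h1 := Equiv.Perm.dvd_of_mem_cycleType hi
    have h2 : orderOf σ ∣ 2 := hu ▸ orderOf_map_dvd _ u
    have := Equiv.Perm.two_le_of_mem_cycleType hi
    have := Nat.le_of_dvd two_pos (h1.trans h2)
    omega
  have hrep := Multiset.eq_replicate_card.mpr hmem
  have hsum : σ.cycleType.sum = 2 * Multiset.card σ.cycleType := by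
    conv_lhs => rw [hrep, Multiset.sum_replicate, smul_eq_mul, mul_comm]
  have hsign := K.sign_eq_one u
  rw [Equiv.Perm.sign_of_cycleType, hsum] at hsign
  have heven : Even (2 * Multiset.card σ.cycleType + Multiset.card σ.cycleType) := by
    by_contra h
    rw [Nat.not_even_iff_odd] at h
    rw [h.neg_one_pow] at hsign
    exact absurd hsign (by decide)
  have := K.card_moved u
  rw [hsum] at this
  have hle : fx Ω u ≤ 3 * p := by
    rw [fx, ← K.card_omega, ← Nat.card_eq_fintype_card]
    exact Nat.card_le_card_of_injective _ Subtype.val_injective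
  rw [Nat.even_iff] at heven
  omega

/-- An element of order four fixing the same points as its square has `8 ∣ 3 p - fx`. -/
theorem fx_four {g : G} (hg : orderOf g = 4) (he : fx Ω g = fx Ω (g * g)) :
    8 ∣ 3 * p - fx Ω g := by
  set σ := MulAction.toPermHom G Ω g
  have hsub : fixedBy Ω g = fixedBy Ω (g * g) := by
    refine Set.eq_of_subset_of_ncard_le (fun x hx => ?_) ?_ (Set.toFinite _)
    · show (g * g) • x = x
      rw [mul_smul, show g • x = x from hx, show g • x = x from hx]
    · rw [← Nat.card_coe_set_eq, ← Nat.card_coe_set_eq]; exact he.ge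
  have hmem : ∀ i ∈ σ.cycleType, i = 4 := fun i hi => by
    have h1 := Equiv.Perm.dvd_of_mem_cycleType hi
    have h2 : orderOf σ ∣ 4 := hg ▸ orderOf_map_dvd _ g
    have h3 := Equiv.Perm.two_le_of_mem_cycleType hi
    have h4 := Nat.le_of_dvd (by norm_num) (h1.trans h2)
    have h5 := h1.trans h2
    interval_cases i
    · exfalso
      rw [Equiv.Perm.cycleType_def, Multiset.mem_map] at hi
      obtain ⟨c, hc, hcc⟩ := hi
      have hc' : c ∈ σ.cycleFactorsFinset := hc
      obtain ⟨hcyc, hcs⟩ := Equiv.Perm.mem_cycleFactorsFinset_iff.mp hc'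
      simp only [Function.comp_apply] at hcc
      obtain ⟨a, ha⟩ := Finset.card_pos.mp (show 0 < c.support.card by omega)
      have hca : c a = g • a := hcs a ha
      have hca' : c a ∈ c.support := Equiv.Perm.apply_mem_support.mpr ha
      have hcca : c (c a) = g • g • a := by rw [hcs (c a) hca', hca]; rfl
      have h2c : c ^ 2 = 1 := by rw [← hcc, ← hcyc.orderOf, pow_orderOf_eq_one]
      have : c (c a) = a := by
        have := DFunLike.congr_fun h2c a
        rwa [pow_two, Equiv.Perm.mul_apply, Equiv.Perm.one_apply] at this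
      rw [hcca, ← mul_smul] at this
      have hfix : a ∈ fixedBy Ω g := hsub ▸ (this : a ∈ fixedBy Ω (g * g))
      exact (Equiv.Perm.mem_support.mp ha) (hca.trans hfix)
    · omega
    · rfl
  have hrep := Multiset.eq_replicate_card.mpr hmem
  have hsum : σ.cycleType.sum = 4 * Multiset.card σ.cycleType := by
    conv_lhs => rw [hrep, Multiset.sum_replicate, smul_eq_mul, mul_comm]
  have hsign := K.sign_eq_one g
  rw [Equiv.Perm.sign_of_cycleType, hsum] at hsign
  have heven : Even (Multiset.card σ.cycleType) := by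
    by_contra h
    rw [Nat.not_even_iff_odd] at h
    rw [(Even.add_odd (Even.mul_right (by decide) _) h).neg_one_pow] at hsign
    exact absurd hsign (by decide)
  obtain ⟨k, hk⟩ := heven
  refine ⟨k, ?_⟩
  rw [← K.card_moved g, hsum, hk]
  ring

end Ctx

end CfsgLib.DegreeThreeP
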