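import Cfsg.Agent.Lib.DegreeThreeP.Setup

/-!
# Degree `3 p`: moments of the number of fixed points over the `p`-regular elements
-/

set_option autoImplicit false
set_option linter.unusedSectionVars false
set_option linter.style.haveILetI false

namespace CfsgLib.DegreeThreeP

open Cfsg CfsgLib MulAction
open scoped _root_.Classical

variable {G : Type*} [Group G] [Fintype G] [IsSimpleGroup G] {Ω : Type*} [Fintype Ω]
  [MulAction G Ω] [FaithfulSMul G Ω] [IsPretransitive G Ω] {p : ℕ} [Fact p.Prime]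

/-- Fixed points minus two. -/
noncomputable def dev (Ω : Type*) {G : Type*} [Group G] [MulAction G Ω] (g : G) : ℤ :=
  (fx Ω g : ℤ) - 2

/-- The number of orbits on ordered pairs. -/
noncomputable def rank (G Ω : Type*) [Group G] [MulAction G Ω] : ℕ :=
  Nat.card (orbitRel.Quotient G (Ω × Ω))

/-- The number of orbits on ordered triples. -/
noncomputable def rank3 (G Ω : Type*) [Group G] [MulAction G Ω] : ℕ :=
  Nat.card (orbitRel.Quotient G (Ω × Ω × Ω))

theorem sum_fx [Nonempty Ω] : ∑ g : G, fx Ω g = Fintype.card G := by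
  have h := Cfsg.Agent.Lib.Perm.sum_fixedBy (G := G) (X := Ω)
  haveI : Subsingleton (orbitRel.Quotient G Ω) :=
    MulAction.pretransitive_iff_subsingleton_quotient G Ω |>.1 inferInstance
  haveI : Nonempty (orbitRel.Quotient G Ω) := ⟨Quotient.mk'' (Classical.arbitrary Ω)⟩
  rw [Nat.card_eq_one_iff_unique.2 ⟨inferInstance, inferInstance⟩, one_mul, Nat.card_eq_fintype_card] at h
  exact h

theorem fx_prod {X Y : Type*} [MulAction G X] [MulAction G Y] (g : G) :
    fx (X × Y) g = fx X g * fx Y g := by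
  rw [fx, fx, fx, ← Nat.card_prod]
  exact Nat.card_congr
    { toFun := fun q => (⟨q.1.1, congrArg Prod.fst q.2⟩, ⟨q.1.2, congrArg Prod.snd q.2⟩)
      invFun := fun q => ⟨(q.1.1, q.2.1), Prod.ext q.1.2 q.2.2⟩
      left_inv := fun _ => rfl
      right_inv := fun _ => rfl }

theorem sum_fx_sq : ∑ g : G, fx Ω g ^ 2 = rank G Ω * Fintype.card G := by
  have h := Cfsg.Agent.Lib.Perm.sum_fixedBy (G := G) (X := Ω × Ω)
  rw [Nat.card_eq_fintype_card (α := G)] at h
  rw [rank, ← h]
  exact Finset.sum_congr rfl fun g _ => by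
    show _ = fx (Ω × Ω) g
    rw [fx_prod, pow_two]

theorem sum_fx_cube : ∑ g : G, fx Ω g ^ 3 = rank3 G Ω * Fintype.card G := by
  have h := Cfsg.Agent.Lib.Perm.sum_fixedBy (G := G) (X := Ω × Ω × Ω)
  rw [Nat.card_eq_fintype_card (α := G)] at h
  rw [rank3, ← h]
  exact Finset.sum_congr rfl fun g _ => by
    show _ = fx (Ω × Ω × Ω) g
    rw [fx_prod, fx_prod]; ring

theorem five_le_rank3 (h3 : 3 ≤ Fintype.card Ω) : 5 ≤ rank3 G Ω := by
  obtain ⟨a, b, c, hab, hac, hbc⟩ := Fintype.two_lt_card_iff.mp h3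
  set pat : Ω × Ω × Ω → Bool × Bool × Bool := fun q =>
    (decide (q.1 = q.2.1), decide (q.1 = q.2.2), decide (q.2.1 = q.2.2)) with hpat
  have hinv : ∀ (g : G) (q : Ω × Ω × Ω), pat (g • q) = pat q := by
    rintro g ⟨x, y, z⟩
    simp [hpat, Prod.smul_mk]
  let L : orbitRel.Quotient G (Ω × Ω × Ω) → Bool × Bool × Bool := fun q =>
    Quotient.liftOn' q pat fun x y hxy => by
      obtain ⟨g, rfl⟩ := hxy
      exact hinv g y
  set S : Finset (Bool × Bool × Bool) :=
    {(true, true, true), (true, false, false), (false, true, false), (false, false, true),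
      (false, false, false)} with hS
  have hsub : ∀ s ∈ S, ∃ q, L q = s := by
    intro s hs
    simp only [hS, Finset.mem_insert, Finset.mem_singleton] at hs
    rcases hs with rfl | rfl | rfl | rfl | rfl
    exacts [⟨Quotient.mk'' (a, a, a), by simp [L, hpat]⟩, ⟨Quotient.mk'' (a, a, b), by simp [L, hpat, hab]⟩,
      ⟨Quotient.mk'' (a, b, a), by simp [L, hpat, hab, hab.symm]⟩,
      ⟨Quotient.mk'' (a, b, b), by simp [L, hpat, hab]⟩,
      ⟨Quotient.mk'' (a, b, c), by simp [L, hpat, hab, hac, hbc]⟩]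
  choose q hq using hsub
  calc 5 = Nat.card S := by
        rw [Nat.card_eq_fintype_card, Fintype.card_coe, hS]; rfl
    _ ≤ rank3 G Ω := Nat.card_le_card_of_injective (fun s : S => q s.1 s.2) fun s s' h =>
        Subtype.ext (by rw [← hq s.1 s.2, ← hq s'.1 s'.2]; exact congrArg L h)

namespace Ctx

variable (K : Ctx G Ω p)

/-- The `p`-regular elements. -/
noncomputable def reg (_K : Ctx G Ω p) : Finset G := Finset.univ.filter fun g => ¬ p ∣ orderOf g

theorem mem_reg {g : G} : g ∈ K.reg ↔ ¬ p ∣ orderOf g := by simp [reg]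

theorem one_mem_reg : (1 : G) ∈ K.reg := K.mem_reg.mpr (by
  rw [orderOf_one]; exact fun h => K.prime.ne_one (Nat.dvd_one.mp h))

theorem sum_reg {M : Type*} [AddCommMonoid M] (F : ℕ → M) (h0 : F 0 = 0) :
    ∑ g ∈ K.reg, F (fx Ω g) = ∑ g : G, F (fx Ω g) := by
  refine Finset.sum_subset (Finset.subset_univ _) fun g _ hg => ?_
  rw [K.fx_singular (not_not.mp fun h => hg (K.mem_reg.mpr h)), h0]

theorem card_reg : (2 * p : ℤ) * K.reg.card = ((p : ℤ) + 1) * Fintype.card G := by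
  have h := K.card_singular
  rw [Nat.card_eq_fintype_card, Fintype.card_subtype, Nat.card_eq_fintype_card] at h
  have h2 := Finset.card_filter_add_card_filter_not (s := (Finset.univ : Finset G))
    (fun g => p ∣ orderOf g)
  rw [Finset.card_univ] at h2
  have h' := congrArg (Nat.cast (R := ℤ)) h
  push_cast [Nat.cast_sub K.prime.one_le] at h'
  have h2' := congrArg (Nat.cast (R := ℤ)) h2
  push_cast at h2'
  show (2 * p : ℤ) * (Finset.univ.filter fun g => ¬ p ∣ orderOf g).card = _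
  linear_combination (2 * p : ℤ) * h2' - h'

include K in
theorem nonempty : Nonempty Ω :=
  Fintype.card_pos_iff.mp (by rw [K.card_omega]; have := K.five_le; omega)

theorem sum_dev : (p : ℤ) * ∑ g ∈ K.reg, dev Ω g = -(Fintype.card G : ℤ) := by
  haveI := K.nonempty
  have h1 : ∑ g ∈ K.reg, (fx Ω g : ℤ) = Fintype.card G := by
    rw [K.sum_reg (fun n => (n : ℤ)) rfl]
    exact_mod_cast sum_fx (G := G) (Ω := Ω)
  simp only [dev, Finset.sum_sub_distrib, Finset.sum_const, nsmul_eq_mul, h1]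
  linear_combination (-1 : ℤ) * K.card_reg

theorem sum_dev_sq : (p : ℤ) * ∑ g ∈ K.reg, dev Ω g ^ 2 =
    (((rank G Ω : ℤ) - 2) * p + 2) * Fintype.card G := by
  haveI := K.nonempty
  have h1 : ∑ g ∈ K.reg, (fx Ω g : ℤ) = Fintype.card G := by
    rw [K.sum_reg (fun n => (n : ℤ)) rfl]
    exact_mod_cast sum_fx (G := G) (Ω := Ω)
  have h2 : ∑ g ∈ K.reg, (fx Ω g : ℤ) ^ 2 = rank G Ω * Fintype.card G := by
    rw [K.sum_reg (fun n => (n : ℤ) ^ 2) (by norm_num)]
    exact_mod_cast sum_fx_sq (G := G) (Ω := Ω)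
  simp only [dev, sub_sq, Finset.sum_add_distrib, Finset.sum_sub_distrib, ← Finset.mul_sum,
    ← Finset.sum_mul, Finset.sum_const, nsmul_eq_mul, h1, h2]
  linear_combination (2 : ℤ) * K.card_reg

theorem sum_dev_sq_fx : ∑ g ∈ K.reg, dev Ω g ^ 2 * fx Ω g =
    ((rank3 G Ω : ℤ) - 4 * rank G Ω + 4) * Fintype.card G := by
  haveI := K.nonempty
  have h1 : ∑ g ∈ K.reg, (fx Ω g : ℤ) = Fintype.card G := by
    rw [K.sum_reg (fun n => (n : ℤ)) rfl]
    exact_mod_cast sum_fx (G := G) (Ω := Ω)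
  have h2 : ∑ g ∈ K.reg, (fx Ω g : ℤ) ^ 2 = rank G Ω * Fintype.card G := by
    rw [K.sum_reg (fun n => (n : ℤ) ^ 2) (by norm_num)]
    exact_mod_cast sum_fx_sq (G := G) (Ω := Ω)
  have h3 : ∑ g ∈ K.reg, (fx Ω g : ℤ) ^ 3 = rank3 G Ω * Fintype.card G := by
    rw [K.sum_reg (fun n => (n : ℤ) ^ 3) (by norm_num)]
    exact_mod_cast sum_fx_cube (G := G) (Ω := Ω)
  have e : ∀ g : G, dev Ω g ^ 2 * fx Ω g =
      (fx Ω g : ℤ) ^ 3 - 4 * (fx Ω g : ℤ) ^ 2 + 4 * (fx Ω g : ℤ) := fun g => by rw [dev]; ring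
  simp only [e, Finset.sum_add_distrib, Finset.sum_sub_distrib, ← Finset.mul_sum, h1, h2, h3]
  ring

end Ctx

end CfsgLib.DegreeThreeP
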