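import Cfsg.Agent.Lib.DegreeThreeP.TransTwo

/-!
# Degree `3 p`, two orbits on pairs, `p ≡ 3 (mod 4)`: counting
-/

set_option autoImplicit false
set_option linter.unusedSectionVars false
set_option linter.style.haveILetI false
set_option maxHeartbeats 1000000

namespace CfsgLib.DegreeThreeP

open Cfsg CfsgLib MulAction
open scoped _root_.Classical

universe u v

variable {G : Type u} [Group G] [Fintype G] [IsSimpleGroup G] {Ω : Type v} [Fintype Ω]
  [MulAction G Ω] [FaithfulSMul G Ω] [IsPretransitive G Ω] {p : ℕ} [Fact p.Prime]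

/-- What the counting gives. -/
structure One (G : Type*) [Group G] (Ω : Type*) [Fintype Ω] [MulAction G Ω] (p e m : ℕ) : Prop where
  one : ∀ u w : G, orderOf u = 2 → orderOf w = 2 → IsConj u w
  single : ∀ u : G, orderOf u = 2 → fx Ω u = 1
  q_eq : 3 * p = 2 ^ e + 1
  full : (Nat.card G).factorization 2 = e
  cent : ∀ t : G, orderOf t = 2 → Nat.card (Subgroup.centralizer ({t} : Set G)) = 2 ^ e * m
  no_four : ∀ g : G, orderOf g ≠ 4
  large : p ≤ m + 1

theorem single_eq {u : G} (h : fx Ω u = 1) : ∃ w, fixedBy Ω u = {w} :=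
  Set.ncard_eq_one.mp (by rw [← Nat.card_coe_set_eq]; exact h)

/-- An element commuting with an involution fixing one point fixes that point. -/
theorem fix_of_commute {u g : G} {w : Ω} (hw : fixedBy Ω u = {w}) (h : Commute g u) : g • w = w := by
  have : g • w ∈ fixedBy Ω u :=
    centralizer_smul_mem (Subgroup.mem_centralizer_singleton_iff.mpr h.eq) (hw.symm ▸ Set.mem_singleton w)
  rwa [hw] at this

theorem card_roots_one_odd (t : G) {m : ℕ} (hm : Odd m) :
    Odd (Finset.univ.filter fun z : G => z ∈ Subgroup.centralizer ({t} : Set G) ∧ z ^ m = 1).card := by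
  set Z := {z : G // z ∈ Subgroup.centralizer ({t} : Set G) ∧ z ^ m = 1}
  haveI : Fact (Nat.Prime 2) := ⟨Nat.prime_two⟩
  let f : Function.End Z := fun z => ⟨(z : G)⁻¹, inv_mem z.2.1, by rw [inv_pow, z.2.2, inv_one]⟩
  have hf : f ^ 2 ^ 1 = 1 := by
    rw [pow_one, pow_two]
    funext z
    exact Subtype.ext (inv_inv _)
  have hmod := Equiv.Perm.card_fixedPoints_modEq hf
  have huniq : ∀ z : Function.fixedPoints f, (z : Z).1 = 1 := by
    rintro ⟨⟨z, hz1, hz2⟩, hfix⟩
    have hz : z⁻¹ = z := congrArg Subtype.val hfix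
    have h2 : z * z = 1 := by nth_rewrite 1 [← hz]; exact inv_mul_cancel z
    obtain ⟨k, hk⟩ := hm
    rw [hk, pow_succ, pow_mul, pow_two, h2, one_pow, one_mul] at hz2
    exact hz2
  have h1 : Fintype.card (Function.fixedPoints f) = 1 := by
    refine Fintype.card_eq_one_iff.mpr ⟨⟨⟨1, one_mem _, one_pow m⟩, Subtype.ext inv_one⟩, fun z => ?_⟩
    exact Subtype.ext (Subtype.ext (huniq z))
  rw [h1] at hmod
  rw [Nat.odd_iff, ← Fintype.card_subtype]
  exact hmod

theorem card_rootSet_eq (t : G) {m : ℕ} (ht : orderOf t = 2) (hm : Odd m) :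
    (rootSet t m).card =
      (Finset.univ.filter fun z : G => z ∈ Subgroup.centralizer ({t} : Set G) ∧ z ^ m = 1).card := by
  have htt := Invol.mul_self_of_orderOf_two ht
  have htm : t ^ m = t := by
    obtain ⟨k, hk⟩ := hm
    rw [hk, pow_succ, pow_mul, pow_two, htt, one_pow, one_mul]
  refine Finset.card_bij (fun y _ => y * t) (fun y hy => ?_) (fun a _ b _ h => mul_right_cancel h)
    fun z hz => ?_
  · have hc := rootSet_commute hy
    simp only [Finset.mem_filter, Finset.mem_univ, true_and]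
    exact ⟨Subgroup.mem_centralizer_singleton_iff.mpr (hc.mul_left (Commute.refl t)).eq,
      by rw [hc.mul_pow, mem_rootSet.mp hy, htm, htt]⟩
  · simp only [Finset.mem_filter, Finset.mem_univ, true_and] at hz
    have hc : Commute z t := Subgroup.mem_centralizer_singleton_iff.mp hz.1
    exact ⟨z * t, mem_rootSet.mpr (by rw [hc.mul_pow, hz.2, htm, one_mul]),
      by rw [mul_assoc, htt, mul_one]⟩

/-- If the odd elements of the centraliser are no more than its order modulo `2`-parts, it is a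
`2`-group. -/
theorem kappa_one {t : G} (ht : orderOf t = 2) (hfx : fx Ω t = 1) {e m : ℕ} (hm : Odd m)
    (hq : Fintype.card Ω = 2 ^ e + 1) (hfull : (Nat.card G).factorization 2 = e)
    (hc : Nat.card (Subgroup.centralizer ({t} : Set G)) = 2 ^ e * m)
    (hsemi : ∀ u : G, orderOf u = 2 → fx Ω u = 1)
    (hcard : (rootSet t m).card = m) : m = 1 := by
  haveI : Fact (Nat.Prime 2) := ⟨Nat.prime_two⟩
  obtain ⟨w, hw⟩ := single_eq hfx
  set C := Subgroup.centralizer ({t} : Set G)
  set Z := Finset.univ.filter fun z : G => z ∈ C ∧ z ^ m = 1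
  have hZ : Z.card = m := by rw [← card_rootSet_eq t ht hm]; exact hcard
  have hCw : ∀ g ∈ C, g • w = w := fun g hg =>
    fix_of_commute hw (Subgroup.mem_centralizer_singleton_iff.mp hg)
  obtain ⟨Q⟩ : Nonempty (Sylow 2 C) := inferInstance
  have hfac : (Nat.card C).factorization 2 = e := by
    rw [hc, Nat.factorization_mul (by positivity) (by rcases hm with ⟨k, rfl⟩; omega), Finsupp.add_apply,
      Nat.prime_two.factorization_pow, Finsupp.single_eq_same,
      Nat.factorization_eq_zero_of_not_dvd (fun h => Nat.not_even_iff_odd.mpr hm (even_iff_two_dvd.mpr h)),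
      add_zero]
  have hQ : Nat.card Q = 2 ^ e := by rw [Q.card_eq_multiplicity, hfac]
  have hfixall : ∀ y : Ω, y ≠ w → ∀ z ∈ Z, z • y = y := by
    intro y hy
    have horb : 2 ^ e ≤ Nat.card (orbit C y) := by
      rw [← hQ]
      refine Nat.card_le_card_of_injective
        (fun s : Q => (⟨(s : C) • y, mem_orbit _ _⟩ : orbit C y)) fun s s' h => ?_
      by_contra hne
      have hfix : (((s⁻¹ * s' : Q) : C) : G) • y = y := by
        have h' : ((s : C) : G) • y = ((s' : C) : G) • y := congrArg Subtype.val h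
        simp only [Subgroup.coe_mul, InvMemClass.coe_inv, mul_smul, ← h', inv_smul_smul]
      set r := s⁻¹ * s'
      have hr1 : r ≠ 1 := fun e => hne (inv_mul_eq_one.mp e)
      obtain ⟨i, hi⟩ := IsPGroup.iff_orderOf.mp Q.2 r
      rcases i with _ | i
      · exact hr1 (orderOf_eq_one_iff.mp hi)
      have hro : orderOf ((r : C) : G) = 2 ^ (i + 1) := by
        rw [Subgroup.orderOf_coe, Subgroup.orderOf_coe, hi]
      set u := ((r : C) : G) ^ 2 ^ i
      have hu : orderOf u = 2 := by
        show orderOf (((r : C) : G) ^ 2 ^ i) = 2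
        rw [orderOf_pow_of_dvd (by positivity) (by rw [hro]; exact pow_dvd_pow 2 (Nat.le_succ i)), hro,
          pow_succ, Nat.mul_div_cancel_left _ (by positivity)]
      obtain ⟨a, ha⟩ := single_eq (hsemi u hu)
      have h1 : y ∈ fixedBy Ω u :=
        mem_stabilizer_iff.mp (pow_mem (show ((r : C) : G) ∈ stabilizer G y from hfix) _)
      have h2 : w ∈ fixedBy Ω u :=
        mem_stabilizer_iff.mp (pow_mem (show ((r : C) : G) ∈ stabilizer G w from hCw _ (r : C).2) _)
      rw [ha, Set.mem_singleton_iff] at h1 h2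
      exact hy (h1.trans h2.symm)
    have hle : Nat.card (orbit C y) ≤ 2 ^ e := by
      rw [Nat.card_coe_set_eq]
      refine (Set.ncard_le_ncard (t := ({w} : Set Ω)ᶜ) ?_ (Set.toFinite _)).trans ?_
      · rintro _ ⟨g, rfl⟩ hgy
        exact hy (smul_left_cancel (g : G) ((hgy : (g : G) • y = w).trans (hCw g g.2).symm))
      · rw [Set.ncard_compl, Set.ncard_singleton, Nat.card_eq_fintype_card, hq]; omega
    have hst : Nat.card (stabilizer C y) = m := by
      have h := Nat.card_congr (orbitProdStabilizerEquivGroup C y)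
      rw [Nat.card_prod, hc, le_antisymm hle horb] at h
      exact Nat.eq_of_mul_eq_mul_left (by positivity) h
    have hsub : (Finset.univ.filter fun g : G => g ∈ C ∧ g • y = y) = Z := by
      refine Finset.eq_of_subset_of_card_le (fun g hg => ?_) ?_
      · simp only [Z, Finset.mem_filter, Finset.mem_univ, true_and] at hg ⊢
        refine ⟨hg.1, ?_⟩
        have h := pow_card_eq_one' (G := stabilizer C y) (x := ⟨⟨g, hg.1⟩, hg.2⟩)
        rw [hst] at h
        exact congrArg (fun k : stabilizer C y => ((k : C) : G)) h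
      · rw [hZ, ← hst, ← Fintype.card_subtype, ← Nat.card_eq_fintype_card]
        exact le_of_eq (Nat.card_congr
          { toFun := fun k => ⟨((k : C) : G), (k : C).2, k.2⟩
            invFun := fun g => ⟨⟨g, g.2.1⟩, g.2.2⟩
            left_inv := fun _ => rfl
            right_inv := fun _ => rfl })
    intro z hz
    rw [← hsub] at hz
    exact (Finset.mem_filter.mp hz).2.2
  rw [← hZ, Finset.card_eq_one]
  refine ⟨1, Finset.eq_singleton_iff_unique_mem.mpr ⟨by simp [Z], fun z hz => ?_⟩⟩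
  refine eq_of_smul_eq_smul (α := Ω) fun y => ?_
  rw [one_smul]
  by_cases hy : y = w
  · rw [hy]; exact hCw z (Finset.mem_filter.mp hz).2.1
  · exact hfixall y hy z hz

namespace Ctx

variable (K : Ctx G Ω p)

include K

theorem sum_bound (hR : rank G Ω = 2) {E : Finset G} (hE : E ⊆ K.reg)
    (hE1 : ∀ g ∈ E, fx Ω g = 1) :
    (p : ℤ) * (6 * p - 6) * E.card ≤
      (8 * (p : ℤ) - 6) * Fintype.card G + 2 * p * (3 * p - 2) * (3 * p - 3) := by
  set k : ℤ := 3 * (p : ℤ) - 4 with hk
  set φ : G → ℤ := fun g => (k + 3) * dev Ω g ^ 2 - k * dev Ω g - dev Ω g ^ 2 * fx Ω g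
  have hp5 : (5 : ℤ) ≤ p := by exact_mod_cast K.five_le
  have hpos : ∀ g ∈ K.reg, g ≠ 1 → 0 ≤ φ g := by
    intro g _ hg1
    have hle : fx Ω g + 2 ≤ 3 * p := by
      by_contra hlt
      obtain ⟨y, hy⟩ : ∃ y : Ω, g • y ≠ y := by
        by_contra h
        push Not at h
        exact hg1 (eq_of_smul_eq_smul (α := Ω) fun y => by rw [h y, one_smul])
      have h2 : ({y, g • y} : Set Ω) ⊆ (fixedBy Ω g)ᶜ := by
        simp only [Set.insert_subset_iff, Set.singleton_subset_iff, Set.mem_compl_iff]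
        exact ⟨hy, fun h => hy (smul_left_cancel g h)⟩
      have h3 := Set.ncard_le_ncard h2 (Set.toFinite _)
      rw [Set.ncard_pair (Ne.symm hy), Set.ncard_compl, Nat.card_eq_fintype_card, K.card_omega,
        ← Nat.card_coe_set_eq] at h3
      rw [fx] at hlt
      omega
    have hle' : (fx Ω g : ℤ) + 2 ≤ 3 * p := by exact_mod_cast hle
    have hC : -2 ≤ dev Ω g ∧ dev Ω g ≤ k := by rw [dev, hk]; omega
    have e : φ g = -(dev Ω g * (dev Ω g - 1) * (dev Ω g - k)) := by
      simp only [φ, dev]; ring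
    rw [e]
    rcases le_or_gt (dev Ω g) 0 with h | h
    · have : 0 ≤ dev Ω g * (dev Ω g - 1) := mul_nonneg_of_nonpos_of_nonpos h (by omega)
      have h2 : dev Ω g - k ≤ 0 := by omega
      linarith [mul_nonpos_of_nonneg_of_nonpos this h2]
    · have : 0 ≤ dev Ω g * (dev Ω g - 1) := mul_nonneg h.le (by omega)
      have h2 : dev Ω g - k ≤ 0 := by omega
      linarith [mul_nonpos_of_nonneg_of_nonpos this h2]
  have hval : ∀ g ∈ E, φ g = 2 * k + 2 := by
    intro g hg
    simp only [φ, dev, hE1 g hg]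
    push_cast; ring
  have hone : φ 1 = -2 * (k + 2) * (k + 1) := by
    simp only [φ, dev, fx_one, K.card_omega]
    push_cast [hk]; ring
  have h1E : (1 : G) ∉ E := fun h => by
    have := hE1 1 h
    rw [fx_one, K.card_omega] at this
    omega
  have hmain : (2 * k + 2) * E.card + -2 * (k + 2) * (k + 1) ≤ ∑ g ∈ K.reg, φ g := by
    rw [← Finset.add_sum_erase _ _ K.one_mem_reg, hone]
    have hh : (2 * k + 2) * (E.card : ℤ) ≤ ∑ g ∈ K.reg.erase 1, φ g := by
      calc (2 * k + 2) * (E.card : ℤ) = ∑ g ∈ E, φ g := by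
            rw [Finset.sum_congr rfl hval, Finset.sum_const, nsmul_eq_mul, mul_comm]
        _ ≤ _ := Finset.sum_le_sum_of_subset_of_nonneg
            (fun g hg => Finset.mem_erase.mpr ⟨fun (e : g = 1) => h1E (e ▸ hg), hE hg⟩)
            fun g hg _ => hpos g (Finset.mem_of_mem_erase hg) (Finset.ne_of_mem_erase hg)
    linarith
  have hsum : ∑ g ∈ K.reg, φ g = (k + 3) * ∑ g ∈ K.reg, dev Ω g ^ 2 - k * ∑ g ∈ K.reg, dev Ω g -
      ((rank3 G Ω : ℤ) - 4) * Fintype.card G := by
    have h := K.sum_dev_sq_fx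
    rw [hR] at h
    push_cast at h
    simp only [φ, Finset.sum_sub_distrib, ← Finset.mul_sum]
    rw [h]; ring
  have h5 : (5 : ℤ) ≤ rank3 G Ω := by
    exact_mod_cast five_le_rank3 (G := G) (by rw [K.card_omega]; have := K.five_le; omega)
  have h6 : (Fintype.card G : ℤ) ≤ ((rank3 G Ω : ℤ) - 4) * Fintype.card G :=
    le_mul_of_one_le_left (by positivity) (by linarith)
  have h7 := K.sum_dev_sq
  rw [hR] at h7
  push_cast at h7
  have h8 := K.sum_dev
  have h9 := mul_le_mul_of_nonneg_left (hmain.trans_eq hsum) (by linarith : (0 : ℤ) ≤ p)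
  have h10 := mul_le_mul_of_nonneg_left h6 (by linarith : (0 : ℤ) ≤ p)
  have e7 := congrArg (fun z : ℤ => (k + 3) * z) h7
  have e8 := congrArg (fun z : ℤ => k * z) h8
  beta_reduce at e7 e8
  have key : (p : ℤ) * (2 * k + 2) * E.card ≤ (k + 3) * 2 * Fintype.card G + k * Fintype.card G -
      p * Fintype.card G + 2 * p * (k + 2) * (k + 1) := by linarith
  rw [hk] at key
  linarith

theorem one_of_case (D : PMinusTwo.Data G p) (h7 : 7 ≤ p) (hR : rank G Ω = 2) (hone : OneClass D)
    (h1 : fx Ω D.t = 1) (heq : HasEq D (3 * p) ((fx Ω D.t : ℤ) - 1)) :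
    ∃ e m : ℕ, One G Ω p e m := by
  haveI : Fact (Nat.Prime 2) := ⟨Nat.prime_two⟩
  haveI : Nontrivial Ω := Fintype.one_lt_card_iff_nontrivial.mp (by rw [K.card_omega]; omega)
  obtain ⟨b, x, hbx⟩ := exists_pair_ne Ω
  have hone' : ∀ u w : G, orderOf u = 2 → orderOf w = 2 → IsConj u w := fun u w hu hw =>
    (hone u hu).symm.trans (hone w hw)
  have hsingle : ∀ u : G, orderOf u = 2 → fx Ω u = 1 := fun u hu => (fx_of_isConj (hone u hu)).trans h1
  set c := Nat.card (Subgroup.centralizer ({D.t} : Set G))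
  set n := Nat.card (Sylow p G)
  have he : c * c * (3 * p - 2) = 2 * n * (3 * p - 1) := by
    unfold HasEq at heq
    rw [h1] at heq
    push_cast at heq
    have : ((c * c * (3 * p - 2) : ℕ) : ℤ) * (3 * (p : ℤ) - 1) =
        ((2 * n * (3 * p - 1) : ℕ) : ℤ) * (3 * (p : ℤ) - 1) := by
      push_cast [Nat.cast_sub (show 1 ≤ 3 * p by omega), Nat.cast_sub (show 2 ≤ 3 * p by omega)]
      linear_combination heq
    exact_mod_cast mul_right_cancel₀ (by omega : (3 * (p : ℤ) - 1) ≠ 0) this
  set B := Nat.card (stabilizer G (x, b))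
  have hGB : Nat.card G = 3 * p * ((3 * p - 1) * B) := by
    rw [card_group_eq K x b, K.card_orbit_two hR hbx]
  have hB : ¬ 2 ∣ B := by
    intro h
    obtain ⟨⟨u, hum⟩, hu⟩ := exists_prime_orderOf_dvd_card' (G := stabilizer G (x, b)) 2 h
    rw [Subgroup.orderOf_mk] at hu
    obtain ⟨a, ha⟩ := single_eq (hsingle u hu)
    have h2 : x ∈ fixedBy Ω u := congrArg Prod.fst hum
    have h3 : b ∈ fixedBy Ω u := congrArg Prod.snd hum
    rw [ha, Set.mem_singleton_iff] at h2 h3
    exact hbx (h3.trans h2.symm)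
  have hq0 : 3 * p - 1 ≠ 0 := by omega
  set e := (3 * p - 1).factorization 2
  obtain ⟨T, hT⟩ := D.odd_p
  have hfull : (Nat.card G).factorization 2 = e := by
    rw [hGB, Nat.factorization_mul (a := 3 * p) (b := (3 * p - 1) * B) (by omega)
      (mul_ne_zero hq0 Nat.card_pos.ne'),
      Nat.factorization_mul (a := 3 * p - 1) (b := B) hq0 Nat.card_pos.ne', Finsupp.add_apply,
      Finsupp.add_apply, Nat.factorization_eq_zero_of_not_dvd hB,
      Nat.factorization_eq_zero_of_not_dvd (by omega : ¬ 2 ∣ 3 * p)]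
    omega
  obtain ⟨o, ho⟩ : 2 ^ e ∣ 3 * p - 1 := Nat.ordProj_dvd _ 2
  have hoodd : ¬ 2 ∣ o := by
    rintro ⟨o', rfl⟩
    have := (Nat.prime_two.pow_dvd_iff_le_factorization hq0).mp
      (⟨o', by rw [ho]; ring⟩ : 2 ^ (e + 1) ∣ 3 * p - 1)
    omega
  obtain ⟨m, hm⟩ : 2 ^ e ∣ c := hfull ▸ K.two_part D hone
  have hmodd : Odd m := by
    rw [← Nat.not_even_iff_odd, even_iff_two_dvd]
    rintro ⟨m', rfl⟩
    have := (Nat.prime_two.pow_dvd_iff_le_factorization Nat.card_pos.ne').mp
      (dvd_trans (⟨m', by rw [hm]; ring⟩ : 2 ^ (e + 1) ∣ c) (Subgroup.card_subgroup_dvd_card _))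
    omega
  have hcent : ∀ t : G, orderOf t = 2 → Nat.card (Subgroup.centralizer ({t} : Set G)) = 2 ^ e * m :=
    fun t ht => (card_centralizer_of_isConj (hone t ht)).trans hm
  set I := Finset.univ.filter fun t : G => orderOf t = 2
  have hG : Fintype.card G = 2 ^ e * (I.card * m) := by
    have h := Invol.card_isConj_mul_card_centralizer D.t
    rw [hcent _ D.orderOf_t, Nat.card_congr (Equiv.subtypeEquivRight fun v =>
      (⟨fun h => by obtain ⟨c, rfl⟩ := isConj_iff.mp h; exact Invol.conj_orderOf_two D.orderOf_t c,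
        fun h => hone v h⟩ : IsConj D.t v ↔ orderOf v = 2)),
      Nat.card_eq_fintype_card, Fintype.card_subtype, Nat.card_eq_fintype_card] at h
    rw [← h]; ring
  have hmem : ∀ t ∈ I, ∀ n, ∀ y ∈ rootSet t n, y ∈ K.reg ∧ fx Ω y = 1 := by
    intro t ht n y hy
    have ht2 := (Finset.mem_filter.mp ht).2
    have hc := rootSet_commute hy
    refine ⟨K.mem_reg.mpr (K.regular_of_commute hc (by rw [hsingle t ht2]; norm_num)
      (by rw [hsingle t ht2]; norm_num)), ?_⟩
    obtain ⟨w, hw⟩ := single_eq (hsingle t ht2)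
    have hfix : fixedBy Ω y = {w} := by
      refine Set.eq_singleton_iff_unique_mem.mpr ⟨fix_of_commute hw hc, fun z hz => ?_⟩
      have : z ∈ fixedBy Ω t := by
        show t • z = z
        rw [← mem_rootSet.mp hy]
        exact mem_stabilizer_iff.mp (pow_mem (show y ∈ stabilizer G z from hz) _)
      rwa [hw, Set.mem_singleton_iff] at this
    rw [fx, hfix, Nat.card_coe_set_eq, Set.ncard_singleton]
  obtain ⟨κ, hκ⟩ : m ∣ (rootSet D.t m).card := by
    have := Frobenius.gcd_dvd_roots m D.t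
    rwa [Nat.gcd_eq_left (⟨2 ^ e, by rw [hcent _ D.orderOf_t]; ring⟩ :
      m ∣ Nat.card (Subgroup.centralizer ({D.t} : Set G))), ← card_rootSet] at this
  have hκodd : Odd κ := by
    have h := card_roots_one_odd D.t hmodd
    rw [← card_rootSet_eq D.t D.orderOf_t hmodd, hκ] at h
    exact (Nat.odd_mul.mp h).2
  have hK1 : ∀ t ∈ I, (rootSet t m).card = m * κ := by
    intro t ht
    obtain ⟨d, rfl⟩ := isConj_iff.mp (hone t (Finset.mem_filter.mp ht).2)
    rw [← hκ, card_rootSet, card_rootSet, Frobenius.roots_conj]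
  have hm0 : 0 < m := hmodd.pos
  have hM : 3 * p * o ≤ I.card * m := by
    have h1 : 2 ^ e * (3 * p * o) ≤ 2 ^ e * (I.card * m) := by
      rw [← hG, ← Nat.card_eq_fintype_card, hGB, ho,
        show 3 * p * (2 ^ e * o * B) = 2 ^ e * (3 * p * o) * B by ring]
      exact Nat.le_mul_of_pos_right _ Nat.card_pos
    exact Nat.le_of_mul_le_mul_left h1 (by positivity)
  -- the bound
  have hbound : ∀ Λ : ℕ, (∃ E : Finset G, E ⊆ K.reg ∧ (∀ g ∈ E, fx Ω g = 1) ∧
      I.card * (Λ * m) ≤ E.card) → Λ * o ≤ 4 := by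
    rintro Λ ⟨E, hE, hE1, hcard⟩
    by_contra hlt
    have h := K.sum_bound hR hE hE1
    rw [hG] at h
    have hp' : (7 : ℤ) ≤ p := by exact_mod_cast h7
    set M : ℤ := ((I.card : ℤ) * m)
    have hc' : (Λ : ℤ) * M ≤ E.card := by
      have h' : ((I.card * (Λ * m) : ℕ) : ℤ) ≤ E.card := by exact_mod_cast hcard
      push_cast at h'
      linarith
    have hM' : 3 * (p : ℤ) * o ≤ M := by
      have h' : ((3 * p * o : ℕ) : ℤ) ≤ ((I.card * m : ℕ) : ℤ) := by exact_mod_cast hM
      push_cast at h'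
      exact h'
    have hqo : (2 : ℤ) ^ e * o = 3 * p - 1 := by
      have h' : ((3 * p - 1 : ℕ) : ℤ) = ((2 ^ e * o : ℕ) : ℤ) := by exact_mod_cast ho
      push_cast [Nat.cast_sub (show 1 ≤ 3 * p by omega)] at h'
      exact h'.symm
    have ho0 : (0 : ℤ) ≤ o := Int.natCast_nonneg o
    have hM0 : (0 : ℤ) < M := by
      have : 0 < o := Nat.pos_of_ne_zero fun h => hoodd (h ▸ dvd_zero 2)
      have : (0 : ℤ) < 3 * p * o := by positivity
      linarith
    have hL : (5 : ℤ) ≤ Λ * o := by
      have : 5 ≤ Λ * o := by omega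
      exact_mod_cast this
    push_cast at h
    have a1 : (p : ℤ) * (6 * p - 6) * (5 * M) ≤ (p : ℤ) * (6 * p - 6) * ((E.card : ℤ) * o) := by
      refine mul_le_mul_of_nonneg_left ?_ (mul_nonneg (by linarith) (by linarith))
      calc 5 * M ≤ (Λ * o) * M := mul_le_mul_of_nonneg_right hL hM0.le
        _ = (Λ * M) * o := by ring
        _ ≤ (E.card : ℤ) * o := mul_le_mul_of_nonneg_right hc' ho0
    have a2 := mul_le_mul_of_nonneg_right h ho0
    have hG' : (8 * (p : ℤ) - 6) * (2 ^ e * M) * o = (8 * (p : ℤ) - 6) * (3 * p - 1) * M := by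
      rw [← hqo]; ring
    have a3 : 3 * (2 * (p : ℤ) * (3 * p - 2) * (3 * p - 3) * o) ≤
        2 * (3 * p - 2) * (3 * p - 3) * M := by
      have h' : 0 ≤ 2 * (3 * (p : ℤ) - 2) * (3 * p - 3) :=
        mul_nonneg (by linarith) (by linarith)
      have := mul_le_mul_of_nonneg_left hM' h'
      linarith
    have a4 : (0 : ℤ) < M * (6 * p - 10) := mul_pos hM0 (by linarith)
    linarith
  have hK1set : ∀ Λ : ℕ, Λ = κ → ∃ E : Finset G, E ⊆ K.reg ∧ (∀ g ∈ E, fx Ω g = 1) ∧
      I.card * (Λ * m) ≤ E.card := by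
    rintro Λ rfl
    refine ⟨I.biUnion fun t => rootSet t m, fun y hy => ?_, fun y hy => ?_, ?_⟩
    · obtain ⟨t, ht, hy⟩ := Finset.mem_biUnion.mp hy; exact (hmem t ht m y hy).1
    · obtain ⟨t, ht, hy⟩ := Finset.mem_biUnion.mp hy; exact (hmem t ht m y hy).2
    · rw [Finset.card_biUnion fun t _ u _ htu => Finset.disjoint_left.mpr fun y h h' =>
        htu ((mem_rootSet.mp h).symm.trans (mem_rootSet.mp h')), Finset.sum_congr rfl hK1,
        Finset.sum_const, smul_eq_mul, mul_comm Λ m]
  have hκo := hbound κ (hK1set κ rfl)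
  have hκ0 := hκodd.pos
  have ho1 : o = 1 := by
    have ho4 : o ≤ 4 := le_trans (Nat.le_mul_of_pos_left o hκ0) hκo
    have h3 : o ≠ 3 := fun h => by
      have : 3 ∣ 3 * p - 1 := ⟨2 ^ e, by rw [ho, h]; ring⟩
      omega
    omega
  subst ho1
  rw [mul_one] at ho hκo
  have hqe : 3 * p = 2 ^ e + 1 := by omega
  -- the order of the group
  have hnval : 2 * n = 2 ^ e * (m * m) * (3 * p - 2) := by
    have h := he
    rw [show 3 * p - 1 = 2 ^ e by omega, hm] at h
    refine Nat.eq_of_mul_eq_mul_right (show 0 < 2 ^ e by positivity) ?_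
    rw [← h]; ring
  have hm3 : 3 ∣ m := by
    have h : 3 * B = (m * m) * (3 * p - 2) := by
      have h1 := hGB
      rw [K.card_G, show 2 * p * Nat.card (Sylow p G) = p * (2 * n) by ring, hnval,
        show 3 * p - 1 = 2 ^ e by omega] at h1
      refine Nat.eq_of_mul_eq_mul_left (show 0 < p * 2 ^ e by
        have := K.prime.pos; positivity) ?_
      calc p * 2 ^ e * (3 * B) = 3 * p * (2 ^ e * B) := by ring
        _ = p * (2 ^ e * (m * m) * (3 * p - 2)) := h1.symm
        _ = p * 2 ^ e * (m * m * (3 * p - 2)) := by ring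
    have h2 : 3 ∣ m * m := by
      refine Nat.Coprime.dvd_of_dvd_mul_right ?_ ⟨B, h.symm⟩
      exact (Nat.prime_three.coprime_iff_not_dvd).mpr (by omega)
    rcases Nat.prime_three.dvd_mul.mp h2 with h | h <;> exact h
  have hlarge : p ≤ m + 1 := by
    have hn1 : n % p = 1 := by
      have h1 : n ≡ 1 [MOD p] := card_sylow_modEq_one p G
      rw [Nat.ModEq, Nat.mod_eq_of_lt (show 1 < p by omega)] at h1
      exact h1
    obtain ⟨j, hj⟩ : ∃ j : ℤ, (n : ℤ) - 1 = p * j := by
      refine ⟨(n / p : ℕ), ?_⟩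
      have := Nat.div_add_mod n p
      rw [hn1] at this
      have h' : ((p * (n / p) + 1 : ℕ) : ℤ) = n := by exact_mod_cast this
      push_cast at h' ⊢; linarith
    have h2 : (2 : ℤ) * n = (3 * p - 1) * (m * m) * (3 * p - 2) := by
      have h' : ((2 * n : ℕ) : ℤ) = ((2 ^ e * (m * m) * (3 * p - 2) : ℕ) : ℤ) := by exact_mod_cast hnval
      have hqz : (2 : ℤ) ^ e = 3 * p - 1 := by
        have : ((2 ^ e + 1 : ℕ) : ℤ) = ((3 * p : ℕ) : ℤ) := by exact_mod_cast hqe.symm
        push_cast at this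
        linarith
      push_cast [Nat.cast_sub (show 2 ≤ 3 * p by omega)] at h'
      rw [hqz] at h'
      exact h'
    have hd : (p : ℤ) ∣ 2 * (((m : ℤ) - 1) * (m + 1)) :=
      ⟨2 * j - (9 * (p : ℤ) - 9) * (m * m), by linear_combination -h2 + 2 * hj⟩
    have hpI : Prime (p : ℤ) := Nat.prime_iff_prime_int.mp K.prime
    have hm3' : 3 ≤ m := Nat.le_of_dvd hm0 hm3
    rcases hpI.dvd_or_dvd hd with h | h
    · have := Int.le_of_dvd (by norm_num) h; omega
    · rcases hpI.dvd_or_dvd h with h | h <;>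
        have := Int.le_of_dvd (by omega) h <;> omega
  have hκne : κ ≠ 1 := by
    rintro rfl
    have := kappa_one D.orderOf_t (hsingle _ D.orderOf_t) hmodd
      (by rw [K.card_omega]; omega) hfull (hcent _ D.orderOf_t) hsingle (by rw [hκ, mul_one])
    subst this
    exact absurd (Nat.le_of_dvd one_pos hm3) (by norm_num)
  refine ⟨e, m, hone', hsingle, hqe, hfull, hcent, fun g hg => ?_, hlarge⟩
  -- an element of order four gives too many elements
  have hg2 : orderOf (g * g) = 2 := by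
    rw [← pow_two, orderOf_pow_of_dvd two_ne_zero (by rw [hg]; norm_num), hg]
  have he1 : 1 ≤ e := by
    rcases Nat.eq_zero_or_pos e with h | h
    · rw [h, pow_zero] at hqe; omega
    · exact h
  have hK2 : ∀ t ∈ I, 2 * m ≤ (rootSet t (2 * m)).card := by
    intro t ht
    have ht2 := (Finset.mem_filter.mp ht).2
    refine le_card_rootSet ?_ ?_
    · rw [hcent t ht2, show 2 ^ e = 2 * 2 ^ (e - 1) by rw [← pow_succ', show e - 1 + 1 = e by omega]]
      exact ⟨2 ^ (e - 1), by ring⟩
    · obtain ⟨d, hd⟩ := isConj_iff.mp (hone' _ t hg2 ht2)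
      refine ⟨d * g * d⁻¹, mem_rootSet.mpr ?_⟩
      rw [pow_mul, pow_two, show d * g * d⁻¹ * (d * g * d⁻¹) = d * (g * g) * d⁻¹ by group, hd]
      obtain ⟨k, hk⟩ := hmodd
      rw [hk, pow_succ, pow_mul, pow_two, Invol.mul_self_of_orderOf_two ht2, one_pow, one_mul]
  have hd12 : ∀ t ∈ I, ∀ u ∈ I, Disjoint (rootSet t m) (rootSet u (2 * m)) := fun t ht u hu =>
    Finset.disjoint_left.mpr fun y h h' => by
      have e2 := mem_rootSet.mp h'
      rw [mul_comm, pow_mul, mem_rootSet.mp h, pow_two,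
        Invol.mul_self_of_orderOf_two (Finset.mem_filter.mp ht).2] at e2
      exact Invol.ne_one_of_orderOf_two (Finset.mem_filter.mp hu).2 e2.symm
  have h5 := hbound (κ + 2) ⟨(I.biUnion fun t => rootSet t m) ∪ I.biUnion fun t => rootSet t (2 * m),
    fun y hy => by
      rcases Finset.mem_union.mp hy with h | h <;> obtain ⟨t, ht, hy⟩ := Finset.mem_biUnion.mp h <;>
        exact (hmem t ht _ y hy).1,
    fun y hy => by
      rcases Finset.mem_union.mp hy with h | h <;> obtain ⟨t, ht, hy⟩ := Finset.mem_biUnion.mp h <;>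
        exact (hmem t ht _ y hy).2, by
      rw [Finset.card_union_of_disjoint (Finset.disjoint_left.mpr fun y hy hy' => by
          obtain ⟨t, ht, hy⟩ := Finset.mem_biUnion.mp hy
          obtain ⟨u, hu, hy'⟩ := Finset.mem_biUnion.mp hy'
          exact Finset.disjoint_left.mp (hd12 t ht u hu) hy hy'),
        Finset.card_biUnion (fun t _ u _ htu => Finset.disjoint_left.mpr fun y h h' =>
          htu ((mem_rootSet.mp h).symm.trans (mem_rootSet.mp h'))),
        Finset.card_biUnion (fun t _ u _ htu => Finset.disjoint_left.mpr fun y h h' =>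
          htu ((mem_rootSet.mp h).symm.trans (mem_rootSet.mp h'))), Finset.sum_congr rfl hK1,
        Finset.sum_const, smul_eq_mul, add_mul, mul_add, mul_comm κ m]
      refine Nat.add_le_add_left ?_ _
      rw [← smul_eq_mul]
      exact Finset.card_nsmul_le_sum _ _ _ hK2⟩
  rw [mul_one] at h5
  obtain ⟨k, hk⟩ := hκodd
  omega

end Ctx

end CfsgLib.DegreeThreeP
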