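import Cfsg.Agent.Lib.DegreeThreeP.TwoTrans
import Cfsg.Agent.Lib.Frobenius.Roots

/-!
# Degree `3 p`, two orbits on pairs: general facts
-/

set_option autoImplicit false
set_option linter.unusedSectionVars false
set_option linter.style.haveILetI false

namespace CfsgLib.DegreeThreeP

open Cfsg CfsgLib MulAction
open scoped _root_.Classical

universe u v

variable {G : Type u} [Group G] [Fintype G] [IsSimpleGroup G] {Ω : Type v} [Fintype Ω]
  [MulAction G Ω] [FaithfulSMul G Ω] [IsPretransitive G Ω] {p : ℕ} [Fact p.Prime]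

theorem rel_all (hR : rank G Ω = 2) {x b a a' : Ω} (hb : b ≠ x) (ha : a' ≠ a) : Rel G x b a a' := by
  rw [rel_iff_mk]
  by_contra hne
  set mk : Ω × Ω → orbitRel.Quotient G (Ω × Ω) := Quotient.mk'' with hmk
  have hdiag : ∀ (a a' : Ω), a' ≠ a → mk (a, a') ≠ mk (x, x) := by
    intro a a' h e
    obtain ⟨g, h1, h2⟩ := (rel_iff_mk (G := G)).mpr e
    exact h (h2.symm.trans h1)
  haveI := Fintype.ofFinite (orbitRel.Quotient G (Ω × Ω))
  have h3 : ({mk (x, x), mk (x, b), mk (a, a')} : Finset _).card = 3 :=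
    Finset.card_eq_three.mpr ⟨_, _, _, (hdiag x b hb).symm, (hdiag a a' ha).symm, Ne.symm hne, rfl⟩
  have := Finset.card_le_univ ({mk (x, x), mk (x, b), mk (a, a')} : Finset _)
  rw [h3, ← Nat.card_eq_fintype_card] at this
  rw [rank] at hR
  omega

namespace Ctx

variable (K : Ctx G Ω p)

include K

theorem card_orbit_two (hR : rank G Ω = 2) {x b : Ω} (hb : b ≠ x) :
    Nat.card (orbit (stabilizer G x) b) = 3 * p - 1 := by
  rw [orbit_stabilizer_eq, show {y | Rel G x b x y} = ({x}ᶜ : Set Ω) from ?_, Nat.card_coe_set_eq,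
    Set.ncard_compl, Set.ncard_singleton, Nat.card_eq_fintype_card, K.card_omega]
  ext y
  refine ⟨?_, fun h => rel_all hR hb h⟩
  rintro ⟨g, h1, h2⟩ rfl
  exact hb (smul_left_cancel g (h2.trans h1.symm))

/-- When all involutions are conjugate, their centralisers have the full power of two. -/
theorem two_part (D : PMinusTwo.Data G p) (hone : OneClass D) :
    2 ^ (Nat.card G).factorization 2 ∣ Nat.card (Subgroup.centralizer ({D.t} : Set G)) := by
  obtain ⟨z, hz2, P, -, hzc⟩ := Cfsg.Agent.S0446.result (G := G)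
    (even_iff_two_dvd.mpr (D.orderOf_t ▸ orderOf_dvd_natCard D.t))
  rw [← card_centralizer_of_isConj (hone z hz2), ← P.card_eq_multiplicity]
  exact Subgroup.card_dvd_of_le fun y hy => Subgroup.mem_centralizer_singleton_iff.mpr (hzc y hy)

/-- An element commuting with an involution with at most three fixed points is `p`-regular. -/
theorem regular_of_commute {y t : G} (h : Commute y t) (h3 : fx Ω t ≤ 3) (h0 : 0 < fx Ω t) :
    ¬ p ∣ orderOf y := by
  intro hd
  set v := y ^ (orderOf y / p)
  have hv : orderOf v = p := orderOf_pow_orderOf_div (orderOf_pos y).ne' hd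
  have hvC : v ∈ Subgroup.centralizer ({t} : Set G) :=
    Subgroup.mem_centralizer_singleton_iff.mpr (h.pow_left _).eq
  let A : SubMulAction (Subgroup.zpowers v) Ω :=
    { carrier := fixedBy Ω t
      smul_mem' := fun s _ ha => centralizer_smul_mem (Subgroup.zpowers_le.mpr hvC s.2) ha }
  have hA : Nat.card A = fx Ω t := rfl
  have hmod := (IsPGroup.of_card (n := 1) (G := Subgroup.zpowers v)
    (by rw [Nat.card_zpowers, hv, pow_one])).card_modEq_card_fixedPoints A
  haveI : IsEmpty (fixedPoints (Subgroup.zpowers v) A) := ⟨fun ⟨z, hz⟩ =>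
    K.free hv (z : Ω) (congrArg Subtype.val (hz ⟨v, Subgroup.mem_zpowers v⟩))⟩
  rw [hA, Nat.card_of_isEmpty (α := fixedPoints (Subgroup.zpowers v) A)] at hmod
  have := Nat.le_of_dvd h0 (Nat.modEq_zero_iff_dvd.mp hmod)
  have := K.five_le
  omega

end Ctx

/-- The elements with `y ^ n = t`. -/
noncomputable def rootSet (t : G) (n : ℕ) : Finset G := Finset.univ.filter fun y => y ^ n = t

theorem mem_rootSet {t y : G} {n : ℕ} : y ∈ rootSet t n ↔ y ^ n = t := by simp [rootSet]

theorem rootSet_commute {t y : G} {n : ℕ} (h : y ∈ rootSet t n) : Commute y t :=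
  mem_rootSet.mp h ▸ Commute.self_pow y n

theorem card_rootSet (t : G) (n : ℕ) : (rootSet t n).card = Frobenius.roots t n := by
  rw [Frobenius.roots, Nat.card_eq_fintype_card, Fintype.card_subtype]; rfl

theorem le_card_rootSet {t : G} {n : ℕ} (hn : n ∣ Nat.card (Subgroup.centralizer ({t} : Set G)))
    (hne : (rootSet t n).Nonempty) : n ≤ (rootSet t n).card := by
  refine Nat.le_of_dvd hne.card_pos ?_
  have := Frobenius.gcd_dvd_roots n t
  rwa [Nat.gcd_eq_left hn, ← card_rootSet] at this

end CfsgLib.DegreeThreeP
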