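import Cfsg.Agent.Lib.DegreeThreeP.TwoFix

/-!
# Degree `3 p`, rank three: the centraliser of an involution
-/

set_option autoImplicit false
set_option linter.unusedSectionVars false
set_option linter.style.haveILetI false

namespace CfsgLib.DegreeThreeP

open Cfsg CfsgLib MulAction
open scoped _root_.Classical

variable {G : Type*} [Group G] [Fintype G] [IsSimpleGroup G] {Ω : Type*} [Fintype Ω]
  [MulAction G Ω] [FaithfulSMul G Ω] [IsPretransitive G Ω] {p : ℕ} [Fact p.Prime]

theorem centralizer_smul_mem {t g : G} {z : Ω} (hg : g ∈ Subgroup.centralizer ({t} : Set G))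
    (hz : z ∈ fixedBy Ω t) : g • z ∈ fixedBy Ω t := by
  show t • g • z = g • z
  rw [← mul_smul, ← Subgroup.mem_centralizer_singleton_iff.mp hg, mul_smul, show t • z = z from hz]

namespace Three

variable {x₀ b₀ : Ω} (H : Three G Ω p x₀ b₀)

include H

theorem ncard_fix {u : G} (hu : orderOf u = 2) : (fixedBy Ω u).ncard = 3 := by
  rw [← Nat.card_coe_set_eq]; exact H.three u hu

/-- Commuting involutions with two common fixed points fix the same points. -/
theorem same_fix {u w : G} (hu : orderOf u = 2) (hw : orderOf w = 2) (h : Commute u w) {a a' : Ω}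
    (hne : a' ≠ a) (ha : a ∈ fixedBy Ω u) (ha' : a' ∈ fixedBy Ω u) (hb : a ∈ fixedBy Ω w)
    (hb' : a' ∈ fixedBy Ω w) : fixedBy Ω u = fixedBy Ω w := by
  refine Set.eq_of_subset_of_ncard_le (fun z hz => ?_) (by rw [H.ncard_fix hu, H.ncard_fix hw])
    (Set.toFinite _)
  show w • z = z
  by_contra hzn
  have hwz : w • z ∈ fixedBy Ω u :=
    centralizer_smul_mem (Subgroup.mem_centralizer_singleton_iff.mpr h.symm.eq) hz
  have e : ∀ y : Ω, w • y = y → z ≠ y ∧ w • z ≠ y := fun y hy =>
    ⟨fun e => hzn (e ▸ hy), fun e => hzn (by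
      have e2 : w • z = w • y := e.trans hy.symm
      rw [smul_left_cancel w e2]; exact hy)⟩
  have hsub : ({a, a', z, w • z} : Set Ω) ⊆ fixedBy Ω u := by
    simp only [Set.insert_subset_iff, Set.singleton_subset_iff]
    exact ⟨ha, ha', hz, hwz⟩
  have := Set.ncard_le_ncard hsub (Set.toFinite _)
  rw [H.ncard_fix hu, Set.ncard_insert_of_notMem, Set.ncard_insert_of_notMem, Set.ncard_pair] at this
  · omega
  · exact Ne.symm hzn
  · simp only [Set.mem_insert_iff, Set.mem_singleton_iff, not_or]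
    exact ⟨(e a' hb').1.symm, (e a' hb').2.symm⟩
  · simp only [Set.mem_insert_iff, Set.mem_singleton_iff, not_or]
    exact ⟨Ne.symm hne, (e a hb).1.symm, (e a hb).2.symm⟩

/-- The stabiliser of two points fixed by an involution has order exactly divisible by four. -/
theorem four_pair {u : G} {a a' : Ω} (hu : orderOf u = 2) (ha : u • a = a) (ha' : u • a' = a')
    (hne : a' ≠ a) :
    4 ∣ Nat.card (stabilizer G (a, a')) ∧ ¬ 8 ∣ Nat.card (stabilizer G (a, a')) := by
  obtain ⟨g, rfl, rfl⟩ := H.edge u a a' hu ha ha' hne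
  have h : Nat.card (stabilizer G (g • x₀, g • b₀)) = Nat.card (stabilizer G (x₀, b₀)) := by
    rw [show (g • x₀, g • b₀) = g • (x₀, b₀) from rfl, stabilizer_smul_eq_stabilizer_map_conj,
      Subgroup.card_map_of_injective (MulAut.conj g).injective]
  rw [h]
  exact H.four

end Three

/-- A Sylow `2`-subgroup centralising `t`, and the three points fixed by `t`. -/
structure Frame (G : Type*) [Group G] (Ω : Type*) [MulAction G Ω] (t : G) where
  S : Subgroup G
  x : Ω
  y : Ω
  y' : Ω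
  ht : orderOf t = 2
  tS : t ∈ S
  cardS : Nat.card S = 8
  le_cent : S ≤ Subgroup.centralizer ({t} : Set G)
  yx : y ≠ x
  yx' : y' ≠ x
  yy' : y' ≠ y
  fixes : fixedBy Ω t = {x, y, y'}
  Sx : ∀ s ∈ S, s • x = x
  swap : ∀ s ∈ S, s • y ≠ y → s • y = y' ∧ s • y' = y
  cardR : Nat.card (S ⊓ stabilizer G y : Subgroup G) = 4
  R_sq : ∀ r ∈ S, r • y = y → r * r = 1

theorem Three.exists_frame {x₀ b₀ : Ω} (H : Three G Ω p x₀ b₀) {t : G} (ht : orderOf t = 2) :
    Nonempty (Frame G Ω t) := by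
  haveI : Fact (Nat.Prime 2) := ⟨Nat.prime_two⟩
  obtain ⟨z, hz2, P, hzP, hzc⟩ := Cfsg.Agent.S0446.result (G := G)
    (even_iff_two_dvd.mpr (ht ▸ orderOf_dvd_natCard t))
  obtain ⟨c, hc⟩ := isConj_iff.mp (H.one z t hz2 ht)
  set S : Subgroup G := (P : Subgroup G).map (MulAut.conj c).toMonoidHom with hS
  have hP : Nat.card P = 8 := by
    rw [P.card_eq_multiplicity]
    have h1 := (Nat.prime_two.pow_dvd_iff_le_factorization (k := 3) Nat.card_pos.ne').mp H.eight.1
    have h2 : ¬ 4 ≤ (Nat.card G).factorization 2 := fun h => H.eight.2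
      ((Nat.prime_two.pow_dvd_iff_le_factorization (k := 4) Nat.card_pos.ne').mpr h)
    rw [show (Nat.card G).factorization 2 = 3 by omega]
    rfl
  have hS8 : Nat.card S = 8 := by
    rw [hS, Subgroup.card_map_of_injective (MulAut.conj c).injective]; exact hP
  have htS : t ∈ S := ⟨z, hzP, by simpa using hc⟩
  have hle : S ≤ Subgroup.centralizer ({t} : Set G) := by
    rintro s ⟨w, hw, rfl⟩
    refine Subgroup.mem_centralizer_singleton_iff.mpr ?_
    rw [← hc]
    simp only [MulEquiv.coe_toMonoidHom, MulAut.conj_apply]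
    calc c * w * c⁻¹ * (c * z * c⁻¹) = c * (w * z) * c⁻¹ := by group
      _ = c * z * c⁻¹ * (c * w * c⁻¹) := by rw [hzc w hw]; group
  have hp2 : IsPGroup 2 S := IsPGroup.of_card (n := 3) (by rw [hS8]; rfl)
  let A : SubMulAction S Ω :=
    { carrier := fixedBy Ω t
      smul_mem' := fun s _ hz => centralizer_smul_mem (hle s.2) hz }
  have hA : Nat.card A = 3 := H.three t ht
  have hmod := hp2.card_modEq_card_fixedPoints A
  obtain ⟨⟨⟨x, hx⟩, hxS⟩⟩ : Nonempty (fixedPoints S A) := by
    rw [← not_isEmpty_iff]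
    intro h
    rw [hA, Nat.card_of_isEmpty (α := fixedPoints S A)] at hmod
    exact absurd hmod (by decide)
  have hSx : ∀ s ∈ S, s • x = x := fun s hs => congrArg Subtype.val (hxS ⟨s, hs⟩)
  obtain ⟨y, y', hyy, hfix⟩ : ∃ y y', y' ≠ y ∧ fixedBy Ω t \ {x} = {y, y'} := by
    have h2 : (fixedBy Ω t \ {x}).ncard = 2 := by
      rw [Set.ncard_diff (s := {x}) (t := fixedBy Ω t) (Set.singleton_subset_iff.mpr hx)
        (Set.toFinite _), Set.ncard_singleton, H.ncard_fix ht]
    obtain ⟨y, y', h, h'⟩ := Set.ncard_eq_two.mp h2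
    exact ⟨y, y', h.symm, h'⟩
  have hy : y ∈ fixedBy Ω t \ {x} := by rw [hfix]; exact Set.mem_insert _ _
  have hy' : y' ∈ fixedBy Ω t \ {x} := by rw [hfix]; exact Set.mem_insert_of_mem _ rfl
  have hyx : y ≠ x := hy.2
  have hyx' : y' ≠ x := hy'.2
  have hfixes : fixedBy Ω t = {x, y, y'} := by
    rw [← hfix, ← Set.singleton_union, Set.union_diff_cancel (s := {x}) (t := fixedBy Ω t) (Set.singleton_subset_iff.mpr hx)]
  have hmem : ∀ s ∈ S, ∀ w, (w = y ∨ w = y') → (s • w = y ∨ s • w = y') := by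
    intro s hs w hw
    have hwt : w ∈ fixedBy Ω t := by rcases hw with rfl | rfl; exacts [hy.1, hy'.1]
    have hwx : w ≠ x := by rcases hw with rfl | rfl <;> assumption
    have h : s • w ∈ fixedBy Ω t \ {x} :=
      ⟨centralizer_smul_mem (hle hs) hwt, fun e => hwx (smul_left_cancel s
        ((show s • w = x from e).trans (hSx s hs).symm))⟩
    rw [hfix] at h
    exact h
  have hswap : ∀ s ∈ S, s • y ≠ y → s • y = y' ∧ s • y' = y := by
    intro s hs hne
    have h1 := (hmem s hs y (Or.inl rfl)).resolve_left hne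
    refine ⟨h1, (hmem s hs y' (Or.inr rfl)).resolve_right fun e => ?_⟩
    exact hyy (smul_left_cancel s (e.trans h1.symm))
  set R : Subgroup G := S ⊓ stabilizer G y
  have hRS : Nat.card R ∣ 8 := hS8 ▸ Subgroup.card_dvd_of_le inf_le_left
  have hRno : ¬ 8 ∣ Nat.card R := by
    intro h
    refine (H.four_pair ht hx hy.1 hyx).2 (h.trans (Subgroup.card_dvd_of_le fun r hr => ?_))
    exact Prod.ext (hSx r hr.1) hr.2
  have hR4 : Nat.card R = 4 := by
    have hge : 8 ≤ Nat.card R * 2 := by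
      have h := Nat.card_congr (orbitProdStabilizerEquivGroup S y)
      rw [Nat.card_prod, hS8] at h
      have ho : Nat.card (orbit S y) ≤ 2 := by
        rw [Nat.card_coe_set_eq, ← Set.ncard_pair hyy.symm]
        refine Set.ncard_le_ncard ?_ (Set.toFinite _)
        rintro _ ⟨s, rfl⟩
        exact hmem s s.2 y (Or.inl rfl)
      have e : Nat.card (stabilizer S y) = Nat.card R := Nat.card_congr
        { toFun := fun s => ⟨(s : S), (s : S).2, s.2⟩
          invFun := fun r => ⟨⟨r, r.2.1⟩, r.2.2⟩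
          left_inv := fun _ => rfl
          right_inv := fun _ => rfl }
      rw [← h, e, mul_comm (Nat.card R) 2]
      exact Nat.mul_le_mul_right _ ho
    have : Nat.card R ≤ 8 := Nat.le_of_dvd (by norm_num) hRS
    interval_cases hc4 : Nat.card R <;> first | rfl | (exfalso; omega)
  refine ⟨⟨S, x, y, y', ht, htS, hS8, hle, hyx, hyx', hyy, hfixes, hSx, hswap, hR4, ?_⟩⟩
  intro r hr hry
  have h4 : orderOf r ∣ 4 := by
    rw [← hR4]; exact Subgroup.orderOf_dvd_natCard R ⟨hr, hry⟩
  rcases (Nat.dvd_prime_pow Nat.prime_two (i := orderOf r) (m := 2)).mp h4 with ⟨i, hi, he⟩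
  interval_cases i
  · rw [orderOf_eq_one_iff.mp (he.trans (pow_zero 2)), one_mul]
  · rw [← pow_two, ← pow_orderOf_eq_one r, he]
    rfl
  · exact absurd (H.no_four r x y he (hSx r hr) hry) hyx

namespace Frame

variable {t : G} (f : Frame G Ω t)

theorem tt (f : Frame G Ω t) : t * t = 1 := Invol.mul_self_of_orderOf_two f.ht

theorem mem_fix {z : Ω} : z ∈ fixedBy Ω t ↔ z = f.x ∨ z = f.y ∨ z = f.y' := by
  rw [f.fixes]; simp

theorem x_fix : f.x ∈ fixedBy Ω t := f.mem_fix.mpr (Or.inl rfl)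
theorem y_fix : f.y ∈ fixedBy Ω t := f.mem_fix.mpr (Or.inr (Or.inl rfl))
theorem y'_fix : f.y' ∈ fixedBy Ω t := f.mem_fix.mpr (Or.inr (Or.inr rfl))

theorem S_perm {s : G} (hs : s ∈ f.S) {z : Ω} (hz : z ∈ fixedBy Ω t) : s • z ∈ fixedBy Ω t :=
  centralizer_smul_mem (f.le_cent hs) hz

theorem R_comm {r r' : G} (hr : r ∈ f.S) (hr' : r' ∈ f.S) (h : r • f.y = f.y) (h' : r' • f.y = f.y) :
    Commute r r' := by
  have e := f.R_sq (r * r') (mul_mem hr hr') (by rw [mul_smul, h', h])
  have e1 := inv_eq_of_mul_eq_one_right (f.R_sq r hr h)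
  have e2 := inv_eq_of_mul_eq_one_right (f.R_sq r' hr' h')
  have e3 := inv_eq_of_mul_eq_one_right e
  rw [mul_inv_rev, e1, e2] at e3
  exact e3.symm

variable {x₀ b₀ : Ω} (H : Three G Ω p x₀ b₀)

include f H

/-- An involution of `S` fixing `y` fixes the same points as `t`. -/
theorem R_fix {r : G} (hr : r ∈ f.S) (hr2 : orderOf r = 2) (h : r • f.y = f.y) :
    fixedBy Ω r = fixedBy Ω t :=
  H.same_fix hr2 f.ht (Subgroup.mem_centralizer_singleton_iff.mp (f.le_cent hr)) f.yx (f.Sx r hr) h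
    f.x_fix f.y_fix

/-- An involution of `S` moving `y` does not centralise the fixers of `y`. -/
theorem not_central {j : G} (hj : j ∈ f.S) (hj2 : orderOf j = 2) (hjy : j • f.y ≠ f.y) :
    ∃ r ∈ f.S, r • f.y = f.y ∧ ¬ Commute j r := by
  by_contra hall
  push Not at hall
  obtain ⟨a, ha, hax⟩ : ∃ a ∈ fixedBy Ω j, a ≠ f.x :=
    Set.exists_ne_of_one_lt_ncard (by rw [H.ncard_fix hj2]; norm_num) f.x
  have hat : a ∉ fixedBy Ω t := fun h => by
    rcases f.mem_fix.mp h with rfl | rfl | rfl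
    · exact hax rfl
    · exact hjy ha
    · exact f.yy' ((show j • f.y' = f.y' from ha).symm.trans (f.swap j hj hjy).2)
  -- the involutions of `S` fixing `y` permute the two other fixed points of `j` without fixed points
  set R : Subgroup G := f.S ⊓ stabilizer G f.y
  have hmove : ∀ r ∈ R, r ≠ 1 → r • a ≠ a := fun r hr h1 e => by
    have hr2 := Invol.orderOf_two_of_mul_self (f.R_sq r hr.1 hr.2) h1
    exact hat (f.R_fix H hr.1 hr2 hr.2 ▸ e)
  have hmap : ∀ r ∈ R, r • a ∈ fixedBy Ω j \ {f.x} := fun r hr =>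
    ⟨centralizer_smul_mem (Subgroup.mem_centralizer_singleton_iff.mpr (hall r hr.1 hr.2).symm.eq) ha,
      fun e => hax (smul_left_cancel r ((show r • a = f.x from e).trans (f.Sx r hr.1).symm))⟩
  have hinj : Function.Injective (fun r : R =>
      (⟨(r : G) • a, hmap r r.2⟩ : (fixedBy Ω j \ {f.x} : Set Ω))) := by
    intro r r' h
    have h' : (r : G) • a = (r' : G) • a := congrArg Subtype.val h
    by_contra hne
    refine hmove ((r : G)⁻¹ * r') (mul_mem (inv_mem r.2) r'.2)
      (fun e => hne (Subtype.ext (inv_mul_eq_one.mp e))) ?_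
    rw [mul_smul, ← h', inv_smul_smul]
  have := Nat.card_le_card_of_injective _ hinj
  rw [f.cardR, Nat.card_coe_set_eq, Set.ncard_diff (s := {f.x}) (t := fixedBy Ω j) (Set.singleton_subset_iff.mpr (f.Sx j hj))
    (Set.toFinite _), H.ncard_fix hj2, Set.ncard_singleton] at this
  omega

/-- There is an element of order four. -/
theorem exists_order_four : ∃ g : G, orderOf g = 4 := by
  by_contra hn
  push Not at hn
  have h2 : ∀ s ∈ f.S, s * s = 1 := by
    intro s hs
    have h8 : orderOf s ∣ 2 ^ 3 := by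
      have := Subgroup.orderOf_dvd_natCard f.S hs
      rwa [f.cardS] at this
    obtain ⟨i, hi, he⟩ := (Nat.dvd_prime_pow Nat.prime_two).mp h8
    interval_cases i
    · rw [orderOf_eq_one_iff.mp (he.trans (pow_zero 2)), one_mul]
    · rw [← pow_two, ← pow_orderOf_eq_one s, he]
      rfl
    · exact absurd he (hn s)
    · exact absurd (show orderOf (s ^ 2) = 4 by
        rw [orderOf_pow_of_dvd two_ne_zero (by rw [he]; norm_num), he]; rfl) (hn _)
  obtain ⟨j, hj, hjy⟩ : ∃ j ∈ f.S, j • f.y ≠ f.y := by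
    by_contra h
    push Not at h
    have e : f.S ⊓ stabilizer G f.y = f.S := inf_eq_left.mpr fun s hs => h s hs
    have := f.cardR
    rw [e, f.cardS] at this
    omega
  have hj2 : orderOf j = 2 := Invol.orderOf_two_of_mul_self (h2 j hj) fun e => hjy (by rw [e, one_smul])
  obtain ⟨r, hr, -, hnc⟩ := f.not_central H hj hj2 hjy
  refine hnc ?_
  have e := inv_eq_of_mul_eq_one_right (h2 _ (mul_mem hj hr))
  rw [mul_inv_rev, inv_eq_of_mul_eq_one_right (h2 j hj), inv_eq_of_mul_eq_one_right (h2 r hr)] at e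
  exact e.symm

/-- The odd part of the centraliser. -/
theorem exists_core : ∃ O : Subgroup G,
    (∀ g, g ∈ O ↔ g ∈ Subgroup.centralizer ({t} : Set G) ∧ Odd (orderOf g)) ∧
      8 * Nat.card O = Nat.card (Subgroup.centralizer ({t} : Set G)) := by
  haveI : Fact (Nat.Prime 2) := ⟨Nat.prime_two⟩
  set C := Subgroup.centralizer ({t} : Set G)
  let φ : C →* Equiv.Perm (fixedBy Ω t) :=
    { toFun := fun g =>
        { toFun := fun z => ⟨(g : G) • (z : Ω), centralizer_smul_mem g.2 z.2⟩
          invFun := fun z => ⟨(g : G)⁻¹ • (z : Ω), centralizer_smul_mem (inv_mem g.2) z.2⟩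
          left_inv := fun z => Subtype.ext (inv_smul_smul _ _)
          right_inv := fun z => Subtype.ext (smul_inv_smul _ _) }
      map_one' := Equiv.ext fun z => Subtype.ext (one_smul _ _)
      map_mul' := fun a b => Equiv.ext fun z => Subtype.ext (mul_smul _ _ _) }
  set ψ : C →* ℤˣ := Equiv.Perm.sign.comp φ
  obtain ⟨j, hj, hjy⟩ : ∃ j ∈ f.S, j • f.y ≠ f.y := by
    by_contra h
    push Not at h
    have e : f.S ⊓ stabilizer G f.y = f.S := inf_eq_left.mpr fun s hs => h s hs
    have := f.cardR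
    rw [e, f.cardS] at this
    omega
  have hψR : ∀ (s : G) (hs : s ∈ f.S), ψ ⟨s, f.le_cent hs⟩ = 1 ↔ s • f.y = f.y := by
    intro s hs
    refine ⟨fun h => ?_, fun h => ?_⟩
    · by_contra hne
      obtain ⟨e1, e2⟩ := f.swap s hs hne
      have : φ ⟨s, f.le_cent hs⟩ = Equiv.swap ⟨f.y, f.y_fix⟩ ⟨f.y', f.y'_fix⟩ := by
        refine Equiv.ext fun z => Subtype.ext ?_
        show s • (z : Ω) = _
        rcases f.mem_fix.mp z.2 with e | e | e
        · rw [Equiv.swap_apply_of_ne_of_ne (fun h => f.yx ((congrArg Subtype.val h).symm.trans e))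
            (fun h => f.yx' ((congrArg Subtype.val h).symm.trans e)), e, f.Sx s hs]
        · rw [show z = ⟨f.y, f.y_fix⟩ from Subtype.ext e, Equiv.swap_apply_left]; exact e1
        · rw [show z = ⟨f.y', f.y'_fix⟩ from Subtype.ext e, Equiv.swap_apply_right]; exact e2
      have h' : Equiv.Perm.sign (φ ⟨s, f.le_cent hs⟩) = 1 := h
      rw [this, Equiv.Perm.sign_swap (fun e => f.yy' (congrArg Subtype.val e).symm)] at h'
      exact absurd h' (by decide)
    · have : φ ⟨s, f.le_cent hs⟩ = 1 := by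
        refine Equiv.ext fun z => Subtype.ext ?_
        show s • (z : Ω) = z
        rcases f.mem_fix.mp z.2 with e | e | e
        · rw [e, f.Sx s hs]
        · rw [e, h]
        · rw [e]
          have hm := f.S_perm hs f.y'_fix
          rcases f.mem_fix.mp hm with e' | e' | e'
          · exact absurd (smul_left_cancel s (e'.trans (f.Sx s hs).symm)) f.yx'
          · exact absurd (smul_left_cancel s (e'.trans h.symm)) f.yy'
          · exact e'
      show Equiv.Perm.sign (φ _) = 1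
      rw [this, map_one]
  have hcC : ¬ 16 ∣ Nat.card C := fun h =>
    H.eight.2 (h.trans (Subgroup.card_subgroup_dvd_card C))
  obtain ⟨m, hm⟩ : 8 ∣ Nat.card C := f.cardS ▸ Subgroup.card_dvd_of_le f.le_cent
  have hmodd : Odd m := by
    rw [← Nat.not_even_iff_odd, even_iff_two_dvd]
    rintro ⟨d, rfl⟩
    exact hcC ⟨d, by rw [hm]; ring⟩
  have hidx : ψ.ker.index = 2 := by
    rw [Subgroup.index_ker]
    have hsurj : ψ.range = ⊤ := by
      refine top_le_iff.mp fun u _ => ?_
      rcases Int.units_eq_one_or u with rfl | rfl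
      · exact one_mem _
      · refine ⟨⟨j, f.le_cent hj⟩, (Int.units_eq_one_or _).resolve_left fun h => hjy ((hψR j hj).mp h)⟩
    rw [hsurj, Subgroup.card_top, Nat.card_eq_fintype_card, Fintype.card_units_int]
  have hker : Nat.card ψ.ker = 4 * m := by
    have := Subgroup.card_mul_index ψ.ker
    rw [hidx, hm] at this
    omega
  set R : Subgroup G := f.S ⊓ stabilizer G f.y
  have hRC : R ≤ C := inf_le_left.trans f.le_cent
  have hRk : ∀ (r : G) (hr : r ∈ R), (⟨r, hRC hr⟩ : C) ∈ ψ.ker := fun r hr =>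
    (hψR r hr.1).mpr hr.2
  set R₁ : Subgroup ψ.ker := (R.subgroupOf C).subgroupOf ψ.ker
  have hR1 : Nat.card R₁ = 4 := by
    rw [← f.cardR]
    exact Nat.card_congr
      { toFun := fun r => ⟨((r : ψ.ker) : C), r.2⟩
        invFun := fun r => ⟨⟨⟨(r : G), hRC r.2⟩, hRk r r.2⟩, r.2⟩
        left_inv := fun _ => rfl
        right_inv := fun _ => rfl }
  have hfac : (Nat.card ψ.ker).factorization 2 = 2 := by
    rw [hker, Nat.factorization_mul (by norm_num) (Nat.pos_iff_ne_zero.mp (by
      rcases hmodd with ⟨k, rfl⟩; omega)), Finsupp.add_apply,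
      show (4 : ℕ) = 2 ^ 2 from rfl, Nat.prime_two.factorization_pow, Finsupp.single_eq_same,
      Nat.factorization_eq_zero_of_not_dvd (fun h => Nat.not_even_iff_odd.mpr hmodd
        (even_iff_two_dvd.mpr h))]
  obtain ⟨Q, hQ⟩ : ∃ Q : Sylow 2 ψ.ker, (Q : Subgroup ψ.ker) = R₁ :=
    ⟨Sylow.ofCard R₁ (by rw [hR1, hfac]; rfl), Sylow.coe_ofCard _ _⟩
  have hNC : Subgroup.normalizer ((Q : Subgroup ψ.ker) : Set ψ.ker) ≤
      Subgroup.centralizer ((Q : Subgroup ψ.ker) : Set ψ.ker) := by
    intro n hn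
    obtain ⟨a, o, ho, he⟩ := Nat.exists_eq_two_pow_mul_odd (orderOf_pos n).ne'
    have hsq : n * n ∈ Subgroup.centralizer ((Q : Subgroup ψ.ker) : Set ψ.ker) := by
      rw [hQ] at hn ⊢
      refine Subgroup.mem_centralizer_iff.mpr fun r hr => ?_
      -- conjugation fixes `t` and the other two are permuted
      set T : ψ.ker := ⟨⟨t, f.le_cent f.tS⟩, hRk t ⟨f.tS, f.y_fix⟩⟩ with hT
      have hTmem : T ∈ R₁ := ⟨f.tS, f.y_fix⟩
      have hTc : ∀ g : ψ.ker, g * T * g⁻¹ = T := fun g => Subtype.ext (Subtype.ext (by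
        show ((g : C) : G) * t * ((g : C) : G)⁻¹ = t
        rw [Subgroup.mem_centralizer_singleton_iff.mp (g : C).2, mul_inv_cancel_right]))
      have hconj : ∀ g : ψ.ker, g ∈ Subgroup.normalizer (R₁ : Set ψ.ker) → ∀ q ∈ R₁,
          g * q * g⁻¹ = q ∨ g * q * g⁻¹ = q * T := by
        intro g hg q hq
        have hq' : g * q * g⁻¹ ∈ R₁ := (Subgroup.mem_normalizer_iff.mp hg q).mp hq
        by_contra hcon
        rw [not_or] at hcon
        have hq1 : q ≠ 1 := fun e => hcon.1 (by rw [e, mul_one, mul_inv_cancel])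
        have hqT : q ≠ T := fun e => hcon.1 (by rw [e]; exact hTc g)
        have hT1 : T ≠ 1 := fun e =>
          Invol.ne_one_of_orderOf_two f.ht (congrArg (fun z : ψ.ker => ((z : C) : G)) e)
        have hTT : T * T = 1 := Subtype.ext (Subtype.ext f.tt)
        have hq1' : g * q * g⁻¹ ≠ 1 := fun e => hq1 (conj_eq_one_iff.mp e)
        have hqT' : g * q * g⁻¹ ≠ T := fun e => hqT
          (mul_right_injective g (mul_left_injective g⁻¹ (e.trans (hTc g).symm)))
        have hqq : q * T ≠ q := fun e => hT1 (mul_eq_left.mp e)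
        have hqT1 : q * T ≠ 1 := fun e => hqT (mul_right_cancel (e.trans hTT.symm))
        have hqTT : q * T ≠ T := fun e => hq1 (mul_eq_right.mp e)
        have h5 : ({1, T, q, q * T, g * q * g⁻¹} : Finset ψ.ker).card = 5 := by
          rw [Finset.card_insert_of_notMem, Finset.card_insert_of_notMem, Finset.card_insert_of_notMem,
            Finset.card_pair (Ne.symm hcon.2)]
          · simp only [Finset.mem_insert, Finset.mem_singleton, not_or]
            exact ⟨hqq.symm, Ne.symm hcon.1⟩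
          · simp only [Finset.mem_insert, Finset.mem_singleton, not_or]
            exact ⟨Ne.symm hqT, hqTT.symm, hqT'.symm⟩
          · simp only [Finset.mem_insert, Finset.mem_singleton, not_or]
            exact ⟨Ne.symm hT1, Ne.symm hq1, hqT1.symm, hq1'.symm⟩
        have hsub : ({1, T, q, q * T, g * q * g⁻¹} : Finset ψ.ker) ⊆
            Finset.univ.filter (· ∈ R₁) := by
          simp only [Finset.insert_subset_iff, Finset.singleton_subset_iff, Finset.mem_filter,
            Finset.mem_univ, true_and]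
          exact ⟨one_mem _, hTmem, hq, mul_mem hq hTmem, hq'⟩
        have := Finset.card_le_card hsub
        rw [h5, ← Fintype.card_subtype, ← Nat.card_eq_fintype_card, hR1] at this
        omega
      have e : (n * n) * r * (n * n)⁻¹ = r := by
        have e0 : (n * n) * r * (n * n)⁻¹ = n * (n * r * n⁻¹) * n⁻¹ := by group
        rcases hconj n hn r hr with h | h
        · rw [e0, h, h]
        · rw [e0, h, show n * (r * T) * n⁻¹ = n * r * n⁻¹ * (n * T * n⁻¹) by group, h, hTc, mul_assoc,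
            show T * T = 1 from Subtype.ext (Subtype.ext f.tt), mul_one]
      exact (mul_inv_eq_iff_eq_mul.mp e).symm
    -- the odd part of `n` is a power of `n ^ 2`, the other part lies in `Q`
    have hodd : n ^ (2 ^ a) ∈ Subgroup.centralizer ((Q : Subgroup ψ.ker) : Set ψ.ker) := by
      obtain ⟨k, hk⟩ := ho
      have h1 : (n ^ (2 ^ a)) ^ o = 1 := by rw [← pow_mul, ← he, pow_orderOf_eq_one]
      have h2 : n ^ (2 ^ a) = ((n * n) ^ (2 ^ a)) ^ (k + 1) := by
        rw [← pow_two, ← pow_mul, ← pow_mul, show 2 * (2 ^ a * (k + 1)) = 2 ^ a * o + 2 ^ a by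
          rw [hk]; ring, pow_add, pow_mul, h1, one_mul]
      rw [h2]
      exact pow_mem (pow_mem hsq _) _
    have htwo : n ^ o ∈ (Q : Subgroup ψ.ker) := by
      have hN : Subgroup.zpowers (n ^ o) ≤ Subgroup.normalizer ((Q : Subgroup ψ.ker) : Set ψ.ker) :=
        Subgroup.zpowers_le.mpr (pow_mem hn o)
      have hp : IsPGroup 2 (Subgroup.zpowers (n ^ o)) := by
        obtain ⟨i, -, hi⟩ := (Nat.dvd_prime_pow Nat.prime_two).mp
          (orderOf_dvd_of_pow_eq_one (n := 2 ^ a) (by
            rw [← pow_mul, mul_comm, ← he, pow_orderOf_eq_one]) : orderOf (n ^ o) ∣ 2 ^ a)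
        exact IsPGroup.of_card (n := i) (by rw [Nat.card_zpowers, hi])
      have hsup := hp.to_sup_of_normal_right' Q.2 hN
      have := Q.3 hsup le_sup_right
      exact this ▸ Subgroup.mem_sup_left (Subgroup.mem_zpowers _)
    have hQc : (Q : Subgroup ψ.ker) ≤ Subgroup.centralizer ((Q : Subgroup ψ.ker) : Set ψ.ker) := by
      rw [hQ]
      intro q hq
      exact Subgroup.mem_centralizer_iff.mpr fun r hr => Subtype.ext (Subtype.ext
        (f.R_comm hr.1 hq.1 hr.2 hq.2))
    obtain ⟨u, v, huv⟩ : ∃ u v : ℤ, u * (2 : ℤ) ^ a + v * o = 1 :=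
      ((Int.isCoprime_iff_nat_coprime.mpr (by
        simpa using (Nat.coprime_two_left.mpr ho))).pow_left : IsCoprime ((2 : ℤ) ^ a) (o : ℤ))
    have : n = (n ^ (2 ^ a)) ^ u * (n ^ o) ^ v := by
      rw [← zpow_natCast, ← zpow_natCast, ← zpow_mul, ← zpow_mul, ← zpow_add]
      conv_lhs => rw [← zpow_one n, ← huv]
      push_cast
      ring_nf
    rw [this]
    exact mul_mem (zpow_mem hodd u) (zpow_mem (hQc htwo) v)
  obtain ⟨Q', N, hN, hcompl⟩ := Transfer.hasNormalPComplement_of_normalizer_le_centralizer Q hNC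
  have hQ' : Nat.card Q' = 4 := by
    rw [Q'.card_eq_multiplicity, hfac]; rfl
  have hNm : Nat.card N = m := by
    have := hcompl.card_mul_card
    rw [hQ', hker] at this
    omega
  let ι : ψ.ker →* G := C.subtype.comp ψ.ker.subtype
  have hιi : Function.Injective ι := C.subtype_injective.comp ψ.ker.subtype_injective
  refine ⟨N.map ι, fun g => ⟨?_, ?_⟩, by rw [Subgroup.card_map_of_injective hιi, hNm, hm]⟩
  · rintro ⟨k, hk, rfl⟩
    refine ⟨(k : C).2, ?_⟩
    rw [orderOf_injective ι hιi]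
    exact hmodd.of_dvd_nat (hNm ▸ Subgroup.orderOf_dvd_natCard N hk)
  · rintro ⟨hgC, hgo⟩
    have hk : (⟨g, hgC⟩ : C) ∈ ψ.ker := by
      have h1 : ψ ⟨g, hgC⟩ ^ orderOf g = 1 := by
        rw [← map_pow, show (⟨g, hgC⟩ : C) ^ orderOf g = 1 from Subtype.ext (by
          rw [SubgroupClass.coe_pow, pow_orderOf_eq_one]; rfl), map_one]
      obtain ⟨k, hk⟩ := hgo
      show ψ ⟨g, hgC⟩ = 1
      rw [hk, pow_succ, pow_mul, Int.units_sq, one_pow, one_mul] at h1
      exact h1
    refine ⟨⟨⟨g, hgC⟩, hk⟩, ?_, rfl⟩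
    haveI := hN
    have h4 : N.index = 4 := by
      rw [Subgroup.IsComplement'.index_eq_card hcompl.symm]; exact hQ'
    have hq : (QuotientGroup.mk (⟨⟨g, hgC⟩, hk⟩ : ψ.ker) : ψ.ker ⧸ N) = 1 := by
      rw [← orderOf_eq_one_iff]
      have h1 : orderOf (QuotientGroup.mk (⟨⟨g, hgC⟩, hk⟩ : ψ.ker) : ψ.ker ⧸ N) ∣ 2 ^ 2 := by
        have := orderOf_dvd_natCard (QuotientGroup.mk (⟨⟨g, hgC⟩, hk⟩ : ψ.ker) : ψ.ker ⧸ N)
        rwa [← Subgroup.index, h4] at this
      have h2 : orderOf (QuotientGroup.mk (⟨⟨g, hgC⟩, hk⟩ : ψ.ker) : ψ.ker ⧸ N) ∣ orderOf g := by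
        refine orderOf_dvd_of_pow_eq_one ?_
        rw [← QuotientGroup.mk_pow, show (⟨⟨g, hgC⟩, hk⟩ : ψ.ker) ^ orderOf g = 1 from hιi (by
          rw [map_pow, map_one]; exact pow_orderOf_eq_one g)]
        rfl
      exact Nat.eq_one_of_dvd_coprimes ((Nat.coprime_two_left.mpr hgo).pow_left 2) h1 h2
    exact (QuotientGroup.eq_one_iff _).mp hq

end Frame

end CfsgLib.DegreeThreeP
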