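import Cfsg.Agent.Lib.DegreeThreeP.TwoTrans

/-!
# Degree `3 p`, rank three: the centres of the involutions
-/

set_option autoImplicit false
set_option linter.unusedSectionVars false
set_option linter.style.haveILetI false

namespace CfsgLib.DegreeThreeP

open Cfsg CfsgLib MulAction
open scoped _root_.Classical

variable {G : Type*} [Group G] [Fintype G] [IsSimpleGroup G] {Ω : Type*} [Fintype Ω]
  [MulAction G Ω] [FaithfulSMul G Ω] [IsPretransitive G Ω] {p : ℕ} [Fact p.Prime]

theorem fix_conj_mem {u c : G} {a : Ω} :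
    c • a ∈ fixedBy Ω (c * u * c⁻¹) ↔ a ∈ fixedBy Ω u := by
  show (c * u * c⁻¹) • c • a = c • a ↔ u • a = a
  rw [smul_smul, inv_mul_cancel_right, mul_smul]
  exact ⟨fun h => smul_left_cancel c h, fun h => by rw [h]⟩

theorem fix_conj (u c : G) : fixedBy Ω (c * u * c⁻¹) = (fun a => c • a) '' fixedBy Ω u := by
  ext a
  constructor
  · intro h
    refine ⟨c⁻¹ • a, ?_, smul_inv_smul c a⟩
    rw [← fix_conj_mem (c := c), smul_inv_smul]
    exact h
  · rintro ⟨b, hb, rfl⟩
    exact fix_conj_mem.mpr hb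

namespace Frame

variable {t : G} (f : Frame G Ω t) {x₀ b₀ : Ω} (H : Three G Ω p x₀ b₀)

include f H

theorem exists_swap : ∃ j ∈ f.S, j • f.y = f.y' ∧ j • f.y' = f.y ∧ j • f.y ≠ f.y := by
  obtain ⟨j, hj, hjy⟩ : ∃ j ∈ f.S, j • f.y ≠ f.y := by
    by_contra h
    push Not at h
    have e : f.S ⊓ stabilizer G f.y = f.S := inf_eq_left.mpr fun s hs => h s hs
    have := f.cardR
    rw [e, f.cardS] at this
    omega
  exact ⟨j, hj, (f.swap j hj hjy).1, (f.swap j hj hjy).2, hjy⟩

theorem eq_x_of_fixed {z : Ω} (hz : z ∈ fixedBy Ω t)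
    (h : ∀ g ∈ Subgroup.centralizer ({t} : Set G), g • z = z) : z = f.x := by
  obtain ⟨j, hj, h1, h2, -⟩ := f.exists_swap H
  rcases f.mem_fix.mp hz with rfl | rfl | rfl
  · rfl
  · exact absurd (h1.symm.trans (h j (f.le_cent hj))) f.yy'
  · exact absurd ((h j (f.le_cent hj)).symm.trans h2) f.yy'

end Frame

/-- Each involution has a centre: a fixed point fixed by its centraliser, and no other. -/
structure Centred (G : Type*) [Group G] (Ω : Type*) [MulAction G Ω] (cen : G → Ω) : Prop where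
  mem : ∀ t : G, orderOf t = 2 → cen t ∈ fixedBy Ω t
  fixed : ∀ t : G, orderOf t = 2 → ∀ g ∈ Subgroup.centralizer ({t} : Set G), g • cen t = cen t
  uniq : ∀ t : G, orderOf t = 2 → ∀ z ∈ fixedBy Ω t,
    (∀ g ∈ Subgroup.centralizer ({t} : Set G), g • z = z) → z = cen t

theorem Three.exists_centres {x₀ b₀ : Ω} (H : Three G Ω p x₀ b₀) (K : Ctx G Ω p)
    (hR : rank G Ω = 3) (hp13 : 13 ≤ p) : ∃ cen : G → Ω, Centred G Ω cen := by
  obtain ⟨t₁, ht₁, x₁, hx₁, hfix₁⟩ := H.exists_centred K hR hp13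
  have hex : ∀ t : G, orderOf t = 2 → ∃ z ∈ fixedBy Ω t,
      ∀ g ∈ Subgroup.centralizer ({t} : Set G), g • z = z := by
    intro t ht
    obtain ⟨c, rfl⟩ := isConj_iff.mp (H.one t₁ t ht₁ ht)
    refine ⟨c • x₁, fix_conj_mem.mpr hx₁, fun g hg => ?_⟩
    have h := hfix₁ (c⁻¹ * g * c) (centralizer_conj_mem (c := c).mp (by
      rw [show c * (c⁻¹ * g * c) * c⁻¹ = g by group]; exact hg))
    calc g • c • x₁ = c • (c⁻¹ * g * c) • x₁ := by
          rw [smul_smul, smul_smul]; congr 1; group
      _ = c • x₁ := by rw [h]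
  refine ⟨fun t => if h : orderOf t = 2 then (hex t h).choose else x₀,
    ⟨fun t ht => ?_, fun t ht => ?_, fun t ht z hz hzf => ?_⟩⟩
  · simp only [ht, dite_true]; exact (hex t ht).choose_spec.1
  · simp only [ht, dite_true]; exact (hex t ht).choose_spec.2
  · simp only [ht, dite_true]
    obtain ⟨f⟩ := H.exists_frame ht
    rw [f.eq_x_of_fixed H hz hzf,
      f.eq_x_of_fixed H (hex t ht).choose_spec.1 (hex t ht).choose_spec.2]

/-- The involutions of a subgroup with centre `a`. -/
noncomputable def centredIn (cen : G → Ω) (Q : Subgroup G) (a : Ω) : ℕ :=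
  (Finset.univ.filter fun u : G => u ∈ Q ∧ orderOf u = 2 ∧ cen u = a).card

namespace Centred

variable {cen : G → Ω} (Z : Centred G Ω cen) {x₀ b₀ : Ω} (H : Three G Ω p x₀ b₀)

include Z H

theorem eq_frame {t : G} (f : Frame G Ω t) : cen t = f.x :=
  f.eq_x_of_fixed H (Z.mem t f.ht) (Z.fixed t f.ht)

theorem equivariant {t : G} (ht : orderOf t = 2) (c : G) : cen (c * t * c⁻¹) = c • cen t := by
  refine (Z.uniq _ (Invol.conj_orderOf_two ht c) _ (fix_conj_mem.mpr (Z.mem t ht)) fun g hg => ?_).symm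
  have h := Z.fixed t ht (c⁻¹ * g * c) (centralizer_conj_mem (c := c).mp (by
    rw [show c * (c⁻¹ * g * c) * c⁻¹ = g by group]; exact hg))
  calc g • c • cen t = c • (c⁻¹ * g * c) • cen t := by
        rw [smul_smul, smul_smul]; congr 1; group
    _ = c • cen t := by rw [h]

theorem centredIn_map (Q : Subgroup G) (c : G) (a : Ω) :
    centredIn cen (Q.map (MulAut.conj c).toMonoidHom) (c • a) = centredIn cen Q a := by
  refine (Finset.card_bij (fun u _ => c * u * c⁻¹) ?_ ?_ ?_).symm
  · intro u hu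
    simp only [Finset.mem_filter, Finset.mem_univ, true_and] at hu ⊢
    exact ⟨⟨u, hu.1, by simp⟩, Invol.conj_orderOf_two hu.2.1 c,
      by rw [Z.equivariant H hu.2.1 c, hu.2.2]⟩
  · intro u _ w _ h
    exact mul_left_cancel (mul_right_cancel h)
  · intro w hw
    simp only [Finset.mem_filter, Finset.mem_univ, true_and] at hw
    obtain ⟨⟨u, hu, rfl⟩, hw2, hcw⟩ := hw
    simp only [MulEquiv.coe_toMonoidHom, MulAut.conj_apply] at hw2 hcw ⊢
    have hu2 : orderOf u = 2 := by
      rw [← MulEquiv.orderOf_eq (MulAut.conj c), MulAut.conj_apply]; exact hw2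
    refine ⟨u, ?_, rfl⟩
    simp only [Finset.mem_filter, Finset.mem_univ, true_and]
    exact ⟨hu, hu2, smul_left_cancel c ((Z.equivariant H hu2 c).symm.trans hcw)⟩

theorem centredIn_const {Q Q' : Subgroup G} {a a' b b' : Ω} (hQ : Nat.card Q = 4)
    (hQ' : Nat.card Q' = 4) (hfix : Q ≤ stabilizer G (a, a')) (hfix' : Q' ≤ stabilizer G (b, b'))
    (hne : a' ≠ a) (hne' : b' ≠ b) : centredIn cen Q a = centredIn cen Q' b := by
  haveI : Fact (Nat.Prime 2) := ⟨Nat.prime_two⟩
  obtain ⟨⟨u, huQ⟩, hu⟩ := exists_prime_orderOf_dvd_card' (G := Q) 2 (by rw [hQ]; norm_num)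
  obtain ⟨⟨u', huQ'⟩, hu'⟩ := exists_prime_orderOf_dvd_card' (G := Q') 2 (by rw [hQ']; norm_num)
  rw [Subgroup.orderOf_mk] at hu hu'
  obtain ⟨g₁, h1, h2⟩ := H.edge u a a' hu (congrArg Prod.fst (hfix huQ))
    (congrArg Prod.snd (hfix huQ)) hne
  obtain ⟨g₂, h3, h4⟩ := H.edge u' b b' hu' (congrArg Prod.fst (hfix' huQ'))
    (congrArg Prod.snd (hfix' huQ')) hne'
  set g := g₂ * g₁⁻¹ with hg
  have hga : g • a = b := by rw [hg, mul_smul, ← h1, inv_smul_smul, h3]
  have hga' : g • a' = b' := by rw [hg, mul_smul, ← h2, inv_smul_smul, h4]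
  set St := stabilizer G (b, b')
  have hQle : Q.map (MulAut.conj g).toMonoidHom ≤ St := by
    rintro _ ⟨q, hq, rfl⟩
    show (g * q * g⁻¹) • (b, b') = (b, b')
    have hqa : q • (a, a') = (a, a') := hfix hq
    rw [← hga, ← hga', show (g • a, g • a') = g • (a, a') from rfl, smul_smul, inv_mul_cancel_right,
      mul_smul, hqa]
  have h48 := H.four_pair hu' (congrArg Prod.fst (hfix' huQ')) (congrArg Prod.snd (hfix' huQ')) hne'
  have hfac : (Nat.card St).factorization 2 = 2 := by
    have e1 := (Nat.prime_two.pow_dvd_iff_le_factorization (k := 2) Nat.card_pos.ne').mp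
      (show 2 ^ 2 ∣ Nat.card St from h48.1)
    have e2 : ¬ 3 ≤ (Nat.card St).factorization 2 := fun h =>
      h48.2 ((Nat.prime_two.pow_dvd_iff_le_factorization (k := 3) Nat.card_pos.ne').mpr h)
    omega
  have mk : ∀ L : Subgroup G, L ≤ St → Nat.card L = 4 →
      ∃ P : Sylow 2 St, (P : Subgroup St).map St.subtype = L := by
    intro L hL h4
    refine ⟨Sylow.ofCard (L.subgroupOf St) (by
      rw [Nat.card_congr (Subgroup.subgroupOfEquivOfLe hL).toEquiv, h4, hfac]; rfl), ?_⟩
    rw [Sylow.coe_ofCard, Subgroup.map_subgroupOf_eq_of_le hL]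
  obtain ⟨P₁, hP₁⟩ := mk _ hQle (by rw [Subgroup.card_map_of_injective (MulAut.conj g).injective, hQ])
  obtain ⟨P₂, hP₂⟩ := mk _ hfix' hQ'
  obtain ⟨h, hh⟩ := MulAction.exists_smul_eq St P₁ P₂
  have hQQ : (Q.map (MulAut.conj g).toMonoidHom).map (MulAut.conj (h : G)).toMonoidHom = Q' := by
    rw [← hP₁, ← hP₂, ← hh, Sylow.coe_subgroup_smul]
    ext z
    constructor
    · rintro ⟨_, ⟨w, hw, rfl⟩, rfl⟩
      exact ⟨h * w * h⁻¹, ⟨w, hw, by simp [MulAut.smul_def]⟩, by simp⟩
    · rintro ⟨_, ⟨w, hw, rfl⟩, rfl⟩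
      exact ⟨(w : G), ⟨w, hw, rfl⟩, by simp [MulAut.smul_def]⟩
  rw [← hQQ, ← Z.centredIn_map H Q g a, ← Z.centredIn_map H _ (h : G), hga,
    show (h : G) • b = b from congrArg Prod.fst h.2]

/-- Commuting involutions with the same fixed points have distinct centres. -/
theorem cen_ne {u w : G} (hu : orderOf u = 2) (hw : orderOf w = 2) (hne : u ≠ w) (h : Commute u w)
    (hfix : fixedBy Ω u = fixedBy Ω w) : cen u ≠ cen w := by
  intro e
  have huu := Invol.mul_self_of_orderOf_two hu
  have hww := Invol.mul_self_of_orderOf_two hw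
  have huw2 : orderOf (u * w) = 2 := Invol.orderOf_two_of_mul_self
    (by rw [show u * w * (u * w) = u * (w * u) * w by group, ← h.eq]
        calc u * (u * w) * w = (u * u) * (w * w) := by group
          _ = 1 := by rw [huu, hww, one_mul])
    (fun e' => hne (by rw [← mul_left_inj w, e', hww]))
  let Q : Subgroup G :=
    { carrier := {g | g = 1 ∨ g = u ∨ g = w ∨ g = u * w}
      one_mem' := Or.inl rfl
      mul_mem' := by
        have e1 : w * u = u * w := h.eq.symm
        have e2 : u * (u * w) = w := by rw [← mul_assoc, huu, one_mul]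
        have e3 : w * (u * w) = u := by rw [e1.symm, ← mul_assoc, hww, one_mul]
        have e4 : u * w * u = w := by rw [mul_assoc, e1, e2]
        have e5 : u * w * w = u := by rw [mul_assoc, hww, mul_one]
        have e6 : u * w * (u * w) = 1 := Invol.mul_self_of_orderOf_two huw2
        rintro a b (rfl | rfl | rfl | rfl) (rfl | rfl | rfl | rfl) <;>
          simp only [Set.mem_setOf_eq, one_mul, mul_one, huu, hww, e1, e2, e3, e4, e5, e6, true_or,
            or_true]
      inv_mem' := by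
        rintro a (rfl | rfl | rfl | rfl)
        · exact Or.inl inv_one
        · exact Or.inr (Or.inl (Invol.inv_of_orderOf_two hu))
        · exact Or.inr (Or.inr (Or.inl (Invol.inv_of_orderOf_two hw)))
        · exact Or.inr (Or.inr (Or.inr (Invol.inv_of_orderOf_two huw2))) }
  have hQ4 : Nat.card Q = 4 := by
    rw [← SetLike.coe_sort_coe, Nat.card_coe_set_eq]
    have : (Q : Set G) = {1, u, w, u * w} := by
      ext g; simp [Q]
    rw [this, Set.ncard_insert_of_notMem, Set.ncard_insert_of_notMem, Set.ncard_pair]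
    · exact fun e' => Invol.ne_one_of_orderOf_two hu (mul_eq_right.mp e'.symm)
    · simp only [Set.mem_insert_iff, Set.mem_singleton_iff, not_or]
      exact ⟨hne, fun e' => Invol.ne_one_of_orderOf_two hw (mul_eq_left.mp e'.symm)⟩
    · simp only [Set.mem_insert_iff, Set.mem_singleton_iff, not_or]
      exact ⟨(Invol.ne_one_of_orderOf_two hu).symm, (Invol.ne_one_of_orderOf_two hw).symm,
        (Invol.ne_one_of_orderOf_two huw2).symm⟩
  obtain ⟨f⟩ := H.exists_frame hu
  have hQfix : ∀ g ∈ Q, ∀ z ∈ fixedBy Ω u, g • z = z := by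
    rintro g (rfl | rfl | rfl | rfl) z hz
    · exact one_smul _ z
    · exact hz
    · exact (hfix ▸ hz : z ∈ fixedBy Ω g)
    · have hwz : w • z = z := (hfix ▸ hz : z ∈ fixedBy Ω w)
      rw [mul_smul, hwz]; exact hz
  have hle : ∀ {a a' : Ω}, a ∈ fixedBy Ω u → a' ∈ fixedBy Ω u → Q ≤ stabilizer G (a, a') :=
    fun ha ha' g hg => Prod.ext (hQfix g hg _ ha) (hQfix g hg _ ha')
  have exy := Z.centredIn_const H hQ4 hQ4 (hle f.x_fix f.y_fix) (hle f.y_fix f.x_fix) f.yx f.yx.symm
  have exy' := Z.centredIn_const H hQ4 hQ4 (hle f.x_fix f.y_fix) (hle f.y'_fix f.x_fix) f.yx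
    f.yx'.symm
  have htwo : 2 ≤ centredIn cen Q f.x := by
    refine Finset.one_lt_card.mpr ⟨u, ?_, w, ?_, hne⟩ <;>
      simp only [Finset.mem_filter, Finset.mem_univ, true_and]
    · exact ⟨Or.inr (Or.inl rfl), hu, Z.eq_frame H f⟩
    · exact ⟨Or.inr (Or.inr (Or.inl rfl)), hw, e ▸ Z.eq_frame H f⟩
  have hsum : centredIn cen Q f.x + centredIn cen Q f.y + centredIn cen Q f.y' ≤ 3 := by
    unfold centredIn
    rw [← Finset.card_union_of_disjoint, ← Finset.card_union_of_disjoint]
    · refine (Finset.card_le_card (t := ({u, w, u * w} : Finset G)) fun g hg => ?_).trans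
        Finset.card_le_three
      have hgm : g ∈ Q ∧ orderOf g = 2 := by
        simp only [Finset.mem_union, Finset.mem_filter, Finset.mem_univ, true_and] at hg
        rcases hg with (h | h) | h <;> exact ⟨h.1, h.2.1⟩
      rcases hgm.1 with rfl | h | h | h
      · exact absurd hgm.2 (by rw [orderOf_one]; norm_num)
      all_goals simp [h]
    all_goals
      simp only [Finset.disjoint_left, Finset.mem_union, Finset.mem_filter, Finset.mem_univ, true_and]
      intro g h1 h2
    · rcases h1 with h1 | h1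
      · exact f.yx' (h2.2.2.symm.trans h1.2.2)
      · exact f.yy' (h2.2.2.symm.trans h1.2.2)
    · exact f.yx (h2.2.2.symm.trans h1.2.2)
  omega

/-- Commuting involutions with different fixed points have the same centre. -/
theorem cen_eq {u w : G} (hu : orderOf u = 2) (hw : orderOf w = 2) (h : Commute u w)
    (hfix : fixedBy Ω u ≠ fixedBy Ω w) : cen u = cen w := by
  by_contra hne
  exact hfix (H.same_fix hu hw h (Ne.symm hne) (Z.mem u hu)
    (Z.fixed w hw u (Subgroup.mem_centralizer_singleton_iff.mpr h.eq))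
    (Z.fixed u hu w (Subgroup.mem_centralizer_singleton_iff.mpr h.symm.eq)) (Z.mem w hw))

end Centred

end CfsgLib.DegreeThreeP
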