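import Cfsg.Agent.Lib.DegreeThreeP.TwoCent

/-!
# Degree `3 p`, rank three: the decomposition of the centraliser of an involution
-/

set_option autoImplicit false
set_option linter.unusedSectionVars false
set_option linter.style.haveILetI false

namespace CfsgLib.DegreeThreeP

open Cfsg CfsgLib MulAction
open scoped _root_.Classical

variable {G : Type*} [Group G] [Fintype G] [IsSimpleGroup G] {Ω : Type*} [Fintype Ω]
  [MulAction G Ω] [FaithfulSMul G Ω] [IsPretransitive G Ω] {p : ℕ} [Fact p.Prime]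

/-- An eighth of the order of the centraliser. -/
noncomputable def coreSize (t : G) : ℕ := Nat.card (Subgroup.centralizer ({t} : Set G)) / 8

theorem card_centralizer_of_isConj {t u : G} (h : IsConj t u) :
    Nat.card (Subgroup.centralizer ({u} : Set G)) = Nat.card (Subgroup.centralizer ({t} : Set G)) := by
  have h1 := Invol.card_isConj_mul_card_centralizer t
  have h2 := Invol.card_isConj_mul_card_centralizer u
  have e : Nat.card {v : G // IsConj t v} = Nat.card {v : G // IsConj u v} :=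
    Nat.card_congr (Equiv.subtypeEquivRight fun v =>
      ⟨fun h' => h.symm.trans h', fun h' => h.trans h'⟩)
  rw [← h1, e] at h2
  exact Nat.eq_of_mul_eq_mul_left (Nat.card_pos_iff.mpr ⟨⟨⟨u, IsConj.refl u⟩⟩, inferInstance⟩) h2

namespace Frame

variable {t : G} (f : Frame G Ω t)

/-- The set of elements of odd order of the centraliser, as a subgroup. -/
def IsCore (_f : Frame G Ω t) (O : Subgroup G) : Prop :=
  (∀ g, g ∈ O ↔ g ∈ Subgroup.centralizer ({t} : Set G) ∧ Odd (orderOf g)) ∧
    8 * Nat.card O = Nat.card (Subgroup.centralizer ({t} : Set G))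

variable {O : Subgroup G} (hO : f.IsCore O)

include hO

theorem core_le : O ≤ Subgroup.centralizer ({t} : Set G) := fun g hg => ((hO.1 g).mp hg).1

theorem core_card : Nat.card O = coreSize t := by
  rw [coreSize, ← hO.2, Nat.mul_div_cancel_left _ (by norm_num)]

theorem core_odd : Odd (Nat.card O) := by
  rw [← Nat.not_even_iff_odd, even_iff_two_dvd]
  intro h
  haveI : Fact (Nat.Prime 2) := ⟨Nat.prime_two⟩
  obtain ⟨⟨g, hg⟩, hgo⟩ := exists_prime_orderOf_dvd_card' (G := O) 2 h
  rw [Subgroup.orderOf_mk] at hgo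
  have := ((hO.1 g).mp hg).2
  rw [hgo] at this
  exact absurd this (by decide)

theorem core_pow {o : G} (ho : o ∈ O) : o ^ coreSize t = 1 := by
  rw [← f.core_card hO]
  exact orderOf_dvd_iff_pow_eq_one.mp (Subgroup.orderOf_dvd_natCard O ho)

theorem core_conj {g o : G} (hg : g ∈ Subgroup.centralizer ({t} : Set G)) (ho : o ∈ O) :
    g * o * g⁻¹ ∈ O := by
  refine (hO.1 _).mpr ⟨mul_mem (mul_mem hg (f.core_le hO ho)) (inv_mem hg), ?_⟩
  rw [show g * o * g⁻¹ = MulAut.conj g o from rfl, MulEquiv.orderOf_eq]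
  exact ((hO.1 o).mp ho).2

theorem core_inf {s : G} (hs : s ∈ f.S) (ho : s ∈ O) : s = 1 := by
  rw [← orderOf_eq_one_iff]
  refine Nat.eq_one_of_dvd_coprimes ((Nat.coprime_two_left.mpr ((hO.1 s).mp ho).2).pow_left 3)
    ?_ dvd_rfl
  have := Subgroup.orderOf_dvd_natCard f.S hs
  rwa [f.cardS] at this

theorem decomp {g : G} (hg : g ∈ Subgroup.centralizer ({t} : Set G)) :
    ∃ o ∈ O, ∃ s ∈ f.S, g = o * s := by
  let φ : O × f.S → Subgroup.centralizer ({t} : Set G) := fun q =>
    ⟨(q.1 : G) * q.2, mul_mem (f.core_le hO q.1.2) (f.le_cent q.2.2)⟩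
  have hinj : Function.Injective φ := by
    rintro ⟨o, s⟩ ⟨o', s'⟩ h
    have h' : (o : G) * s = (o' : G) * s' := congrArg Subtype.val h
    have e : (o' : G)⁻¹ * o = s' * (s : G)⁻¹ := by
      rw [eq_mul_inv_iff_mul_eq, mul_assoc, h', inv_mul_cancel_left]
    have h1 : (s' : G) * (s : G)⁻¹ = 1 :=
      f.core_inf hO (mul_mem s'.2 (inv_mem s.2)) (e ▸ mul_mem (inv_mem o'.2) o.2)
    have hs : (s : G) = s' := (mul_inv_eq_one.mp h1).symm
    exact Prod.ext (Subtype.ext (mul_right_cancel (h'.trans (by rw [hs])))) (Subtype.ext hs)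
  haveI := Fintype.ofFinite (O × f.S)
  have hbij : Function.Bijective φ := (Nat.bijective_iff_injective_and_card φ).mpr ⟨hinj, by
    rw [Nat.card_prod, f.cardS, ← hO.2, mul_comm]⟩
  obtain ⟨⟨o, s⟩, h⟩ := hbij.2 ⟨g, hg⟩
  exact ⟨o, o.2, s, s.2, (congrArg Subtype.val h).symm⟩

/-- Squares respect the decomposition. -/
theorem sq_of_decomp {o s w : G} (ho : o ∈ O) (hs : s ∈ f.S) (hw : w ∈ f.S)
    (h : (o * s) * (o * s) = w) : s * s = w := by
  have hsC := f.le_cent hs
  have h1 : o * (s * o * s⁻¹) = w * (s * s)⁻¹ := by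
    rw [← h]; group
  have h2 := f.core_inf hO (mul_mem hw (inv_mem (mul_mem hs hs))) (h1 ▸ mul_mem ho (f.core_conj hO hsC ho))
  exact (mul_inv_eq_one.mp h2).symm

/-- An involution of the centraliser is conjugate by an element of odd order to one of `S`. -/
theorem invol_decomp {b : G} (hb : b ∈ Subgroup.centralizer ({t} : Set G)) (hb2 : orderOf b = 2) :
    ∃ s ∈ f.S, orderOf s = 2 ∧ b * s ∈ O ∧ s * b ∈ O ∧ ∃ d ∈ O, d * s * d⁻¹ = b := by
  obtain ⟨o, ho, s, hs, rfl⟩ := f.decomp hO hb
  have hs2 : s * s = 1 := f.sq_of_decomp hO ho hs (one_mem _) (Invol.mul_self_of_orderOf_two hb2)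
  have hs1 : s ≠ 1 := fun e => by
    have := ((hO.1 o).mp ho).2
    rw [e, mul_one] at hb2
    rw [hb2] at this
    exact absurd this (by decide)
  have hso := Invol.orderOf_two_of_mul_self hs2 hs1
  have e1 : o * s * s = o := by rw [mul_assoc, hs2, mul_one]
  have e2 : s * (o * s) ∈ O := by
    rw [show s * (o * s) = s * o * s⁻¹ * (s * s) by group, hs2, mul_one]
    exact f.core_conj hO (f.le_cent hs) ho
  refine ⟨s, hs, hso, e1.symm ▸ ho, e2, ?_⟩
  obtain ⟨k, hk⟩ := Invol.exists_zpow_conj_of_odd hso hb2 ((hO.1 _).mp e2).2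
  exact ⟨_, zpow_mem e2 k, hk⟩

/-- An element of the core fixing one of the three points fixes all three. -/
theorem core_fix {x₀ b₀ : Ω} (H : Three G Ω p x₀ b₀) {o : G} (ho : o ∈ O) {a : Ω}
    (ha : a ∈ fixedBy Ω t) (hoa : o • a = a) {z : Ω} (hz : z ∈ fixedBy Ω t) : o • z = z := by
  have hoC := f.core_le hO ho
  have h2 : (o * o) • z = z := by
    by_contra hne
    rw [mul_smul] at hne
    have hz1 := centralizer_smul_mem hoC hz
    have hz2 := centralizer_smul_mem hoC hz1
    have hoz : o • z ≠ z := fun e => hne (by rw [e, e])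
    have hza : z ≠ a := fun e => hoz (e ▸ hoa)
    have ha1 : o • z ≠ a := fun e => hza (smul_left_cancel o (e.trans hoa.symm))
    have ha2 : o • o • z ≠ a := fun e => ha1 (smul_left_cancel o (e.trans hoa.symm))
    have hzz : o • o • z ≠ o • z := fun e => hoz (smul_left_cancel o e)
    have hsub : ({a, z, o • z, o • o • z} : Set Ω) ⊆ fixedBy Ω t := by
      simp only [Set.insert_subset_iff, Set.singleton_subset_iff]
      exact ⟨ha, hz, hz1, hz2⟩
    have := Set.ncard_le_ncard hsub (Set.toFinite _)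
    rw [H.ncard_fix f.ht, Set.ncard_insert_of_notMem, Set.ncard_insert_of_notMem,
      Set.ncard_pair hzz.symm] at this
    · omega
    · simp only [Set.mem_insert_iff, Set.mem_singleton_iff, not_or]; exact ⟨hoz.symm, Ne.symm hne⟩
    · simp only [Set.mem_insert_iff, Set.mem_singleton_iff, not_or]
      exact ⟨hza.symm, ha1.symm, ha2.symm⟩
  obtain ⟨k, hk⟩ := ((hO.1 o).mp ho).2
  have e : o = (o * o) ^ (k + 1) := by
    rw [← pow_two, ← pow_mul, show 2 * (k + 1) = orderOf o + 1 by rw [hk]; ring, pow_succ,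
      pow_orderOf_eq_one, one_mul]
  rw [e]
  exact mem_stabilizer_iff.mp (pow_mem (mem_stabilizer_iff.mpr h2) _)

end Frame

end CfsgLib.DegreeThreeP
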