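import Cfsg.Agent.Lib.DegreeThreeP.Pairs
import Cfsg.Agent.S0226
import Cfsg.Agent.S0446

/-!
# Degree `3 p`, rank three: fixed points of involutions
-/

set_option autoImplicit false
set_option linter.unusedSectionVars false
set_option linter.style.haveILetI false

namespace CfsgLib.DegreeThreeP

open Cfsg CfsgLib MulAction
open scoped _root_.Classical

variable {G : Type*} [Group G] [Fintype G] [IsSimpleGroup G] {Ω : Type*} [Fintype Ω]
  [MulAction G Ω] [FaithfulSMul G Ω] [IsPretransitive G Ω] {p : ℕ} [Fact p.Prime]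

/-- What the rank three case gives about the fixed points of the involutions. -/
structure Three (G : Type*) [Group G] (Ω : Type*) [Fintype Ω] [MulAction G Ω] (p : ℕ)
    (x b : Ω) : Prop where
  ne : b ≠ x
  one : ∀ u w : G, orderOf u = 2 → orderOf w = 2 → IsConj u w
  exists_invol : ∃ t : G, orderOf t = 2
  three : ∀ u : G, orderOf u = 2 → fx Ω u = 3
  edge : ∀ (u : G) (a a' : Ω), orderOf u = 2 → u • a = a → u • a' = a' → a' ≠ a → Rel G x b a a'
  eight : 8 ∣ Nat.card G ∧ ¬ 16 ∣ Nat.card G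
  four : 4 ∣ Nat.card (stabilizer G (x, b)) ∧ ¬ 8 ∣ Nat.card (stabilizer G (x, b))
  no_four : ∀ (g : G) (a a' : Ω), orderOf g = 4 → g • a = a → g • a' = a' → a' = a
  large : 8 ≤ Nat.card (orbit (stabilizer G x) b)

theorem card_stabilizer_pair (x b : Ω) :
    Nat.card (stabilizer G x) =
      Nat.card (orbit (stabilizer G x) b) * Nat.card (stabilizer G (x, b)) := by
  have h := Nat.card_congr (orbitProdStabilizerEquivGroup (stabilizer G x) b)
  rw [Nat.card_prod] at h
  rw [← h]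
  congr 1
  refine Nat.card_congr
    { toFun := fun g => ⟨(g : stabilizer G x), ?_⟩
      invFun := fun g => ⟨⟨(g : G), congrArg Prod.fst g.2⟩, congrArg Prod.snd g.2⟩
      left_inv := fun _ => rfl
      right_inv := fun _ => rfl }
  exact Prod.ext (g : stabilizer G x).2 g.2

theorem card_group_eq (K : Ctx G Ω p) (x b : Ω) :
    Nat.card G = 3 * p * (Nat.card (orbit (stabilizer G x) b) * Nat.card (stabilizer G (x, b))) := by
  rw [← card_stabilizer_pair, ← K.card_omega, ← Nat.card_eq_fintype_card,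
    ← index_stabilizer_of_transitive G x, mul_comm, Subgroup.card_mul_index]

theorem card_orbit_pair (K : Ctx G Ω p) (x b : Ω) :
    Nat.card (orbit G (x, b)) = 3 * p * Nat.card (orbit (stabilizer G x) b) := by
  have h := Nat.card_congr (orbitProdStabilizerEquivGroup G (x, b))
  rw [Nat.card_prod, card_group_eq K x b, ← mul_assoc] at h
  exact Nat.eq_of_mul_eq_mul_right Nat.card_pos h

/-- The suborbits of the two sizes cannot both contain fixed pairs of involutions. -/
theorem no_involution_in_stabilizer (K : Ctx G Ω p) {x c : Ω} (hc : c ≠ x)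
    (hone : ∀ u w : G, orderOf u = 2 → orderOf w = 2 → IsConj u w)
    (h3 : ∀ u : G, orderOf u = 2 → fx Ω u = 3)
    (h8 : 8 ∣ Nat.card (orbit (stabilizer G x) c)) (u : G) (hu : orderOf u = 2) :
    u ∉ stabilizer G (x, c) := by
  intro hmem
  set Y := orbit G (x, c)
  set γ : G → ℕ := fun w => Nat.card {y : Y // w • (y : Ω × Ω) = y} with hγ
  set I := Finset.univ.filter fun w : G => orderOf w = 2 with hI
  have hconst : ∀ w ∈ I, γ w = γ u := by
    intro w hw
    obtain ⟨g, rfl⟩ := isConj_iff.mp (hone u w hu (Finset.mem_filter.mp hw).2)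
    refine Nat.card_congr ((MulAction.toPerm (α := G) (β := Y) g⁻¹).subtypeEquiv fun y => ?_)
    show (g * u * g⁻¹) • (y : Ω × Ω) = y ↔ u • (g⁻¹ • (y : Ω × Ω)) = g⁻¹ • (y : Ω × Ω)
    rw [mul_smul, mul_smul, smul_eq_iff_eq_inv_smul]
  have hμ : ∀ y : Y, Nat.card {w : G // orderOf w = 2 ∧ w • (y : Ω × Ω) = y} =
      Nat.card {w : G // orderOf w = 2 ∧ w • (x, c) = (x, c)} := by
    rintro ⟨y, g, rfl⟩
    refine Nat.card_congr ((MulAut.conj g⁻¹).toEquiv.subtypeEquiv fun w => ?_)
    show orderOf w = 2 ∧ w • g • (x, c) = g • (x, c) ↔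
      orderOf (MulAut.conj g⁻¹ w) = 2 ∧ MulAut.conj g⁻¹ w • (x, c) = (x, c)
    rw [MulEquiv.orderOf_eq, MulAut.conj_apply, inv_inv, mul_smul, mul_smul, inv_smul_eq_iff]
  have hdc : I.card * γ u = Nat.card Y * Nat.card {w : G // orderOf w = 2 ∧ w • (x, c) = (x, c)} := by
    let Inc := {q : {w : G // orderOf w = 2} × Y // (q.1 : G) • (q.2 : Ω × Ω) = q.2}
    have h1 : Nat.card Inc = I.card * γ u := by
      rw [Nat.card_congr (Equiv.subtypeProdEquivSigmaSubtype
          fun (w : {w : G // orderOf w = 2}) (y : Y) => (w : G) • (y : Ω × Ω) = y), Nat.card_sigma,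
        Finset.sum_congr rfl (g := fun _ => γ u) fun (w : {w : G // orderOf w = 2}) _ =>
          hconst (w : G) (Finset.mem_filter.mpr ⟨Finset.mem_univ _, w.2⟩),
        Finset.sum_const, Finset.card_univ, Fintype.card_subtype, smul_eq_mul, hI]
    let e : Inc ≃ Σ y : Y, {w : G // orderOf w = 2 ∧ w • (y : Ω × Ω) = y} :=
      { toFun := fun q => ⟨q.1.2, (q.1.1 : G), q.1.1.2, q.2⟩
        invFun := fun z => ⟨(⟨(z.2 : G), z.2.2.1⟩, z.1), z.2.2.2⟩
        left_inv := fun _ => rfl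
        right_inv := fun _ => rfl }
    have h2 : Nat.card Inc = Nat.card Y * Nat.card {w : G // orderOf w = 2 ∧ w • (x, c) = (x, c)} := by
      rw [Nat.card_congr e, Nat.card_sigma, Finset.sum_congr rfl fun y _ => hμ y, Finset.sum_const,
        Finset.card_univ, ← Nat.card_eq_fintype_card, smul_eq_mul]
    exact h1.symm.trans h2
  have hle : γ u ≤ 6 := by
    have hinj : γ u ≤ Nat.card {q : fixedBy Ω u × fixedBy Ω u // q.1 ≠ q.2} := by
      refine Nat.card_le_card_of_injective (fun y : {y : Y // u • (y : Ω × Ω) = y} =>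
        ⟨(⟨(y.1 : Ω × Ω).1, congrArg Prod.fst y.2⟩, ⟨(y.1 : Ω × Ω).2, congrArg Prod.snd y.2⟩),
          fun e => ?_⟩) fun y y' h => ?_
      · obtain ⟨g, hg⟩ := y.1.2
        have e' := congrArg Subtype.val e
        simp only [← hg, Prod.smul_mk] at e'
        exact hc (smul_left_cancel g e').symm
      · have h' := congrArg Subtype.val h
        exact Subtype.ext (Subtype.ext (Prod.ext (congrArg (fun q => (q.1 : Ω)) h')
          (congrArg (fun q => (q.2 : Ω)) h')))
    refine hinj.trans (le_of_eq ?_)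
    have hF : Fintype.card (fixedBy Ω u) = 3 := by rw [← Nat.card_eq_fintype_card]; exact h3 u hu
    have hd : Fintype.card {q : fixedBy Ω u × fixedBy Ω u // q.1 = q.2} = 3 :=
      (Fintype.card_congr
        { toFun := fun q => q.1.1
          invFun := fun z => ⟨(z, z), rfl⟩
          left_inv := fun q => Subtype.ext (Prod.ext rfl q.2)
          right_inv := fun _ => rfl }).trans hF
    rw [Nat.card_eq_fintype_card, Fintype.card_subtype_compl (fun q : fixedBy Ω u × fixedBy Ω u => q.1 = q.2),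
      hd, Fintype.card_prod, hF]
  have hodd : Odd I.card := by
    have he : Even (Nat.card G) := even_iff_two_dvd.mpr (hu ▸ orderOf_dvd_natCard u)
    have := Cfsg.Agent.S0226.result he
    rwa [Nat.card_eq_fintype_card, Fintype.card_subtype] at this
  have hdvd : 8 ∣ I.card * γ u := by
    rw [hdc, card_orbit_pair K x c]
    exact dvd_mul_of_dvd_left (dvd_mul_of_dvd_right h8 _) _
  have hco : Nat.Coprime 8 I.card :=
    (Nat.coprime_two_left.mpr hodd).pow_left 3
  have hzero : γ u = 0 := Nat.eq_zero_of_dvd_of_lt (hco.dvd_of_dvd_mul_left hdvd) (by omega)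
  have : 0 < γ u := Nat.card_pos_iff.mpr ⟨⟨⟨⟨(x, c), mem_orbit_self _⟩, hmem⟩⟩, inferInstance⟩
  omega

theorem three_of_case (K : Ctx G Ω p) (D : PMinusTwo.Data G p) (hp5 : p ≠ 5) (hR : rank G Ω = 3)
    (hone : OneClass D) (heq : HasEq D (2 * p) 1) (hO : Orbital D Ω) :
    ∃ x b : Ω, Three G Ω p x b := by
  obtain ⟨x, b, c, s, hb, hc, -, hcov, h2p, hk, hl⟩ := suborbit_arith K D hR hO
  have hone' : ∀ u w : G, orderOf u = 2 → orderOf w = 2 → IsConj u w := fun u w hu hw =>
    (hone u hu).symm.trans (hone w hw)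
  set k := Nat.card (orbit (stabilizer G x) b)
  set l := Nat.card (orbit (stabilizer G x) c)
  set B := Nat.card (stabilizer G (x, b))
  set C := Nat.card (stabilizer G (x, c))
  have hGb : Nat.card G = 3 * p * (k * B) := card_group_eq K x b
  have hGc : Nat.card G = 3 * p * (l * C) := card_group_eq K x c
  have h5 := K.five_le
  have hkB : k * B = l * C :=
    Nat.eq_of_mul_eq_mul_left (by omega : 0 < 3 * p) (hGb.symm.trans hGc)
  set q : ℤ := 3 * s + 1 with hq
  have hk2 : 2 * (k : ℤ) = q * (2 * s + 1) := by rw [hk, hq]; linarith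
  have hl2 : (l : ℤ) = 2 * s * q := by rw [hl, hq]; linarith
  obtain ⟨m, hm⟩ : ∃ m, s = 2 * m + 1 := by
    rcases Int.even_or_odd s with ⟨m, rfl⟩ | h
    · exfalso
      have : 2 * (p : ℤ) = 2 * (12 * m ^ 2 + 3 * m) + 1 := by rw [h2p]; ring
      omega
    · exact h
  -- `4` divides the order of the stabiliser of a pair
  have hB4 : 4 ∣ B := by
    have h : (B : ℤ) * (2 * s + 1) = 4 * (s * C) := by
      have hq0 : q ≠ 0 := by omega
      refine mul_left_cancel₀ hq0 ?_
      have : (k : ℤ) * B = l * C := by exact_mod_cast hkB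
      linear_combination 2 * this - (B : ℤ) * hk2 + 2 * (C : ℤ) * hl2
    have h4 : (4 : ℤ) ∣ (B : ℤ) * (2 * s + 1) := ⟨_, h⟩
    have hco : IsCoprime (4 : ℤ) (2 * s + 1) := by
      rw [hm]; exact ⟨-(4 * m ^ 2 + 6 * m + 2), 4 * m + 3, by ring⟩
    exact Int.natCast_dvd_natCast.mp (hco.dvd_of_dvd_mul_right h4)
  haveI : Fact (Nat.Prime 2) := ⟨Nat.prime_two⟩
  obtain ⟨⟨u₀, hu₀m⟩, hu₀⟩ := exists_prime_orderOf_dvd_card' (G := stabilizer G (x, b)) 2
    ((by norm_num : 2 ∣ 4).trans hB4)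
  rw [Subgroup.orderOf_mk] at hu₀
  have hfxt : ∀ u : G, orderOf u = 2 → fx Ω u = fx Ω D.t := fun u hu => fx_of_isConj (hone u hu)
  have h2le : 2 ≤ fx Ω u₀ := by
    rw [fx, Nat.card_eq_fintype_card]
    exact Fintype.one_lt_card_iff.mpr ⟨⟨x, congrArg Prod.fst hu₀m⟩, ⟨b, congrArg Prod.snd hu₀m⟩,
      fun e => hb (congrArg Subtype.val e).symm⟩
  have ht3 : fx Ω D.t = 3 := by
    have := K.fx_t D
    rw [hfxt u₀ hu₀] at h2le
    omega
  have h3 : ∀ u : G, orderOf u = 2 → fx Ω u = 3 := fun u hu => (hfxt u hu).trans ht3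
  have hp14 : p % 4 = 1 := by
    have := K.fx_involution D.orderOf_t
    rw [ht3] at this
    omega
  obtain ⟨i, hi⟩ : ∃ i : ℤ, q = 8 * i + 4 := by
    have h : 6 * ((p : ℤ) - 1) = 2 * q ^ 2 - q - 4 := by rw [hq]; linarith
    obtain ⟨j, hj⟩ : ∃ j : ℤ, (p : ℤ) = 4 * j + 1 := ⟨(p / 4 : ℕ), by omega⟩
    rw [hj] at h
    obtain ⟨r, hr⟩ : ∃ r, q = 2 * r := by rw [hq, hm]; exact ⟨3 * m + 2, by ring⟩
    rw [hr] at h ⊢
    have h' : 24 * j = 8 * r ^ 2 - 2 * r - 4 := by linarith
    exact ⟨(2 * r - 4) / 8, by omega⟩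
  have hl8 : 8 ∣ l := by
    have : (8 : ℤ) ∣ (l : ℤ) := ⟨(2 * i + 1) * s, by rw [hl2, hi]; ring⟩
    exact_mod_cast this
  have hnoC := no_involution_in_stabilizer K hc hone' h3 hl8
  have hC : Odd C := by
    rw [← Nat.not_even_iff_odd, even_iff_two_dvd]
    intro h
    obtain ⟨⟨w, hwm⟩, hw⟩ := exists_prime_orderOf_dvd_card' (G := stabilizer G (x, c)) 2 h
    rw [Subgroup.orderOf_mk] at hw
    exact hnoC w hw hwm
  obtain ⟨Co, hCo⟩ := hC
  obtain ⟨T, hT⟩ := D.odd_p
  have h16 : ¬ 16 ∣ Nat.card G := by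
    rintro ⟨d, hd⟩
    have : ((3 * p * (l * C) : ℕ) : ℤ) = ((16 * d : ℕ) : ℤ) := by exact_mod_cast hGc.symm.trans hd
    push_cast [hl2, hi, hm, hCo, hT] at this
    ring_nf at this
    omega
  have h8 : 8 ∣ Nat.card G := hGc ▸ dvd_mul_of_dvd_right (dvd_mul_of_dvd_left hl8 _) _
  have hB8 : ¬ 8 ∣ B := by
    rintro ⟨d, hd⟩
    refine h16 ?_
    have hk0 : (2 : ℤ) ∣ k := ⟨(2 * i + 1) * (2 * s + 1), by
      have : 2 * (k : ℤ) = 2 * (2 * ((2 * i + 1) * (2 * s + 1))) := by rw [hk2, hi]; ring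
      linarith⟩
    obtain ⟨e, he⟩ : 2 ∣ k := by exact_mod_cast hk0
    exact ⟨3 * p * e * d, by rw [hGb, hd, he]; ring⟩
  -- the exact power of two dividing `p - 1`
  have hp8 : p % 8 = 5 := by
    obtain ⟨z, hz2, P, hzP, hzc⟩ := Cfsg.Agent.S0446.result (G := G)
      (even_iff_two_dvd.mpr ((by norm_num : 2 ∣ 8).trans h8))
    have hPc : (P : Subgroup G) ≤ Subgroup.centralizer ({z} : Set G) := fun y hy =>
      Subgroup.mem_centralizer_singleton_iff.mpr (hzc y hy)
    have hP8 : 2 ^ 3 ∣ Nat.card P := by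
      rw [P.card_eq_multiplicity]
      exact pow_dvd_pow 2 ((Nat.prime_two.pow_dvd_iff_le_factorization Nat.card_pos.ne').mp h8)
    have hcz : Nat.card (Subgroup.centralizer ({D.t} : Set G)) =
        Nat.card (Subgroup.centralizer ({z} : Set G)) := by
      have h1 := Invol.card_isConj_mul_card_centralizer D.t
      have h2 := Invol.card_isConj_mul_card_centralizer z
      have e : Nat.card {v : G // IsConj D.t v} = Nat.card {v : G // IsConj z v} :=
        Nat.card_congr (Equiv.subtypeEquivRight fun v =>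
          ⟨fun h => (hone z hz2).symm.trans h, fun h => (hone z hz2).trans h⟩)
      rw [← h2, e] at h1
      exact Nat.eq_of_mul_eq_mul_left (Nat.card_pos_iff.mpr ⟨⟨⟨z, IsConj.refl z⟩⟩, inferInstance⟩) h1
    obtain ⟨c', hc'⟩ : 8 ∣ Nat.card (Subgroup.centralizer ({D.t} : Set G)) :=
      hcz ▸ hP8.trans (Subgroup.card_dvd_of_le hPc)
    have hn : ¬ 8 ∣ Nat.card (Sylow p G) := by
      rintro ⟨d, hd⟩
      exact h16 ⟨p * d, by rw [K.card_G, hd]; ring⟩
    rcases (show p % 8 = 1 ∨ p % 8 = 5 by omega) with h | h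
    · exfalso
      obtain ⟨j, hj⟩ : ∃ j, p = 8 * j + 1 := ⟨p / 8, by omega⟩
      unfold HasEq at heq
      rw [hc'] at heq
      obtain ⟨n₀, hn₀⟩ : ∃ n₀, Nat.card (Sylow p G) = n₀ := ⟨_, rfl⟩
      rw [hn₀, hj] at heq
      push_cast at heq
      have hj0 : (j : ℤ) ≠ 0 := by omega
      have h3' : 2 * (c' : ℤ) ^ 2 * (16 * j + 1) = (n₀ : ℤ) * j := by
        refine mul_left_cancel₀ (mul_ne_zero (by norm_num : (512 : ℤ) ≠ 0) hj0) ?_
        linear_combination heq
      obtain ⟨n₁, hn₁⟩ : 4 ∣ n₀ := by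
        have h1 : 8 ∣ 2 * p * n₀ := by rw [← hn₀, ← K.card_G]; exact h8
        have h2 : 4 ∣ p * n₀ := by rw [mul_assoc] at h1; omega
        exact (Nat.Coprime.pow_left 2 (Nat.coprime_two_left.mpr ⟨T, hT⟩)).dvd_of_dvd_mul_left h2
      have hc2 : 2 ∣ c' := by
        refine Nat.prime_two.dvd_of_dvd_pow (n := 2) ?_
        have : (2 : ℤ) ∣ (c' : ℤ) ^ 2 * (16 * j + 1) := ⟨n₁ * j, by
          rw [hn₁] at h3'; push_cast at h3'; linarith⟩
        have h2 : IsCoprime (2 : ℤ) (16 * j + 1) := ⟨-8 * j, 1, by ring⟩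
        exact_mod_cast h2.dvd_of_dvd_mul_right this
      obtain ⟨c'', rfl⟩ := hc2
      have := Subgroup.card_subgroup_dvd_card (Subgroup.centralizer ({D.t} : Set G))
      rw [hc', ← mul_assoc] at this
      exact h16 (dvd_of_mul_right_dvd this)
    · exact h
  refine ⟨x, b, hb, hone', ⟨D.t, D.orderOf_t⟩, h3, ?_, ⟨h8, h16⟩, ⟨hB4, hB8⟩, ?_, ?_⟩
  · intro u a a' hu ha ha' hne
    refine (hcov a a' hne).resolve_right ?_
    rintro ⟨g, rfl, rfl⟩
    refine hnoC (g⁻¹ * u * g) ?_ ?_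
    · have := Invol.conj_orderOf_two hu g⁻¹
      rwa [inv_inv] at this
    · refine Prod.ext ?_ ?_ <;>
        simp only [Prod.smul_mk, mul_smul, inv_smul_eq_iff, ha, ha']
  · intro g a a' hg ha ha'
    by_contra hne
    have hg2 : orderOf (g * g) = 2 := by
      rw [← pow_two, orderOf_pow_of_dvd two_ne_zero (by rw [hg]; norm_num), hg]
    have hsub : fixedBy Ω g ⊆ fixedBy Ω (g * g) := fun y hy => by
      show (g * g) • y = y
      rw [mul_smul, show g • y = y from hy, show g • y = y from hy]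
    have hcard : (fixedBy Ω (g * g)).ncard = 3 := by rw [← Nat.card_coe_set_eq]; exact h3 _ hg2
    have hle := Set.ncard_le_ncard hsub (Set.toFinite _)
    have h2g : 2 ≤ (fixedBy Ω g).ncard :=
      (Set.one_lt_ncard (Set.toFinite _)).mpr ⟨a, ha, a', ha', Ne.symm hne⟩
    have heq3 : fixedBy Ω (g * g) = fixedBy Ω g := by
      refine (Set.eq_of_subset_of_ncard_le hsub ?_ (Set.toFinite _)).symm
      by_contra hlt
      obtain ⟨z, hz, hzg⟩ : ∃ z ∈ fixedBy Ω (g * g), z ∉ fixedBy Ω g := by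
        by_contra h
        push Not at h
        exact hlt (Set.ncard_le_ncard h (Set.toFinite _))
      have hgz : g • z ∈ fixedBy Ω (g * g) := by
        show (g * g) • g • z = g • z
        rw [mul_smul, ← mul_smul g g z, show (g * g) • z = z from hz]
      have hgz' : g • z ∉ fixedBy Ω g := fun h => hzg (smul_left_cancel g h)
      have : ({z, g • z} : Set Ω) ∪ fixedBy Ω g ⊆ fixedBy Ω (g * g) :=
        Set.union_subset (Set.insert_subset hz (Set.singleton_subset_iff.mpr hgz)) hsub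
      have h' := Set.ncard_le_ncard this (Set.toFinite _)
      rw [Set.ncard_union_eq (by
          rw [Set.disjoint_left]; rintro y (rfl | rfl) h
          exacts [hzg h, hgz' h]) (Set.toFinite _) (Set.toFinite _),
        Set.ncard_pair (Ne.symm fun e => hzg e)] at h'
      omega
    have := K.fx_four hg (by rw [fx, fx, heq3])
    rw [show fx Ω g = 3 by rw [fx, ← heq3]; exact h3 _ hg2] at this
    omega
  · have hs : s ≠ 1 ∧ s ≠ -1 := ⟨fun e => hp5 (by subst e; omega), fun e => by subst e; omega⟩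
    rcases (show s ≤ -3 ∨ 3 ≤ s by omega) with h | h <;> nlinarith

end CfsgLib.DegreeThreeP
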