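import Cfsg.Agent.Lib.DegreeThreeP.TwoCore

/-!
# Degree `3 p`, rank three: the centraliser of an involution fixes one of its fixed points
-/

set_option autoImplicit false
set_option linter.unusedSectionVars false
set_option linter.style.haveILetI false
set_option maxHeartbeats 800000

namespace CfsgLib.DegreeThreeP

open Cfsg CfsgLib MulAction
open scoped _root_.Classical

variable {G : Type*} [Group G] [Fintype G] [IsSimpleGroup G] {Ω : Type*} [Fintype Ω]
  [MulAction G Ω] [FaithfulSMul G Ω] [IsPretransitive G Ω] {p : ℕ} [Fact p.Prime]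

theorem centralizer_conj_mem {t g c : G} :
    c * g * c⁻¹ ∈ Subgroup.centralizer ({c * t * c⁻¹} : Set G) ↔
      g ∈ Subgroup.centralizer ({t} : Set G) := by
  simp only [Subgroup.mem_centralizer_singleton_iff]
  constructor
  · intro h
    have h' := congrArg (fun w => c⁻¹ * w * c) h
    simpa [mul_assoc] using h'
  · intro h
    calc c * g * c⁻¹ * (c * t * c⁻¹) = c * (g * t) * c⁻¹ := by group
      _ = c * t * c⁻¹ * (c * g * c⁻¹) := by rw [h]; group

/-- The elements of the first kind. -/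
noncomputable def kindOne (t : G) : Finset G :=
  Finset.univ.filter fun y => y ∈ Subgroup.centralizer ({t} : Set G) ∧ Odd (orderOf (y * t))

/-- The elements of the second kind. -/
noncomputable def kindTwo (t : G) : Finset G :=
  Finset.univ.filter fun y => y ∈ Subgroup.centralizer ({t} : Set G) ∧ y ^ (2 * coreSize t) = t

namespace Three

variable {x₀ b₀ : Ω} (H : Three G Ω p x₀ b₀)

include H

theorem coreSize_eq {t u : G} (ht : orderOf t = 2) (hu : orderOf u = 2) : coreSize u = coreSize t := by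
  rw [coreSize, coreSize, card_centralizer_of_isConj (H.one t u ht hu)]

theorem kindTwo_spec {t : G} (ht : orderOf t = 2) {y : G} (hy : y ∈ kindTwo t) : fx Ω y = 1 := by
  haveI : Fact (Nat.Prime 2) := ⟨Nat.prime_two⟩
  simp only [kindTwo, Finset.mem_filter, Finset.mem_univ, true_and] at hy
  obtain ⟨hyC, hyt⟩ := hy
  set z := y ^ coreSize t
  have hzz : z * z = t := by rw [← hyt, ← pow_add, two_mul]
  have hz4 : orderOf z = 4 := by
    refine orderOf_eq_prime_pow (p := 2) (n := 1) ?_ ?_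
    · rw [pow_one, pow_two, hzz]; exact Invol.ne_one_of_orderOf_two ht
    · rw [show 2 ^ (1 + 1) = 2 + 2 from rfl, pow_add, pow_two, hzz, Invol.mul_self_of_orderOf_two ht]
  have hsub : fixedBy Ω z ⊆ fixedBy Ω t := fun a ha => by
    show t • a = a
    rw [← hzz, mul_smul, show z • a = a from ha, show z • a = a from ha]
  let A : SubMulAction (Subgroup.zpowers z) Ω :=
    { carrier := fixedBy Ω t
      smul_mem' := fun s _ ha => centralizer_smul_mem
        (Subgroup.zpowers_le.mpr (show z ∈ Subgroup.centralizer ({t} : Set G) from pow_mem hyC _) s.2) ha }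
  have hA : Nat.card A = 3 := H.three t ht
  have hmod := (IsPGroup.of_card (n := 2) (p := 2) (G := Subgroup.zpowers z)
    (by rw [Nat.card_zpowers, hz4]; norm_num)).card_modEq_card_fixedPoints A
  obtain ⟨⟨⟨w, hw⟩, hwz⟩⟩ : Nonempty (fixedPoints (Subgroup.zpowers z) A) := by
    rw [← not_isEmpty_iff]
    intro h
    rw [hA, Nat.card_of_isEmpty (α := fixedPoints (Subgroup.zpowers z) A)] at hmod
    exact absurd hmod (by decide)
  have hzw : z • w = w := congrArg Subtype.val (hwz ⟨z, Subgroup.mem_zpowers z⟩)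
  have huniq : ∀ a, z • a = a → a = w := fun a ha => H.no_four z w a hz4 hzw ha
  have hyw : y • w = w := by
    refine huniq _ ?_
    rw [← mul_smul, ← show y * z = z * y from Commute.self_pow y _, mul_smul, hzw]
  have hfix : fixedBy Ω y = {w} := by
    refine Set.eq_singleton_iff_unique_mem.mpr ⟨hyw, fun a ha => huniq a ?_⟩
    exact mem_stabilizer_iff.mp (pow_mem (mem_stabilizer_iff.mpr ha) _)
  rw [fx, hfix, Nat.card_eq_fintype_card]
  rfl

theorem kindTwo_card {g : G} (hg : orderOf g = 4) {t : G} (ht : orderOf t = 2) :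
    2 * coreSize t ≤ (kindTwo t).card := by
  have hg2 : orderOf (g * g) = 2 := by
    rw [← pow_two, orderOf_pow_of_dvd two_ne_zero (by rw [hg]; norm_num), hg]
  obtain ⟨c, rfl⟩ := isConj_iff.mp (H.one (g * g) t hg2 ht)
  rw [H.coreSize_eq hg2 ht]
  set t := g * g with ht'
  obtain ⟨f⟩ := H.exists_frame hg2
  obtain ⟨O, hO⟩ := f.exists_core H
  have hgC : g ∈ Subgroup.centralizer ({t} : Set G) :=
    Subgroup.mem_centralizer_singleton_iff.mpr (mul_assoc g g g).symm
  obtain ⟨o, ho, s, hs, hos⟩ := f.decomp hO hgC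
  have hss : s * s = t := f.sq_of_decomp hO ho hs f.tS (by rw [← hos])
  have hs' : s⁻¹ * s⁻¹ = t := by rw [← mul_inv_rev, hss, Invol.inv_of_orderOf_two hg2]
  have hne : s ≠ s⁻¹ := fun e => Invol.ne_one_of_orderOf_two hg2 (by
    rw [← hss]; nth_rewrite 2 [e]; exact mul_inv_cancel s)
  have hbase : 2 * coreSize t ≤ (kindTwo t).card := by
    have key : ∀ w ∈ f.S, w * w = t → ∀ o ∈ O, o * w ∈ kindTwo t := by
      intro w hw hww o ho
      simp only [kindTwo, Finset.mem_filter, Finset.mem_univ, true_and]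
      refine ⟨mul_mem (f.core_le hO ho) (f.le_cent hw), ?_⟩
      have e1 : (o * w) * (o * w) = o * (w * o * w⁻¹) * t := by rw [← hww]; group
      have e2 : o * (w * o * w⁻¹) ∈ O := mul_mem ho (f.core_conj hO (f.le_cent hw) ho)
      have e3 : Commute (o * (w * o * w⁻¹)) t :=
        Subgroup.mem_centralizer_singleton_iff.mp (f.core_le hO e2)
      obtain ⟨k, hk⟩ := f.core_odd hO
      rw [f.core_card hO] at hk
      rw [pow_mul, pow_two, e1, e3.mul_pow, f.core_pow hO e2, one_mul, hk, pow_succ, pow_mul,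
        pow_two, f.tt, one_pow, one_mul]
    let ψ : O × Bool → {y // y ∈ kindTwo t} := fun q =>
      ⟨(q.1 : G) * (if q.2 then s else s⁻¹), by
        rcases q.2 with _ | _
        · exact key _ (inv_mem hs) hs' q.1 q.1.2
        · exact key _ hs hss q.1 q.1.2⟩
    have hinj : Function.Injective ψ := by
      rintro ⟨⟨a, ha⟩, i⟩ ⟨⟨a', ha'⟩, i'⟩ h
      have h' : a * (if i then s else s⁻¹) = a' * (if i' then s else s⁻¹) := congrArg Subtype.val h
      set w := (if i then s else s⁻¹)
      set w' := (if i' then s else s⁻¹)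
      have hwS : ∀ j : Bool, (if j then s else s⁻¹) ∈ f.S := fun j => by
        rcases j with _ | _; exacts [inv_mem hs, hs]
      have e : (a' : G)⁻¹ * a = w' * w⁻¹ := by
        rw [eq_mul_inv_iff_mul_eq, mul_assoc, h', inv_mul_cancel_left]
      have h1 : w' * w⁻¹ = 1 :=
        f.core_inf hO (mul_mem (hwS i') (inv_mem (hwS i))) (e ▸ mul_mem (inv_mem ha') ha)
      have hw : w' = w := mul_inv_eq_one.mp h1
      refine Prod.ext (Subtype.ext (mul_right_cancel (h'.trans (by rw [hw])))) ?_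
      rcases i with _ | _ <;> rcases i' with _ | _ <;> simp [w, w', hne, Ne.symm hne] at hw ⊢
    have := Nat.card_le_card_of_injective ψ hinj
    rw [Nat.card_prod, f.core_card hO, Nat.card_eq_fintype_card (α := Bool), Fintype.card_bool,
      Nat.card_eq_fintype_card, Fintype.card_coe, mul_comm] at this
    exact this
  refine hbase.trans (Finset.card_le_card_of_injOn (fun y => c * y * c⁻¹) ?_ ?_)
  · intro y hy
    simp only [kindTwo, Finset.coe_filter, Finset.mem_univ, true_and, Set.mem_setOf_eq] at hy ⊢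
    refine ⟨centralizer_conj_mem.mpr hy.1, ?_⟩
    rw [show coreSize (c * t * c⁻¹) = coreSize t from H.coreSize_eq hg2 ht, conj_pow, hy.2]
  · intro a _ b _ h
    exact mul_left_cancel (mul_right_cancel h)

/-- If the centraliser moves the point fixed by a Sylow subgroup, the sums over the first kind. -/
theorem kindOne_sums {t : G} (f : Frame G Ω t)
    (hmove : ∃ g ∈ Subgroup.centralizer ({t} : Set G), g • f.x ≠ f.x) :
    (kindOne t).card = coreSize t ∧ ∑ y ∈ kindOne t, dev Ω y = -(coreSize t : ℤ) ∧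
      ∑ y ∈ kindOne t, dev Ω y ^ 2 = 3 * (coreSize t : ℤ) := by
  obtain ⟨O, hO⟩ := f.exists_core H
  have hset : kindOne t = (Finset.univ.filter (· ∈ O)).image (· * t) := by
    ext y
    simp only [kindOne, Finset.mem_filter, Finset.mem_univ, true_and, Finset.mem_image]
    constructor
    · rintro ⟨hy, ho⟩
      exact ⟨y * t, (hO.1 _).mpr ⟨mul_mem hy (f.le_cent f.tS), ho⟩, by rw [mul_assoc, f.tt, mul_one]⟩
    · rintro ⟨o, ho, rfl⟩
      refine ⟨mul_mem (f.core_le hO ho) (f.le_cent f.tS), ?_⟩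
      rw [mul_assoc, f.tt, mul_one]
      exact ((hO.1 o).mp ho).2
  have hfx : ∀ o ∈ O, fixedBy Ω (o * t) = fixedBy Ω t ∩ fixedBy Ω o := by
    intro o ho
    ext a
    refine ⟨fun h => ?_, fun h => ?_⟩
    · have hta : t • a = a := by
        have h1 := mem_stabilizer_iff.mp (pow_mem (mem_stabilizer_iff.mpr h) (coreSize t))
        obtain ⟨k, hk⟩ := f.core_odd hO
        rw [f.core_card hO] at hk
        rwa [(show Commute o t from Subgroup.mem_centralizer_singleton_iff.mp (f.core_le hO ho)).mul_pow,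
          f.core_pow hO ho, one_mul, hk, pow_succ, pow_mul, pow_two, f.tt, one_pow, one_mul] at h1
      refine ⟨hta, ?_⟩
      have h' : (o * t) • a = a := h
      rwa [mul_smul, hta] at h'
    · show (o * t) • a = a
      rw [mul_smul, show t • a = a from h.1]
      exact h.2
  have hval : ∀ o ∈ O, fx Ω (o * t) = if o • f.x = f.x then 3 else 0 := by
    intro o ho
    split_ifs with h
    · rw [fx, hfx o ho, Set.inter_eq_left.mpr (show fixedBy Ω t ⊆ fixedBy Ω o from fun z hz => f.core_fix hO H ho f.x_fix h hz),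
        Nat.card_coe_set_eq, H.ncard_fix f.ht]
    · rw [fx, hfx o ho, Nat.card_coe_set_eq, Set.ncard_eq_zero]
      refine Set.eq_empty_iff_forall_notMem.mpr fun a ⟨ha, hoa⟩ => h ?_
      exact f.core_fix hO H ho ha hoa f.x_fix
  -- the core is transitive on the three points
  obtain ⟨g, hgC, hgx⟩ := hmove
  obtain ⟨o₁, ho₁, s, hs, rfl⟩ := f.decomp hO hgC
  rw [mul_smul, f.Sx s hs] at hgx
  have horb : Nat.card (orbit O f.x) = 3 := by
    have h2 : 2 ≤ Nat.card (orbit O f.x) := by
      rw [Nat.card_eq_fintype_card]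
      exact Fintype.one_lt_card_iff.mpr ⟨⟨_, mem_orbit_self _⟩, ⟨_, mem_orbit _ (⟨o₁, ho₁⟩ : O)⟩,
        fun e => hgx (congrArg Subtype.val e).symm⟩
    have h3 : Nat.card (orbit O f.x) ≤ 3 := by
      rw [Nat.card_coe_set_eq, ← H.ncard_fix f.ht]
      refine Set.ncard_le_ncard ?_ (Set.toFinite _)
      rintro _ ⟨o, rfl⟩
      exact centralizer_smul_mem (f.core_le hO o.2) f.x_fix
    have h := Nat.card_congr (orbitProdStabilizerEquivGroup O f.x)
    rw [Nat.card_prod] at h
    obtain ⟨k, hk⟩ := f.core_odd hO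
    rcases (show Nat.card (orbit O f.x) = 2 ∨ Nat.card (orbit O f.x) = 3 by omega) with e | e
    · rw [e, hk] at h; omega
    · exact e
  have hstab : 3 * ((Finset.univ.filter (· ∈ O)).filter fun o => o • f.x = f.x).card = coreSize t := by
    have h := Nat.card_congr (orbitProdStabilizerEquivGroup O f.x)
    rw [Nat.card_prod, horb, f.core_card hO] at h
    rw [← h, Finset.filter_filter, ← Fintype.card_subtype, ← Nat.card_eq_fintype_card]
    congr 1
    exact Nat.card_congr
      { toFun := fun o => ⟨⟨o, o.2.1⟩, o.2.2⟩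
        invFun := fun o => ⟨(o : O), (o : O).2, o.2⟩
        left_inv := fun _ => rfl
        right_inv := fun _ => rfl }
  have hcard : (Finset.univ.filter (· ∈ O)).card = coreSize t := by
    rw [← Fintype.card_subtype, ← Nat.card_eq_fintype_card, ← f.core_card hO]
  have hinj : Set.InjOn (· * t) (Finset.univ.filter (· ∈ O) : Set G) := fun a _ b _ h =>
    mul_right_cancel h
  set n := ((Finset.univ.filter (· ∈ O)).filter fun o => o • f.x = f.x).card
  set n' := ((Finset.univ.filter (· ∈ O)).filter fun o => ¬ o • f.x = f.x).card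
  have hnn : n + n' = coreSize t :=
    (Finset.card_filter_add_card_filter_not (s := Finset.univ.filter (· ∈ O))
      (fun o => o • f.x = f.x)).trans hcard
  have hsum : ∀ F : ℕ → ℤ, ∑ y ∈ kindOne t, F (fx Ω y) = n * F 3 + n' * F 0 := by
    intro F
    rw [hset, Finset.sum_image hinj, Finset.sum_congr rfl (g := fun o =>
      if o • f.x = f.x then F 3 else F 0) fun o ho => by
        rw [hval o (Finset.mem_filter.mp ho).2, apply_ite F], Finset.sum_ite, Finset.sum_const,
      Finset.sum_const, nsmul_eq_mul, nsmul_eq_mul]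
  refine ⟨by rw [hset, Finset.card_image_of_injOn hinj, hcard], ?_, ?_⟩
  · refine (hsum fun a => (a : ℤ) - 2).trans ?_
    push_cast; omega
  · refine (hsum fun a => ((a : ℤ) - 2) ^ 2).trans ?_
    push_cast; omega

/-- Some centraliser of an involution fixes one of the points fixed by that involution. -/
theorem exists_centred (K : Ctx G Ω p) (hR : rank G Ω = 3) (hp13 : 13 ≤ p) :
    ∃ t : G, orderOf t = 2 ∧ ∃ x : Ω, x ∈ fixedBy Ω t ∧
      ∀ g ∈ Subgroup.centralizer ({t} : Set G), g • x = x := by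
  by_contra hno
  push Not at hno
  obtain ⟨t₀, ht₀⟩ := H.exists_invol
  obtain ⟨g₀, hg₀⟩ := (H.exists_frame ht₀).some.exists_order_four H
  set m := coreSize t₀
  set I := Finset.univ.filter fun t : G => orderOf t = 2 with hI
  set E : G → Finset G := fun t => kindOne t ∪ kindTwo t
  have hdata : ∀ t ∈ I, coreSize t = m ∧ (kindOne t).card = m ∧
      ∑ y ∈ kindOne t, dev Ω y = -(m : ℤ) ∧ ∑ y ∈ kindOne t, dev Ω y ^ 2 = 3 * (m : ℤ) ∧
      Disjoint (kindOne t) (kindTwo t) := by
    intro t ht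
    have ht2 := (Finset.mem_filter.mp ht).2
    obtain ⟨f⟩ := H.exists_frame ht2
    obtain ⟨h1, h2, h3⟩ := H.kindOne_sums f (hno t ht2 f.x f.x_fix)
    have hm : coreSize t = m := H.coreSize_eq ht₀ ht2
    rw [hm] at h1 h2 h3
    refine ⟨hm, h1, h2, h3, Finset.disjoint_left.mpr fun y hy hy' => ?_⟩
    simp only [kindOne, kindTwo, Finset.mem_filter, Finset.mem_univ, true_and] at hy hy'
    obtain ⟨O, hO⟩ := f.exists_core H
    have ho : y * t ∈ O := (hO.1 _).mpr ⟨mul_mem hy.1 (f.le_cent f.tS), hy.2⟩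
    have hc : Commute y t := Subgroup.mem_centralizer_singleton_iff.mp hy.1
    have e : (y * t) ^ (2 * coreSize t) = 1 := by
      rw [mul_comm, pow_mul, f.core_pow hO ho, one_pow]
    rw [hc.mul_pow, hy'.2, pow_mul, pow_two, f.tt, one_pow, mul_one] at e
    exact Invol.ne_one_of_orderOf_two ht2 e
  have hpow : ∀ t ∈ I, ∀ y ∈ kindOne t, y ^ m = t ∧ y ^ (2 * m) = 1 := by
    intro t ht y hy
    obtain ⟨f⟩ := H.exists_frame (Finset.mem_filter.mp ht).2
    obtain ⟨O, hO⟩ := f.exists_core H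
    simp only [kindOne, Finset.mem_filter, Finset.mem_univ, true_and] at hy
    have ho : y * t ∈ O := (hO.1 _).mpr ⟨mul_mem hy.1 (f.le_cent f.tS), hy.2⟩
    have hc : Commute y t := Subgroup.mem_centralizer_singleton_iff.mp hy.1
    have hyt : y = y * t * t := by rw [mul_assoc, f.tt, mul_one]
    have h1 : y ^ m = t := by
      obtain ⟨k, hk⟩ := f.core_odd hO
      rw [f.core_card hO] at hk
      rw [← (hdata t ht).1, hyt, (hc.mul_left (Commute.refl t)).mul_pow, f.core_pow hO ho, one_mul,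
        hk, pow_succ, pow_mul, pow_two, f.tt, one_pow, one_mul]
    exact ⟨h1, by rw [mul_comm, pow_mul, h1, pow_two, f.tt]⟩
  have hpow2 : ∀ t ∈ I, ∀ y ∈ kindTwo t, y ^ (2 * m) = t := fun t ht y hy => by
    rw [← (hdata t ht).1]; exact (Finset.mem_filter.mp hy).2.2
  have hdisj : (I : Set G).PairwiseDisjoint E := by
    intro t ht u hu htu
    rw [Function.onFun, Finset.disjoint_left]
    intro y hy hy'
    rcases Finset.mem_union.mp hy with a | a <;> rcases Finset.mem_union.mp hy' with b | b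
    · exact htu ((hpow t ht y a).1.symm.trans (hpow u hu y b).1)
    · exact Invol.ne_one_of_orderOf_two (Finset.mem_filter.mp hu).2
        ((hpow2 u hu y b).symm.trans (hpow t ht y a).2)
    · exact Invol.ne_one_of_orderOf_two (Finset.mem_filter.mp ht).2
        ((hpow2 t ht y a).symm.trans (hpow u hu y b).2)
    · exact htu ((hpow2 t ht y a).symm.trans (hpow2 u hu y b))
  set U := I.biUnion E
  set N₂ := ∑ t ∈ I, (kindTwo t).card
  have hU1 : (U.card : ℤ) = I.card * m + N₂ := by
    rw [Finset.card_biUnion hdisj, Finset.sum_congr rfl fun t ht => by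
      rw [Finset.card_union_of_disjoint (hdata t ht).2.2.2.2, (hdata t ht).2.1],
      Finset.sum_add_distrib, Finset.sum_const, smul_eq_mul]
    push_cast [N₂]; rfl
  have hdev2 : ∀ t ∈ I, ∀ y ∈ kindTwo t, dev Ω y = -1 := fun t ht y hy => by
    rw [dev, H.kindTwo_spec (Finset.mem_filter.mp ht).2 hy]; norm_num
  have hU2 : ∑ y ∈ U, dev Ω y = -(I.card * m : ℤ) - N₂ := by
    rw [Finset.sum_biUnion hdisj, Finset.sum_congr rfl fun t ht => by
      rw [Finset.sum_union (hdata t ht).2.2.2.2, (hdata t ht).2.2.1,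
        Finset.sum_congr rfl (hdev2 t ht), Finset.sum_const],
      Finset.sum_add_distrib, Finset.sum_const]
    simp only [nsmul_eq_mul, mul_neg, mul_one, Finset.sum_neg_distrib, N₂, Nat.cast_sum]
    ring
  have hU3 : ∑ y ∈ U, dev Ω y ^ 2 = 3 * (I.card * m : ℤ) + N₂ := by
    rw [Finset.sum_biUnion hdisj, Finset.sum_congr rfl fun t ht => by
      rw [Finset.sum_union (hdata t ht).2.2.2.2, (hdata t ht).2.2.2.1,
        Finset.sum_congr rfl (g := fun _ => (1 : ℤ)) fun y hy => by rw [hdev2 t ht y hy]; norm_num,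
        Finset.sum_const],
      Finset.sum_add_distrib, Finset.sum_const]
    simp only [nsmul_eq_mul, mul_one, N₂, Nat.cast_sum]
    ring
  have hN2 : 2 * ((I.card : ℤ) * m) ≤ N₂ := by
    have : I.card * (2 * m) ≤ N₂ := by
      rw [← smul_eq_mul]
      refine Finset.card_nsmul_le_sum _ _ _ fun t ht => ?_
      rw [← (hdata t ht).1]
      exact H.kindTwo_card hg₀ (Finset.mem_filter.mp ht).2
    have h' : ((I.card * (2 * m) : ℕ) : ℤ) ≤ N₂ := by exact_mod_cast this
    push_cast at h'
    linarith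
  have hG : (Fintype.card G : ℤ) = 8 * (I.card * m) := by
    have h := Invol.card_isConj_mul_card_centralizer t₀
    obtain ⟨f⟩ := H.exists_frame ht₀
    obtain ⟨O, hO⟩ := f.exists_core H
    rw [← hO.2, f.core_card hO, Nat.card_congr (Equiv.subtypeEquivRight fun v =>
      (⟨fun h => by obtain ⟨c, rfl⟩ := isConj_iff.mp h; exact Invol.conj_orderOf_two ht₀ c,
        fun h => H.one t₀ v ht₀ h⟩ : IsConj t₀ v ↔ orderOf v = 2)),
      Nat.card_eq_fintype_card, Fintype.card_subtype, Nat.card_eq_fintype_card] at h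
    rw [← h]; push_cast; ring
  have hreg : U ⊆ K.reg := by
    intro y hy
    obtain ⟨t, ht, hy⟩ := Finset.mem_biUnion.mp hy
    rw [K.mem_reg]
    intro hpd
    rcases Finset.mem_union.mp hy with a | a
    · obtain ⟨f⟩ := H.exists_frame (Finset.mem_filter.mp ht).2
      obtain ⟨O, hO⟩ := f.exists_core H
      have hd : p ∣ coreSize t * 2 := by
        rw [(hdata t ht).1, mul_comm]
        exact hpd.trans (orderOf_dvd_of_pow_eq_one (hpow t ht y a).2)
      have hpo : p ∣ Nat.card O := by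
        rw [f.core_card hO]
        exact ((Nat.coprime_primes K.prime Nat.prime_two).mpr (by omega)).dvd_of_dvd_mul_right hd
      obtain ⟨⟨v, hv⟩, hvo⟩ := exists_prime_orderOf_dvd_card' (G := O) p hpo
      rw [Subgroup.orderOf_mk] at hvo
      let A : SubMulAction (Subgroup.zpowers v) Ω :=
        { carrier := fixedBy Ω t
          smul_mem' := fun s _ ha => centralizer_smul_mem
            (Subgroup.zpowers_le.mpr (f.core_le hO hv) s.2) ha }
      have hA : Nat.card A = 3 := H.three t f.ht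
      have hmod := (IsPGroup.of_card (n := 1) (G := Subgroup.zpowers v)
        (by rw [Nat.card_zpowers, hvo, pow_one])).card_modEq_card_fixedPoints A
      haveI : IsEmpty (fixedPoints (Subgroup.zpowers v) A) := ⟨fun ⟨z, hz⟩ =>
        K.free hvo (z : Ω) (congrArg Subtype.val (hz ⟨v, Subgroup.mem_zpowers v⟩))⟩
      rw [hA, Nat.card_of_isEmpty (α := fixedPoints (Subgroup.zpowers v) A)] at hmod
      have := Nat.le_of_dvd (by norm_num) (Nat.modEq_zero_iff_dvd.mp hmod)
      omega
    · have := H.kindTwo_spec (Finset.mem_filter.mp ht).2 a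
      rw [K.fx_singular hpd] at this
      omega
  set W := K.reg \ U
  have hW1 : (W.card : ℤ) = K.reg.card - U.card := by
    rw [Finset.card_sdiff_of_subset hreg, Nat.cast_sub (Finset.card_le_card hreg)]
  have hW2 : ∑ y ∈ W, dev Ω y = ∑ y ∈ K.reg, dev Ω y - ∑ y ∈ U, dev Ω y :=
    Finset.sum_sdiff_eq_sub hreg
  have hW3 : ∑ y ∈ W, dev Ω y ^ 2 = ∑ y ∈ K.reg, dev Ω y ^ 2 - ∑ y ∈ U, dev Ω y ^ 2 :=
    Finset.sum_sdiff_eq_sub hreg
  have hcs : (∑ y ∈ W, dev Ω y) ^ 2 ≤ (W.card : ℤ) * ∑ y ∈ W, dev Ω y ^ 2 := sq_sum_le_card_mul_sum_sq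
  set M : ℤ := (I.card : ℤ) * m with hM
  have hM0 : 0 < M := by
    have : (0 : ℤ) < Fintype.card G := by exact_mod_cast Fintype.card_pos
    omega
  have hpR : (p : ℤ) * K.reg.card = 4 * ((p : ℤ) + 1) * M := by
    have := K.card_reg
    rw [hG] at this
    linarith
  have hpS : (p : ℤ) * ∑ y ∈ K.reg, dev Ω y = -(8 * M) := by rw [K.sum_dev, hG]
  have hpQ : (p : ℤ) * ∑ y ∈ K.reg, dev Ω y ^ 2 = ((p : ℤ) + 2) * (8 * M) := by
    rw [K.sum_dev_sq, hG, hR]; push_cast; ring
  have hp0 : (0 : ℤ) < p := by exact_mod_cast K.prime.pos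
  have hN2p : (p : ℤ) * (2 * M) ≤ p * N₂ := mul_le_mul_of_nonneg_left hN2 hp0.le
  have a1 : (p : ℤ) * W.card ≤ ((p : ℤ) + 4) * M := by rw [hW1, hU1]; linarith
  have a2 : (3 * (p : ℤ) - 8) * M ≤ p * ∑ y ∈ W, dev Ω y := by rw [hW2, hU2]; linarith
  have a3 : (p : ℤ) * ∑ y ∈ W, dev Ω y ^ 2 ≤ (3 * (p : ℤ) + 16) * M := by rw [hW3, hU3]; linarith
  have hp13' : (13 : ℤ) ≤ p := by exact_mod_cast hp13
  have hb : ((3 * (p : ℤ) - 8) * M) ^ 2 ≤ (((p : ℤ) + 4) * M) * ((3 * (p : ℤ) + 16) * M) := by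
    calc ((3 * (p : ℤ) - 8) * M) ^ 2 ≤ (p * ∑ y ∈ W, dev Ω y) ^ 2 :=
          pow_le_pow_left₀ (mul_nonneg (by linarith) hM0.le) a2 2
      _ = (p : ℤ) ^ 2 * (∑ y ∈ W, dev Ω y) ^ 2 := mul_pow _ _ _
      _ ≤ (p : ℤ) ^ 2 * ((W.card : ℤ) * ∑ y ∈ W, dev Ω y ^ 2) :=
          mul_le_mul_of_nonneg_left hcs (sq_nonneg _)
      _ = (p * W.card) * (p * ∑ y ∈ W, dev Ω y ^ 2) := by ring
      _ ≤ _ := mul_le_mul a1 a3 (mul_nonneg hp0.le (Finset.sum_nonneg fun _ _ => sq_nonneg _))
          (mul_nonneg (by linarith) hM0.le)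
  have hpos : 0 < M ^ 2 * ((3 * (p : ℤ) - 8) ^ 2 - ((p : ℤ) + 4) * (3 * p + 16)) := by
    refine mul_pos (pow_pos hM0 2) ?_
    nlinarith
  linarith [show ((3 * (p : ℤ) - 8) * M) ^ 2 - (((p : ℤ) + 4) * M) * ((3 * (p : ℤ) + 16) * M) =
    M ^ 2 * ((3 * (p : ℤ) - 8) ^ 2 - ((p : ℤ) + 4) * (3 * p + 16)) by ring]

end Three

end CfsgLib.DegreeThreeP
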